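import Cfsg.Agent.Lib.SpinCover.Cells

/-!
The kernel of a perfect central extension of the even-dimensional split orthogonal group has at
most two elements.
-/

set_option autoImplicit false
set_option linter.unusedSectionVars false

namespace CfsgLib.SpinCover

open Matrix CfsgLib.ChevClassical CfsgLib.SLCover HypForm
open scoped commutatorElement

variable {ι : Type} [Fintype ι] [DecidableEq ι] {F : Type*} [Field F] [Fintype F]
variable {H : HypForm ι F} {E : Type*} [Group E] [Finite E]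

variable (H) in
/-- the candidate for a non-trivial kernel element -/
noncomputable def zEl (ρ : E →* GL ι F) (a b : ι) : E :=
  hh H ρ a b (-1) * hh H ρ a (H.bar b) (-1)

variable {ρ : E →* GL ι F} (C : Cover H ρ)
include C

namespace Cover

theorem kernel_base {a b : ι} (h : H.LOK a b) {g : E}
    (hg : g ∈ gS H ρ {a, H.bar a, b, H.bar b}) (h1 : ρ g = 1) :
    g = 1 ∨ (g = zEl H ρ a b ∧ (-1 : F) ≠ 1) := by
  have hb := lok_barRight h
  obtain ⟨φ, f1, f2, fv⟩ := C.exists_sl2 h
  obtain ⟨ψ, p1, p2, pv⟩ := C.exists_sl2 hb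
  have c11 : ∀ s u : F, Commute (lift H ρ a b s) (lift H ρ a (H.bar b) u) := fun s u =>
    C.commute_bar h s u
  have c12 : ∀ s u : F, Commute (lift H ρ a b s) (lift H ρ (H.bar b) a u) := fun s u => by
    have e1 : lift H ρ a b s = lift H ρ (H.bar b) (H.bar a) (-s) := by
      rw [C.lift_symm h, neg_neg]
    rw [e1]
    exact (C.commute_bar (lok_comm H hb) u _).symm
  have c21 : ∀ s u : F, Commute (lift H ρ b a s) (lift H ρ a (H.bar b) u) := fun s u => by
    have e1 : lift H ρ a (H.bar b) u = lift H ρ b (H.bar a) (-u) := by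
      have := C.lift_symm hb (-u)
      rw [H.bar_bar, neg_neg] at this
      exact this.symm
    rw [e1]
    exact C.commute_bar (lok_comm H h) s _
  have c22 : ∀ s u : F, Commute (lift H ρ b a s) (lift H ρ (H.bar b) a u) := fun s u => by
    have h' := LOK.symm H (lok_comm H h)
    have e1 : lift H ρ b a s = lift H ρ (H.bar a) (H.bar b) (-s) := by
      rw [C.lift_symm (lok_comm H h), neg_neg]
    have e2 : lift H ρ (H.bar b) a u = lift H ρ (H.bar a) (H.bar (H.bar b)) (-u) := by
      rw [C.lift_symm (lok_comm H hb), neg_neg]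
    rw [e1, e2]
    exact C.commute_bar h' _ _
  have hcomm : ∀ A B : Matrix.SpecialLinearGroup (Fin 2) F, Commute (φ A) (ψ B) := by
    intro A
    refine CfsgLib.Linear.SL_transvection_induction
      (fun A : Matrix.SpecialLinearGroup (Fin 2) F => ∀ B, Commute (φ A) (ψ B)) ?_ ?_ ?_ A
    · intro B; rw [map_one]; exact Commute.one_left _
    · intro i j hij s B
      refine CfsgLib.Linear.SL_transvection_induction
        (fun B : Matrix.SpecialLinearGroup (Fin 2) F => Commute _ (ψ B)) ?_ ?_ ?_ B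
      · rw [map_one]; exact Commute.one_right _
      · intro k l hkl u
        rw [← xt_eq hij, ← xt_eq hkl]
        fin_cases i <;> fin_cases j <;> (try exact absurd rfl hij) <;>
          fin_cases k <;> fin_cases l <;> (try exact absurd rfl hkl)
        all_goals
          simp only [Fin.zero_eta, Fin.mk_one, f1, f2, p1, p2]
        exacts [c11 s u, c12 s u, c21 s u, c22 s u]
      · intro B B' hB hB'
        rw [map_mul]; exact hB.mul_right hB'
    · intro A A' hA hA' B
      rw [map_mul]; exact (hA B).mul_left (hA' B)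
  have hgen : ∀ x ∈ gS H ρ {a, H.bar a, b, H.bar b},
      ∃ A B, x = φ A * ψ B := by
    intro x hx
    induction hx using Subgroup.closure_induction with
    | mem x hx =>
      obtain ⟨p, q, t, hp, hq, hpq, rfl⟩ := hx
      have s1 : ∀ t, lift H ρ (H.bar b) (H.bar a) t = lift H ρ a b (-t) := C.lift_symm h
      have s2 : ∀ t, lift H ρ (H.bar a) (H.bar b) t = lift H ρ b a (-t) :=
        C.lift_symm (lok_comm H h)
      have s3 : ∀ t, lift H ρ b (H.bar a) t = lift H ρ a (H.bar b) (-t) := fun t => by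
        have := C.lift_symm hb t
        rwa [H.bar_bar] at this
      have s4 : ∀ t, lift H ρ (H.bar a) b t = lift H ρ (H.bar b) a (-t) := fun t => by
        have := C.lift_symm (lok_comm H hb) t
        rwa [H.bar_bar] at this
      simp only [Finset.mem_insert, Finset.mem_singleton] at hp hq
      rcases hp with rfl | rfl | rfl | rfl <;> rcases hq with rfl | rfl | rfl | rfl
      all_goals first
        | exact absurd rfl hpq.2.2.1
        | exact absurd rfl hpq.2.2.2
        | exact absurd (H.bar_bar _).symm hpq.2.2.2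
        | (refine ⟨xt 0 1 t, 1, ?_⟩; rw [f1, map_one, mul_one]; done)
        | (refine ⟨xt 1 0 t, 1, ?_⟩; rw [f2, map_one, mul_one]; done)
        | (refine ⟨1, xt 0 1 t, ?_⟩; rw [p1, map_one, one_mul]; done)
        | (refine ⟨1, xt 1 0 t, ?_⟩; rw [p2, map_one, one_mul]; done)
        | (refine ⟨xt 0 1 (-t), 1, ?_⟩; rw [f1, map_one, mul_one, s1]; done)
        | (refine ⟨xt 1 0 (-t), 1, ?_⟩; rw [f2, map_one, mul_one, s2]; done)
        | (refine ⟨1, xt 0 1 (-t), ?_⟩; rw [p1, map_one, one_mul, s3]; done)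
        | (refine ⟨1, xt 1 0 (-t), ?_⟩; rw [p2, map_one, one_mul, s4]; done)
    | one => exact ⟨1, 1, by simp⟩
    | mul x y _ _ hx hy =>
      obtain ⟨A, B, rfl⟩ := hx
      obtain ⟨A', B', rfl⟩ := hy
      refine ⟨A * A', B * B', ?_⟩
      rw [map_mul, map_mul]
      calc φ A * ψ B * (φ A' * ψ B') = φ A * (ψ B * φ A') * ψ B' := by group
        _ = _ := by rw [← (hcomm A' B).eq]; group
    | inv x _ hx =>
      obtain ⟨A, B, rfl⟩ := hx
      exact ⟨A⁻¹, B⁻¹, by rw [map_inv, map_inv, _root_.mul_inv_rev, ((hcomm A B).inv_inv).eq]⟩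
  obtain ⟨A, B, rfl⟩ := hgen g hg
  have hAB : ρ (φ A⁻¹) = ρ (ψ B) := by
    rw [map_inv, map_inv]
    exact inv_eq_of_mul_eq_one_right (by rw [← map_mul, h1])
  obtain ⟨n1, n2, n3, n4, n5, n6⟩ := lok_ne h
  have ev : ∀ v : ι → F, (ρ (φ A⁻¹) : Matrix ι ι F) *ᵥ v = (ρ (ψ B) : Matrix ι ι F) *ᵥ v :=
    fun v => by rw [hAB]
  set A' := A⁻¹ with hA'
  have k0 := congrFun (ev (Pi.single a 1)) a
  have k1 := congrFun (ev (Pi.single a 1)) b
  have k2 := congrFun (ev (Pi.single b 1)) a
  have k3 := congrFun (ev (Pi.single b 1)) b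
  have k4 := congrFun (ev (Pi.single (H.bar b) 1)) a
  have k5 := congrFun (ev (Pi.single (H.bar b) 1)) (H.bar b)
  have k6 := congrFun (ev (Pi.single a 1)) (H.bar b)
  obtain ⟨q1, q2, q3, q4, q5⟩ := pv B (Pi.single a 1)
  obtain ⟨r1, r2, r3, r4, r5⟩ := pv B (Pi.single b 1)
  obtain ⟨t1, t2, t3, t4, t5⟩ := pv B (Pi.single (H.bar b) 1)
  obtain ⟨u1, u2, u3, u4, u5⟩ := fv A' (Pi.single a 1)
  obtain ⟨v1, v2, v3, v4, v5⟩ := fv A' (Pi.single b 1)
  obtain ⟨w1, w2, w3, w4, w5⟩ := fv A' (Pi.single (H.bar b) 1)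
  rw [H.bar_bar] at q4 r4
  rw [u1, q1] at k0
  rw [u2, q4] at k1
  rw [v1, r1] at k2
  rw [v2, r4] at k3
  rw [w1, t1] at k4
  rw [w4, t2] at k5
  rw [u4, q2] at k6
  simp [Pi.single_eq_of_ne, n1, n2, n3, n4, n5, n6, n1.symm, n2.symm, n3.symm, n4.symm, n5.symm,
    n6.symm] at k0 k1 k2 k3 k4 k5 k6
  have hdet := B.2
  rw [Matrix.det_fin_two, ← k4, ← k5, ← k6, ← k0] at hdet
  simp only [mul_zero, sub_zero] at hdet
  have hk : A'.1 0 0 = 1 ∨ A'.1 0 0 = -1 := mul_self_eq_one_iff.1 hdet
  have hA1 : A' = B := by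
    apply Subtype.ext
    ext i j
    fin_cases i <;> fin_cases j <;>
      simp_all
  set d := A'.1 0 0
  have hd : A'.1 = Matrix.diagonal ![d, d⁻¹] := by
    have hinv : d⁻¹ = d := by rcases hk with e | e <;> rw [e] <;> simp
    rw [hinv]
    ext i j
    have h11 : A'.1 1 1 = d := k3.trans k0.symm
    fin_cases i <;> fin_cases j <;> simp [Matrix.diagonal, k1, k2, h11, d]
  by_cases hd1 : d = 1
  · left
    have : A' = 1 := by
      apply Subtype.ext
      rw [hd, hd1, inv_one]
      ext i j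
      fin_cases i <;> fin_cases j <;> simp
    have hA2 : A = 1 := inv_eq_one.1 this
    rw [hA2, ← hA1, this, map_one, map_one, one_mul]
  · right
    have hdn : d = -1 := hk.resolve_left hd1
    refine ⟨?_, hdn ▸ hd1⟩
    have hdd : A'.1 = Matrix.diagonal ![-1, (-1 : F)⁻¹] := by rw [hd, hdn]
    let h₂ : Matrix.SpecialLinearGroup (Fin 2) F :=
      (xt (0 : Fin 2) 1 (-1) * xt 1 0 (-(-1)⁻¹) * xt 0 1 (-1)) *
        (xt 0 1 (-1) * xt 1 0 (-(-1 : F)⁻¹) * xt 0 1 (-1))
    have hh2 : h₂.1 = Matrix.diagonal ![-1, (-1 : F)⁻¹] :=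
      xt_weyl_mul (neg_ne_zero.2 one_ne_zero)
    have eA : A' = h₂ := Subtype.ext (hdd.trans hh2.symm)
    have eA2 : A = h₂ := by
      have h22 : h₂ * h₂ = 1 := by
        apply Subtype.ext
        show h₂.1 * h₂.1 = 1
        rw [hh2, Matrix.diagonal_mul_diagonal]
        ext i j
        fin_cases i <;> fin_cases j <;> simp
      calc A = A'⁻¹ := by rw [hA', inv_inv]
        _ = h₂ := by rw [eA]; exact inv_eq_of_mul_eq_one_right h22
    rw [eA2, ← hA1, eA, zEl, hh, hh, wl, wl]
    simp only [h₂, map_mul, f1, f2, p1, p2]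

theorem kernel_descend {a b : ι} (h : H.LOK a b) :
    ∀ n (S : Finset ι), S.card ≤ n → (∀ i ∈ S, H.bar i ∈ S ∧ H.bar i ≠ i) →
      a ∈ S → b ∈ S → ∀ g ∈ gS H ρ S, ρ g = 1 →
      g = 1 ∨ (g = zEl H ρ a b ∧ (-1 : F) ≠ 1) := by
  intro n
  induction n with
  | zero =>
    intro S hS _ ha
    rw [Nat.le_zero, Finset.card_eq_zero] at hS
    subst hS
    exact absurd ha (Finset.notMem_empty a)
  | succ n ih =>
    intro S hS hbar ha hb g hg h1
    by_cases hx : ∃ x ∈ S, x ∉ ({a, H.bar a, b, H.bar b} : Finset ι)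
    · obtain ⟨x, hxS, hx⟩ := hx
      simp only [Finset.mem_insert, Finset.mem_singleton, not_or] at hx
      obtain ⟨x1, x2, x3, x4⟩ := hx
      set R := (S.erase x).erase (H.bar x) with hR
      have memR : ∀ {i}, i ∈ R ↔ i ≠ H.bar x ∧ i ≠ x ∧ i ∈ S := by
        intro i; simp [hR, Finset.mem_erase]
      have L : Lvl H R x := by
        refine ⟨fun i hi => ?_, (hbar x hxS).2, fun e => (memR.1 e).2.1 rfl,
          fun e => (memR.1 e).1 rfl⟩
        obtain ⟨i1, i2, i3⟩ := memR.1 hi
        exact ⟨memR.2 ⟨fun e => i2 (H.bar_inj e), fun e => i1 (by rw [← e, H.bar_bar]),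
          (hbar i i3).1⟩, (hbar i i3).2⟩
      have haR : a ∈ R := memR.2 ⟨fun e => x2 (by rw [e, H.bar_bar]), Ne.symm x1, ha⟩
      have hbR : b ∈ R := memR.2 ⟨fun e => x4 (by rw [e, H.bar_bar]), Ne.symm x3, hb⟩
      have hins : insert x (insert (H.bar x) R) = S := by
        rw [hR, Finset.insert_erase (Finset.mem_erase.2 ⟨(hbar x hxS).2, (hbar x hxS).1⟩),
          Finset.insert_erase hxS]
      have hg' := C.descend L haR ⟨b, hbR, h.2.2.1.symm,
        fun e => h.2.2.2 (by rw [e, H.bar_bar])⟩ (hins.symm ▸ hg) h1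
      refine ih R ?_ L.bars haR hbR g hg' h1
      have hlt : R.card < S.card := Finset.card_lt_card
        ⟨fun i hi => (memR.1 hi).2.2, fun hsub => (memR.1 (hsub hxS)).2.1 rfl⟩
      omega
    · refine C.kernel_base h (Subgroup.closure_mono ?_ hg) h1
      simp only [not_exists, not_and, not_not] at hx
      rintro y ⟨p, q, t, hp, hq, hpq, rfl⟩
      exact ⟨p, q, t, hx p hp, hx q hq, hpq, rfl⟩

/-- The kernel has at most two elements, and one in characteristic two. -/
theorem kernel_le (hperf : commutator E = ⊤) (hno : ∀ i, H.bar i ≠ i)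
    (hrange : ρ.range ≤ H.elemGroup) {a b : ι} (h : H.LOK a b) {g : E} (h1 : ρ g = 1) :
    g = 1 ∨ (g = zEl H ρ a b ∧ (-1 : F) ≠ 1) := by
  refine C.kernel_descend h _ Finset.univ le_rfl (fun i _ => ⟨Finset.mem_univ _, hno i⟩)
    (Finset.mem_univ a) (Finset.mem_univ b) g ?_ h1
  suffices gS H ρ Finset.univ = ⊤ by rw [this]; trivial
  have hmap : (gS H ρ Finset.univ).map ρ.rangeRestrict = ⊤ := by
    rw [eq_top_iff]
    rintro ⟨x, hx⟩ -
    have hx' := hrange hx
    have : x ∈ (gS H ρ Finset.univ).map ρ := by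
      clear hx
      induction hx' using Subgroup.closure_induction with
      | mem y hy =>
        rcases hy with ⟨p, q, hpq, t, rfl⟩ | ⟨z, p, hz, t, rfl⟩
        · exact ⟨lift H ρ p q t, Subgroup.subset_closure
            ⟨p, q, t, Finset.mem_univ _, Finset.mem_univ _, hpq, rfl⟩, C.proj hpq t⟩
        · exact absurd hz.1 (hno z)
      | one => exact one_mem _
      | mul y z _ _ hy hz => exact mul_mem hy hz
      | inv y _ hy => exact inv_mem hy
    obtain ⟨y, hy, e⟩ := this
    exact ⟨y, hy, Subtype.ext e⟩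
  have := commutator_le_of_map_eq_top ρ.rangeRestrict
    (by rw [MonoidHom.ker_rangeRestrict]; exact C.central) _ hmap
  rw [hperf] at this
  exact top_le_iff.1 this

end Cover

end CfsgLib.SpinCover
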