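import Cfsg.Agent.Lib.SpinCover.Plus
import Mathlib.GroupTheory.SpecificGroups.KleinFour

/-!
The kernel of the projection of the spin group to the simple orthogonal group.
-/

set_option autoImplicit false
set_option linter.unusedSectionVars false

namespace CfsgLib.SpinCover

open Matrix CfsgLib.ChevClassical CfsgLib.SLCover HypForm
open scoped commutatorElement

namespace Cover

variable {F : Type*} [Field F] [Fintype F]
variable {ι : Type} [Fintype ι] [DecidableEq ι] {H : HypForm ι F} {E : Type*} [Group E] [Finite E]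
  {ρ : E →* GL ι F} (C : Cover H ρ)
include C

theorem hh_commute_diag {g : E} {γ : ι → F} (M : Mono H (ρ g) id γ) {x y : ι} (h : H.LOK x y)
    {t : F} (ht : t ≠ 0) : Commute g (hh H ρ x y t) := by
  have hk := div_ne_zero (M.ne_zero x) (M.ne_zero y)
  have e := C.conj_hh M h t
  rw [id, id, mul_div_assoc, ← (C.rank_one h).2.1 t _ ht hk, mul_inv_cancel_right,
    mul_inv_eq_iff_eq_mul] at e
  exact e

theorem hh_neg_sq {x y : ι} (h : H.LOK x y) :
    hh H ρ x y (-1) * hh H ρ x y (-1) = 1 := by
  rw [(C.rank_one h).2.1 _ _ (neg_ne_zero.2 one_ne_zero) (neg_ne_zero.2 one_ne_zero),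
    neg_mul_neg, one_mul, C.hh_one h]

theorem zEl_sq {a b : ι} (h : H.LOK a b) : zEl H ρ a b * zEl H ρ a b = 1 := by
  have hb := lok_barRight h
  have hn : (-1 : F) ≠ 0 := neg_ne_zero.2 one_ne_zero
  obtain ⟨γ, Mγ, -⟩ := C.hh_mono h hn
  have hcm : Commute (hh H ρ a b (-1)) (hh H ρ a (H.bar b) (-1)) := C.hh_commute_diag Mγ hb hn
  rw [zEl, mul_assoc, ← mul_assoc (hh H ρ a (H.bar b) (-1)), ← hcm.eq,
    mul_assoc (hh H ρ a b (-1)), C.hh_neg_sq hb, mul_one, C.hh_neg_sq h]

end Cover

variable {F : Type*} [Field F] [Fintype F] {m : ℕ}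
variable (hm : 4 ≤ m) (hne : ¬ (m = 4 ∧ Fintype.card F = 2))
include hm hne

omit hm hne in
theorem lok_inl {i j : Fin m} (h : i ≠ j) : (plusForm F m).LOK (.inl i) (.inl j) :=
  ⟨plus_bar_ne _, plus_bar_ne _, by simpa using h, by simp [plusForm]⟩

theorem exists_even_sign (s : Finset (Fin m)) (hs : Even s.card) :
    ∃ (ω : SpinPlus F m) (γ : Fin m ⊕ Fin m → F),
      Mono (plusForm F m) ((spinor (F := F) m).act ω) id γ ∧ ω * ω = 1 ∧
      ∀ i, γ i = if Sum.elim id id i ∈ s then -1 else 1 := by
  classical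
  set H := plusForm F m
  set S := spinor (F := F) m
  have C := spin_cover (F := F) hm hne
  induction s using Finset.strongInduction with
  | _ s ih =>
    rcases s.eq_empty_or_nonempty with rfl | ⟨i, hi⟩
    · exact ⟨1, fun _ => 1, by rw [map_one]; exact Mono.one, one_mul 1, by simp⟩
    obtain ⟨j, hj⟩ : (s.erase i).Nonempty := by
      rw [← Finset.card_pos, Finset.card_erase_of_mem hi]
      obtain ⟨k, hk⟩ := hs
      have := Finset.card_pos.2 ⟨i, hi⟩
      omega
    obtain ⟨hji, hjs⟩ := Finset.mem_erase.1 hj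
    have hss : (s.erase i).erase j ⊂ s :=
      Finset.ssubset_of_subset_of_ssubset (Finset.erase_subset _ _) (Finset.erase_ssubset hi)
    obtain ⟨ω, γ, Mγ, hω, hγ⟩ := ih _ hss (by
      rw [Finset.card_erase_of_mem hj, Finset.card_erase_of_mem hi]
      obtain ⟨k, hk⟩ := hs
      exact ⟨k - 1, by omega⟩)
    have h := lok_inl (F := F) hji.symm
    obtain ⟨δ, Mδ, v1, v2, v3, v4, v5⟩ := C.hh_mono h (neg_ne_zero.2 (one_ne_zero (α := F)))
    refine ⟨ω * hh H S.act (.inl i) (.inl j) (-1), fun x => γ x * δ x, ?_, ?_, fun x => ?_⟩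
    · rw [map_mul]
      exact Mγ.mul Mδ
    · have hc := C.hh_commute_diag Mγ h (neg_ne_zero.2 (one_ne_zero (α := F)))
      calc ω * hh H S.act (.inl i) (.inl j) (-1) * (ω * hh H S.act (.inl i) (.inl j) (-1))
          = ω * (hh H S.act (.inl i) (.inl j) (-1) * ω) * hh H S.act (.inl i) (.inl j) (-1) := by
            group
        _ = (ω * ω) * (hh H S.act (.inl i) (.inl j) (-1) * hh H S.act (.inl i) (.inl j) (-1)) := by
            rw [← hc.eq]; simp only [H, S, mul_assoc]
        _ = 1 := by rw [hω, C.hh_neg_sq h, one_mul]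
    · rw [inv_neg, inv_one] at v2 v3
      rcases x with x | x
      · by_cases e1 : x = i
        · subst e1
          show γ _ * δ _ = _
          rw [hγ, v1]; simp [hi]
        by_cases e2 : x = j
        · subst e2
          show γ _ * δ _ = _
          rw [hγ, v2]; simp [hjs]
        show γ _ * δ _ = _
        rw [hγ, v5 _ (by simpa using e1) (by simpa using e2) (by simp [H, plusForm])
          (by simp [H, plusForm])]
        simp [e1, e2]
        congr
      · by_cases e1 : x = i
        · subst e1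
          show γ _ * δ _ = _
          rw [hγ, show δ (.inr x) = -1 from v3]; simp [hi]
        by_cases e2 : x = j
        · subst e2
          show γ _ * δ _ = _
          rw [hγ, show δ (.inr x) = -1 from v4]; simp [hjs]
        show γ _ * δ _ = _
        rw [hγ, v5 _ (by simp) (by simp) (by simpa [H, plusForm] using e1)
          (by simpa [H, plusForm] using e2)]
        simp [e1, e2]
        congr

/-- an element acting as `-1` whose square is the non-trivial kernel element -/
theorem exists_quarter (hodd : Odd m) (h1 : Fintype.card F % 4 = 1) (a b : Fin m ⊕ Fin m)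
    (h : (plusForm F m).LOK a b) :
    ∃ ω : SpinPlus F m, Mono (plusForm F m) ((spinor (F := F) m).act ω) id (fun _ => -1) ∧
      ω * ω = zEl (plusForm F m) (spinor (F := F) m).act a b := by
  classical
  set H := plusForm F m
  set S := spinor (F := F) m
  have C := spin_cover (F := F) hm hne
  obtain ⟨c, hc⟩ : IsSquare (-1 : F) := by rw [FiniteField.isSquare_neg_one_iff]; omega
  have hc0 : c ≠ 0 := fun e => by simp [e] at hc
  set i₀ := Sum.elim id id a
  obtain ⟨w, γ, Mγ, hw, hγ⟩ := exists_even_sign (F := F) hm hne (Finset.univ.erase i₀) (by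
    rw [Finset.card_erase_of_mem (Finset.mem_univ _), Finset.card_univ, Fintype.card_fin]
    obtain ⟨k, hk⟩ := hodd
    exact ⟨k, by omega⟩)
  have hb := lok_barRight h
  obtain ⟨δ, Mδ, e1, e2, e3⟩ := C.hh_bar_mono h hc0
  set x := hh H S.act a b c * hh H S.act a (H.bar b) c
  refine ⟨w * x, ?_, ?_⟩
  · have hfun : (fun i => γ i * δ i) = fun _ => (-1 : F) := by
      funext i
      rw [hγ]
      by_cases i1 : i = a
      · subst i1; rw [e1, ← hc]; simp [i₀]
      by_cases i2 : i = H.bar a
      · subst i2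
        rw [e2, ← mul_inv, ← hc]
        rcases a with a | a <;> simp [i₀, H, plusForm, inv_neg]
      rw [e3 i i1 i2]
      have : Sum.elim id id i ≠ i₀ := by
        intro e
        rcases i with i | i <;> rcases a with a | a <;> simp_all [i₀, H, plusForm]
      simp [this]
    rw [← hfun, map_mul]
    exact Mγ.mul Mδ
  · have hcx : Commute w x :=
      (C.hh_commute_diag Mγ h hc0).mul_right (C.hh_commute_diag Mγ hb hc0)
    obtain ⟨ε, Mε, -⟩ := C.hh_mono h hc0
    have hcm : Commute (hh H S.act a b c) (hh H S.act a (H.bar b) c) :=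
      C.hh_commute_diag Mε hb hc0
    have s1 : hh H S.act a b c * hh H S.act a b c = hh H S.act a b (-1) := by
      rw [(C.rank_one h).2.1 c c hc0 hc0, ← hc]
    have s2 : hh H S.act a (H.bar b) c * hh H S.act a (H.bar b) c =
        hh H S.act a (H.bar b) (-1) := by
      rw [(C.rank_one hb).2.1 c c hc0 hc0, ← hc]
    calc w * x * (w * x) = w * (x * w) * x := by simp only [mul_assoc]
      _ = (w * w) * (x * x) := by rw [← hcx.eq]; simp only [mul_assoc]
      _ = (hh H S.act a b c * hh H S.act a b c) *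
          (hh H S.act a (H.bar b) c * hh H S.act a (H.bar b) c) := by
        rw [hw, one_mul]
        simp only [x]
        rw [mul_assoc, ← mul_assoc (hh H S.act a (H.bar b) c), ← hcm.eq]
        simp only [mul_assoc]
      _ = _ := by rw [s1, s2]; rfl

/-- the image of an element in the kernel -/
theorem ker_image {π : SpinPlus F m →* Cfsg.POmega F (Cfsg.quadFormPlus m F)}
    (hπ : ∀ x, π x = 1 ↔ ∀ g : GL (Fin m ⊕ Fin m) F, g ∈ (spinor (F := F) m).act.range →
        g * (spinor (F := F) m).act x = (spinor (F := F) m).act x * g) {x : SpinPlus F m} :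
    π x = 1 ↔ (spinor (F := F) m).act x = 1 ∨
      Mono (plusForm F m) ((spinor (F := F) m).act x) id fun _ => -1 := by
  set S := spinor (F := F) m
  rw [hπ]
  constructor
  · intro hc
    have hg : S.act x ∈ (plusForm F m).orth :=
      elemGroup_le_orth (CliffMap.act_range_le S ⟨x, rfl⟩)
    obtain ⟨k, hk, hs⟩ := central_scalar hm hne hg fun a b h => hc _ (CliffMap.act_range_ge S h 1)
    have hk0 : k ≠ 0 := fun e => by simp [e] at hk
    have M : Mono (plusForm F m) (S.act x) id fun _ => k :=
      ⟨Function.injective_id, fun _ => rfl, hs, fun _ => hk0, fun _ _ => hk⟩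
    rcases mul_self_eq_one_iff.1 hk with rfl | rfl
    · exact Or.inl (M.ext_single Mono.one (fun _ => rfl) fun _ => rfl)
    · exact Or.inr M
  · rintro (e | M) g -
    · rw [e, one_mul, mul_one]
    · have hval : ∀ v, (S.act x : Matrix (Fin m ⊕ Fin m) (Fin m ⊕ Fin m) F) *ᵥ v = -v := fun v => by
        funext i
        have := M.apply v i
        rwa [id, neg_one_mul] at this
      exact glExt fun v => by rw [mulVec_glMul, mulVec_glMul, hval, hval, Matrix.mulVec_neg]

theorem act_ker_two {a b : Fin m ⊕ Fin m} (h : (plusForm F m).LOK a b) {x : SpinPlus F m}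
    (hx : (spinor (F := F) m).act x = 1) :
    x = 1 ∨ (x = zEl (plusForm F m) (spinor (F := F) m).act a b ∧ (-1 : F) ≠ 1) :=
  (spin_cover hm hne).kernel_le (spin_perfect' hm hne) plus_bar_ne (CliffMap.act_range_le _) h hx

theorem zEl_ne_one {a b : Fin m ⊕ Fin m} (h : (plusForm F m).LOK a b) (h2 : (2 : F) ≠ 0) :
    zEl (plusForm F m) (spinor (F := F) m).act a b ≠ 1 := fun e => by
  have := CliffMap.zEl_val (spinor (F := F) m) (spin_cover hm hne) h
  rw [e] at this
  exact spinor_one_ne_neg_one h2 (by simpa using this)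

section
variable {π : SpinPlus F m →* Cfsg.POmega F (Cfsg.quadFormPlus m F)}
  (hπ : ∀ x, π x = 1 ↔ ∀ g : GL (Fin m ⊕ Fin m) F, g ∈ (spinor (F := F) m).act.range →
        g * (spinor (F := F) m).act x = (spinor (F := F) m).act x * g)
include hπ

theorem ker_even (h2 : (2 : F) = 0) : π.ker = ⊥ := by
  rw [eq_bot_iff]
  intro x hx
  obtain ⟨a, b, h⟩ := exists_lok (F := F) hm hne
  have hm1 : (-1 : F) = 1 := by linear_combination -h2
  have hx1 : (spinor (F := F) m).act x = 1 := by
    rcases (ker_image hm hne hπ).1 hx with e | M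
    · exact e
    · exact M.ext_single Mono.one (fun _ => rfl) fun _ => hm1
  rcases act_ker_two hm hne h hx1 with e | ⟨-, e⟩
  · exact e
  · exact absurd hm1 e

theorem ker_two (h2 : (2 : F) ≠ 0) {a b : Fin m ⊕ Fin m} (h : (plusForm F m).LOK a b)
    (hno : ∀ x, ¬ Mono (plusForm F m) ((spinor (F := F) m).act x) id fun _ => -1) :
    Nat.card π.ker = 2 := by
  set z := zEl (plusForm F m) (spinor (F := F) m).act a b
  have hz : π z = 1 :=
    (ker_image hm hne hπ).2 (Or.inl ((spin_cover hm hne).zEl_image h))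
  rw [Nat.card_eq_two_iff]
  refine ⟨1, ⟨z, hz⟩, fun e => zEl_ne_one hm hne h h2 (congrArg Subtype.val e).symm, ?_⟩
  refine Set.eq_univ_of_forall fun x => ?_
  rcases (ker_image hm hne hπ).1 x.2 with e | M
  · rcases act_ker_two hm hne h e with e | ⟨e, -⟩
    · exact Or.inl (Subtype.ext e)
    · exact Or.inr (Subtype.ext e)
  · exact absurd M (hno _)

theorem ker_four (h2 : (2 : F) ≠ 0) {a b : Fin m ⊕ Fin m} (h : (plusForm F m).LOK a b)
    {ω : SpinPlus F m} (hω : Mono (plusForm F m) ((spinor (F := F) m).act ω) id fun _ => -1) :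
    Nat.card π.ker = 4 ∧ ω ∈ π.ker ∧ zEl (plusForm F m) (spinor (F := F) m).act a b ∈ π.ker ∧
    ω ≠ 1 ∧ ω ≠ zEl (plusForm F m) (spinor (F := F) m).act a b ∧
    ∀ x ∈ π.ker, x = 1 ∨ x = zEl (plusForm F m) (spinor (F := F) m).act a b ∨ x = ω ∨
      x = ω * zEl (plusForm F m) (spinor (F := F) m).act a b := by
  classical
  set S := spinor (F := F) m
  set z := zEl (plusForm F m) S.act a b
  have hz1 : S.act z = 1 := (spin_cover hm hne).zEl_image h
  have hzk : π z = 1 := (ker_image hm hne hπ).2 (Or.inl hz1)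
  have hωk : π ω = 1 := (ker_image hm hne hπ).2 (Or.inr hω)
  have hω1 : S.act ω ≠ 1 := fun e => by
    have := (hω.single (.inl ⟨0, by omega⟩))
    rw [e, mulVec_glOne] at this
    have := congrFun this (.inl ⟨0, by omega⟩)
    simp at this
    exact h2 (by linear_combination this)
  have hzn := zEl_ne_one hm hne h h2
  have hall : ∀ x ∈ π.ker, x = 1 ∨ x = z ∨ x = ω ∨ x = ω * z := by
    intro x hx
    rcases (ker_image hm hne hπ).1 hx with e | M
    · rcases act_ker_two hm hne h e with e | ⟨e, -⟩
      · exact Or.inl e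
      · exact Or.inr (Or.inl e)
    · have e : S.act (ω⁻¹ * x) = 1 := by
        rw [map_mul, map_inv, inv_mul_eq_one]
        exact hω.ext_single M (fun _ => rfl) fun _ => rfl
      rcases act_ker_two hm hne h e with e | ⟨e, -⟩
      · exact Or.inr (Or.inr (Or.inl (inv_mul_eq_one.1 e).symm))
      · exact Or.inr (Or.inr (Or.inr (inv_mul_eq_iff_eq_mul.1 e)))
  have d1 : ω ≠ 1 := fun e => hω1 (by rw [e, map_one])
  have d2 : ω ≠ z := fun e => hω1 (by rw [e, hz1])
  refine ⟨?_, hωk, hzk, d1, d2, hall⟩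
  have hset : (π.ker : Set (SpinPlus F m)) = {1, z, ω, ω * z} := by
    ext x
    refine ⟨fun hx => by simpa using hall x hx, ?_⟩
    rintro (rfl | rfl | rfl | rfl)
    exacts [map_one π, hzk, hωk, by rw [SetLike.mem_coe, MonoidHom.mem_ker, map_mul, hωk, hzk, one_mul]]
  have hc : Nat.card π.ker = ({1, z, ω, ω * z} : Set (SpinPlus F m)).ncard := by
    rw [← hset]
    exact Nat.card_coe_set_eq _
  rw [hc]
  have f1 : (1 : SpinPlus F m) ≠ z := hzn.symm
  have f2 : (1 : SpinPlus F m) ≠ ω * z := fun e => hω1 (by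
    have := congrArg S.act e
    rwa [map_mul, hz1, mul_one, map_one, eq_comm] at this)
  have f3 : z ≠ ω * z := fun e => d1 (by simpa using e.symm)
  have f4 : ω ≠ ω * z := fun e => hzn (by simpa using e.symm)
  rw [Set.ncard_eq_toFinset_card']
  simp [f1, f2, f3, f4, d1.symm, d2.symm]

end

omit hm hne in
theorem negOne_not_mem (h3 : Fintype.card F % 4 = 3) (hodd : Odd m) (hm1 : 1 ≤ m)
    (g : ↥(Cfsg.isometryGroup F (Cfsg.quadFormPlus m F)))
    (hg : g ∈ Cfsg.Omega F (Cfsg.quadFormPlus m F)) :
    ((g : GL (Fin m ⊕ Fin m) F) : Matrix (Fin m ⊕ Fin m) (Fin m ⊕ Fin m) F) ≠ -1 := by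
  classical
  intro hv
  have h2 : (2 : F) ≠ 0 := by
    intro h2
    haveI : CharP F 2 := CharTwo.of_one_ne_zero_of_two_eq_zero one_ne_zero h2
    have : Fintype.card F % 2 = 0 := by
      obtain ⟨n, hp, hcard⟩ := FiniteField.card F 2
      rw [hcard, Nat.pow_mod, Nat.mod_self, zero_pow n.ne_zero, Nat.zero_mod]
    omega
  let Q : QuadraticForm F (Fin m ⊕ Fin m → F) :=
    ∑ i : Fin m, QuadraticMap.linMulLin (LinearMap.proj (Sum.inl i)) (LinearMap.proj (Sum.inr i))
  have hQ : ⇑Q = Cfsg.quadFormPlus m F := by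
    funext v
    simp [Q, Cfsg.quadFormPlus, QuadraticMap.sum_apply, QuadraticMap.linMulLin_apply]
  let b : Fin m ⊕ Fin m → (Fin m ⊕ Fin m → F) := fun x => match x with
    | .inl i => Pi.single (.inl i) 1 + Pi.single (.inr i) 1
    | .inr i => Pi.single (.inl i) 1 - Pi.single (.inr i) 1
  have hval : ∀ x, Q (b x) = if x.isLeft then 1 else -1 := by
    intro x
    rw [hQ]
    rcases x with i | i
    all_goals
      simp only [Cfsg.quadFormPlus, b, Sum.isLeft]
      rw [Finset.sum_eq_single i]
      · simp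
      · intro j _ hj; simp [hj]
      · simp
  have hpolar : ∀ x y, x ≠ y → QuadraticMap.polar (⇑Q) (b x) (b y) = 0 := by
    intro x y hxy
    rw [hQ]
    simp only [QuadraticMap.polar, Cfsg.quadFormPlus, ← Finset.sum_sub_distrib]
    refine Finset.sum_eq_zero fun k _ => ?_
    rcases x with i | i <;> rcases y with j | j <;>
      simp [b, Pi.single_apply] <;> split_ifs <;> simp_all <;> ring
  have key := (CfsgLib.OrthNegOne.negOne_mem_iff (Q := Q) h2 (by simp; omega)
    (κ := Fin m ⊕ Fin m) rfl (by simp) b (fun x => by rw [hval]; split_ifs <;> simp)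
    hpolar).1 (by rw [hQ]; exact ⟨g, hg, hv⟩)
  have hns : ¬ IsSquare (-1 : F) := by
    rw [FiniteField.isSquare_neg_one_iff]; simp [h3]
  rw [Fintype.prod_sum_type] at key
  simp only [hval, Sum.isLeft, if_true, Bool.false_eq_true, if_false, IsSquare.one, hns,
    Finset.prod_const_one, Finset.prod_const, Finset.card_univ, Fintype.card_fin, mul_one,
    hodd.neg_one_pow] at key
  exact absurd key (by decide)

end CfsgLib.SpinCover
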