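import Cfsg.Agent.Lib.SpinCover.Spinor
import Cfsg.Agent.Lib.ChevClassical.Final
import Cfsg.Agent.Lib.Orth.NegOne

/-!
The Schur cover of the split even-dimensional orthogonal simple group.
-/

set_option autoImplicit false
set_option linter.unusedSectionVars false

namespace CfsgLib.SpinCover

open Matrix CfsgLib.ChevClassical CfsgLib.SLCover HypForm
open scoped commutatorElement

variable {F : Type*} [Field F] [Fintype F] {m : ℕ}

theorem plus_bar_ne (i : Fin m ⊕ Fin m) : (plusForm F m).bar i ≠ i := by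
  rcases i with j | j <;> simp [plusForm]

theorem plus_ext (A : ∀ P : Finset (Fin m ⊕ Fin m), P.card = m → Admissible P F)
    (P : Finset (Fin m ⊕ Fin m)) (hP : Ori (plusForm F m) P) :
    ∃ P', Ori (plusForm F m) P' ∧ P ⊆ P' ∧ Admissible P' F := by
  classical
  let f : Fin m → Fin m ⊕ Fin m := fun i => if Sum.inr i ∈ P then Sum.inr i else Sum.inl i
  have hf : Function.Injective f := by
    intro i j e
    simp only [f] at e
    split_ifs at e <;> simpa using e
  refine ⟨Finset.univ.image f, ?_, ?_, A _ (by rw [Finset.card_image_of_injective _ hf]; simp)⟩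
  · intro x hx hx'
    simp only [Finset.mem_image, Finset.mem_univ, true_and] at hx hx'
    obtain ⟨i, rfl⟩ := hx
    obtain ⟨j, hj⟩ := hx'
    simp only [f, plusForm] at hj
    split_ifs at hj with h1 h2 h2 <;> simp at hj <;> subst hj <;> contradiction
  · intro x hx
    simp only [Finset.mem_image, Finset.mem_univ, true_and]
    rcases x with i | i
    · refine ⟨i, if_neg fun h => hP _ hx (by simpa [plusForm] using h)⟩
    · exact ⟨i, if_pos hx⟩

theorem plus_fourth (hm : 4 ≤ m) (a b c : Fin m ⊕ Fin m) : ∃ e, (plusForm F m).bar e ≠ e ∧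
    e ≠ a ∧ e ≠ (plusForm F m).bar a ∧ e ≠ b ∧ e ≠ (plusForm F m).bar b ∧ e ≠ c ∧
      e ≠ (plusForm F m).bar c := by
  obtain ⟨i, hi⟩ : ∃ i, i ∉ ({Sum.elim id id a, Sum.elim id id b, Sum.elim id id c} : Finset (Fin m)) := by
    by_contra hcon
    push Not at hcon
    have h1 := Finset.card_le_card (s := Finset.univ) fun x _ => hcon x
    have h2 := Finset.card_le_three (a := Sum.elim id id a) (b := Sum.elim id id b)
      (c := Sum.elim id id c)
    rw [Finset.card_univ, Fintype.card_fin] at h1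
    omega
  simp only [Finset.mem_insert, Finset.mem_singleton, not_or] at hi
  refine ⟨.inl i, plus_bar_ne _, ?_⟩
  rcases a with a | a <;> rcases b with b | b <;> rcases c with c | c <;>
    simp_all [plusForm]

theorem plus_cover {E : Type*} [Group E] [Finite E] {ρ : E →* GL (Fin m ⊕ Fin m) F} (hm : 4 ≤ m)
    (hc : ρ.ker ≤ Subgroup.center E) (hne : ¬ (m = 4 ∧ Fintype.card F = 2))
    (hmem : ∀ (a b : Fin m ⊕ Fin m) (h : (plusForm F m).LOK a b) (t : F), opL h t ∈ ρ.range) :
    Cover (plusForm F m) ρ :=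
  PreCover.toCover
    { central := hc
      mem := hmem
      ext := fun P hP => by
        obtain ⟨P', h1, h2, A⟩ := plus_ext (F := F) (fun P hP => by
          have hc : Fintype.card P = m := by rw [Fintype.card_coe, hP]
          exact ⟨by omega, fun h => by omega, fun h => hne ⟨by omega, h.2⟩⟩) P hP
        exact ⟨P', h1, h2, Sected.of_admissible A hc hmem⟩
      third := fun a b => by
        obtain ⟨e, he, h1, h2, h3, h4, -, -⟩ := plus_fourth (F := F) hm a b a
        exact ⟨e, he, h1, h2, h3, h4⟩ }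
    (plus_fourth hm)

/-- the Schur cover -/
abbrev SpinPlus (F : Type*) [Field F] (m : ℕ) : Type _ := (spinor (F := F) m).spin

theorem spin_cover (hm : 4 ≤ m) (hne : ¬ (m = 4 ∧ Fintype.card F = 2)) :
    Cover (plusForm F m) (spinor (F := F) m).act :=
  plus_cover hm (CliffMap.act_ker _) hne fun _ _ h t => CliffMap.act_range_ge _ h t

/-- a composite of central maps out of a perfect group has central kernel -/
theorem comp_central {E S T : Type*} [Group E] [Group S] [Group T] (p : E →* S) (f : S →* T)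
    (hp : p.ker ≤ Subgroup.center E) (hf : f.ker ≤ Subgroup.center S)
    (hperf : commutator E = ⊤) : (f.comp p).ker ≤ Subgroup.center E := by
  intro x hx
  rw [Subgroup.mem_center_iff]
  have hc : ∀ e, ⁅x, e⁆ ∈ Subgroup.center E := fun e => hp (by
    rw [MonoidHom.mem_ker, map_commutatorElement, commutatorElement_eq_one_iff_mul_comm]
    exact (Subgroup.mem_center_iff.1 (hf hx) _).symm)
  let θ : E →* E :=
    { toFun := fun e => ⁅x, e⁆
      map_one' := by simp
      map_mul' := fun a b => by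
        have := Subgroup.mem_center_iff.1 (hc b) a
        calc ⁅x, a * b⁆ = ⁅x, a⁆ * (a * ⁅x, b⁆ * a⁻¹) := by
              simp only [commutatorElement_def]; group
          _ = _ := by rw [this, mul_inv_cancel_right] }
  intro e
  have he : e ∈ θ.ker := by
    have : commutator E ≤ θ.ker := by
      rw [commutator_def, Subgroup.commutator_le]
      intro a _ b _
      rw [MonoidHom.mem_ker, map_commutatorElement, commutatorElement_eq_one_iff_mul_comm]
      exact (Subgroup.mem_center_iff.1 (hc b) _)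
    rw [hperf] at this
    exact this (Subgroup.mem_top e)
  have he' : ⁅x, e⁆ = 1 := he
  exact (commutatorElement_eq_one_iff_mul_comm.1 he').symm

namespace Cover

variable {ι : Type} [Fintype ι] [DecidableEq ι] {H : HypForm ι F} {E : Type*} [Group E] [Finite E]
  {ρ : E →* GL ι F} (C : Cover H ρ)
include C

theorem hh_bar_mono {a b : ι} (h : H.LOK a b) {t : F} (ht : t ≠ 0) :
    ∃ γ, Mono H (ρ (hh H ρ a b t * hh H ρ a (H.bar b) t)) id γ ∧ γ a = t * t ∧
      γ (H.bar a) = t⁻¹ * t⁻¹ ∧ ∀ i, i ≠ a → i ≠ H.bar a → γ i = 1 := by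
  obtain ⟨γ, Mγ, u1, u2, u3, u4, u5⟩ := C.hh_mono h ht
  obtain ⟨δ, Mδ, v1, v2, v3, v4, v5⟩ := C.hh_mono (lok_barRight h) ht
  rw [H.bar_bar] at v4 v5
  refine ⟨_, by rw [map_mul]; exact Mγ.mul Mδ, ?_, ?_, fun i i1 i2 => ?_⟩
  · simp [u1, v1]
  · simp [u3, v3]
  · show γ i * δ i = 1
    by_cases e : i = b
    · subst e; rw [u2, v4, inv_mul_cancel₀ ht]
    by_cases e' : i = H.bar b
    · subst e'; rw [u4, v2, mul_inv_cancel₀ ht]
    rw [u5 i i1 e i2 e', v5 i i1 e' i2 e, one_mul]

theorem zEl_image {a b : ι} (h : H.LOK a b) : ρ (zEl H ρ a b) = 1 := by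
  obtain ⟨γ, Mγ, e1, e2, e3⟩ := C.hh_bar_mono h (neg_ne_zero.2 (one_ne_zero (α := F)))
  refine Mγ.ext_single Mono.one (fun _ => rfl) fun i => ?_
  by_cases i1 : i = a
  · subst i1; rw [e1]; ring
  by_cases i2 : i = H.bar a
  · subst i2; rw [e2, inv_neg, inv_one]; ring
  exact e3 i i1 i2

theorem diag_sq {a b : ι} (h : H.LOK a b) (hge : ρ.range ≤ H.elemGroup) (u : F) (hu : u ≠ 0) :
    ∃ e ∈ H.elemGroup, ∀ v, (e : Matrix ι ι F) *ᵥ v =
      fun i => (if i = a then u ^ 2 else if i = H.bar a then (u ^ 2)⁻¹ else 1) * v i := by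
  obtain ⟨γ, Mγ, e1, e2, e3⟩ := C.hh_bar_mono h hu
  refine ⟨ρ (hh H ρ a b u * hh H ρ a (H.bar b) u), hge ⟨_, rfl⟩, fun v => funext fun i => ?_⟩
  rw [show ((ρ (hh H ρ a b u * hh H ρ a (H.bar b) u) : Matrix ι ι F) *ᵥ v) i = γ i * v i from
    Mγ.apply v i]
  congr 1
  split_ifs with i1 i2
  · subst i1; rw [e1, sq]
  · subst i2; rw [e2, sq, _root_.mul_inv]
  · exact e3 i i1 i2

end Cover

/-- for every field, an element commuting with the whole image acts as a scalar `±1` -/
theorem central_scalar_any (hm : 4 ≤ m) {g : GL (Fin m ⊕ Fin m) F} (hg : g ∈ (plusForm F m).orth)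
    (hc : ∀ (a b : Fin m ⊕ Fin m) (h : (plusForm F m).LOK a b), opL h 1 * g = g * opL h 1) :
    ∃ k : F, k * k = 1 ∧ ∀ i, (g : Matrix (Fin m ⊕ Fin m) (Fin m ⊕ Fin m) F) *ᵥ Pi.single i 1 = Pi.single i k := by
  set H := plusForm F m
  let k : (Fin m ⊕ Fin m) → F := fun b => ((g : Matrix (Fin m ⊕ Fin m) (Fin m ⊕ Fin m) F) *ᵥ Pi.single b 1) b
  have key : ∀ a b (h : H.LOK a b), (g : Matrix (Fin m ⊕ Fin m) (Fin m ⊕ Fin m) F) *ᵥ Pi.single a 1 =
      Pi.single a (k b) + Pi.single (H.bar b)
        (-((g : Matrix (Fin m ⊕ Fin m) (Fin m ⊕ Fin m) F) *ᵥ Pi.single b 1) (H.bar a)) := by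
    intro a b h
    have := congrArg (fun A : GL (Fin m ⊕ Fin m) F => (A : Matrix (Fin m ⊕ Fin m) (Fin m ⊕ Fin m) F) *ᵥ Pi.single b 1) (hc a b h)
    simp only [mulVec_glMul, opL_single_right, Matrix.mulVec_add, mul_one] at this
    rw [opL_mulVec, lMap_apply, one_mul, one_mul, add_assoc, add_right_inj] at this
    exact this.symm
  have hdiag : ∀ a b, H.LOK a b → (g : Matrix (Fin m ⊕ Fin m) (Fin m ⊕ Fin m) F) *ᵥ Pi.single a 1 = Pi.single a (k b) := by
    intro a b h
    obtain ⟨c, hc, ca, ca', cb, cb', -, -⟩ := plus_fourth (F := F) hm a b a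
    have hac : H.LOK a c := ⟨h.1, hc, ca.symm, fun e => ca' (by rw [e, H.bar_bar])⟩
    have e1 := key a b h
    have e2 := congrFun (e1.symm.trans (key a c hac)) (H.bar b)
    have hb1 : H.bar b ≠ a := fun e => h.2.2.2 e.symm
    have hb2 : H.bar b ≠ H.bar c := fun e => cb (H.bar_inj e).symm
    simp only [Pi.add_apply, Pi.single_eq_of_ne hb1, Pi.single_eq_of_ne hb2, Pi.single_eq_same, zero_add,
      add_zero, neg_eq_zero] at e2
    rw [e1, e2, neg_zero, Pi.single_zero, add_zero]
  have hconst : ∀ a b, H.LOK a b → k a = k b := fun a b h => by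
    have := congrFun (hdiag a b h) a
    rw [Pi.single_eq_same] at this
    exact this
  have hall : ∀ a b, k a = k b := by
    intro a b
    obtain ⟨c, hc, ca, ca', cb, cb', -, -⟩ := plus_fourth (F := F) hm a b a
    rw [hconst a c ⟨plus_bar_ne a, hc, ca.symm, fun e => ca' (by rw [e, H.bar_bar])⟩,
      hconst b c ⟨plus_bar_ne b, hc, cb.symm, fun e => cb' (by rw [e, H.bar_bar])⟩]
  obtain ⟨a⟩ : Nonempty (Fin m ⊕ Fin m) := ⟨.inl ⟨0, by omega⟩⟩
  have hs : ∀ i, (g : Matrix (Fin m ⊕ Fin m) (Fin m ⊕ Fin m) F) *ᵥ Pi.single i 1 = Pi.single i (k a) := by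
    intro i
    obtain ⟨c, hc, ca, ca', -⟩ := plus_fourth (F := F) hm i i i
    rw [hdiag i c ⟨plus_bar_ne i, hc, ca.symm, fun e => ca' (by rw [e, H.bar_bar])⟩, hall c a]
  refine ⟨k a, ?_, hs⟩
  have h1 := apply_partner hg (plus_bar_ne a) (hs a) (Pi.single (H.bar a) 1)
  rwa [hs, Pi.single_eq_same, Pi.single_eq_same] at h1

section
variable (hm : 4 ≤ m) (hne : ¬ (m = 4 ∧ Fintype.card F = 2))
include hm hne

theorem exists_lok : ∃ a b : Fin m ⊕ Fin m, (plusForm F m).LOK a b :=
  ⟨.inl ⟨0, by omega⟩, .inl ⟨1, by omega⟩, plus_bar_ne _, plus_bar_ne _, by simp,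
    by simp [plusForm]⟩

theorem spin_perfect' : commutator (SpinPlus F m) = ⊤ :=
  CliffMap.spin_perfect _ (spin_cover hm hne)

theorem act_range : (spinor (F := F) m).act.range =
    (commutator ↥(plusForm F m).orth).map (plusForm F m).orth.subtype := by
  set S := spinor (F := F) m
  have C := spin_cover hm hne
  obtain ⟨a, b, h⟩ := exists_lok hm hne
  have hle : S.act.range ≤ (plusForm F m).elemGroup := CliffMap.act_range_le _
  apply le_antisymm
  · rw [MonoidHom.range_eq_map, ← spin_perfect' hm hne, commutator_def, Subgroup.map_commutator,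
      ← MonoidHom.range_eq_map, commutator_def, Subgroup.map_commutator, ← MonoidHom.range_eq_map,
      Subgroup.range_subtype]
    exact Subgroup.commutator_mono (hle.trans elemGroup_le_orth) (hle.trans elemGroup_le_orth)
  · have h1 := commutator_orth_le (pairSwap (plus_bar_ne a))
      (fun u hu => C.diag_sq h hle u hu)
    rintro x ⟨y, hy, rfl⟩
    have hy' : (y : GL (Fin m ⊕ Fin m) F) ∈ (plusForm F m).elemGroup := h1 hy
    have gen : (plusForm F m).elemGroup ≤ S.act.range := by
      refine (Subgroup.closure_le _).2 ?_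
      rintro g (⟨p, q, hpq, t, rfl⟩ | ⟨z, p, hz, t, rfl⟩)
      · exact CliffMap.act_range_ge _ hpq t
      · exact absurd hz.1 (plus_bar_ne z)
    exact gen hy'

/-- the projection to the simple group -/
theorem exists_proj : ∃ π : SpinPlus F m →* Cfsg.POmega F (Cfsg.quadFormPlus m F),
    Function.Surjective π ∧ ∀ x, π x = 1 ↔
      ∀ g : GL (Fin m ⊕ Fin m) F, g ∈ (spinor (F := F) m).act.range →
        g * (spinor (F := F) m).act x = (spinor (F := F) m).act x * g := by
  set S := spinor (F := F) m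
  have hr := act_range (F := F) hm hne
  have hin : ∀ x, S.act x ∈ (plusForm F m).orth := fun x => by
    have : S.act x ∈ S.act.range := ⟨x, rfl⟩
    rw [hr] at this
    obtain ⟨y, -, e⟩ := this
    exact e ▸ y.2
  have hin' : ∀ x, (⟨S.act x, hin x⟩ : (plusForm F m).orth) ∈ commutator ↥(plusForm F m).orth := by
    intro x
    have : S.act x ∈ S.act.range := ⟨x, rfl⟩
    rw [hr] at this
    obtain ⟨y, hy, e⟩ := this
    rwa [show (⟨S.act x, hin x⟩ : (plusForm F m).orth) = y from Subtype.ext e.symm]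
  let φ : SpinPlus F m →* ↥(Cfsg.Omega F (Cfsg.quadFormPlus m F)) :=
    (S.act.codRestrict (plusForm F m).orth hin).codRestrict _ hin'
  have hφ : Function.Surjective φ := by
    rintro ⟨⟨g, hg⟩, hg'⟩
    obtain ⟨x, hx⟩ : g ∈ S.act.range := hr ▸ ⟨⟨g, hg⟩, hg', rfl⟩
    exact ⟨x, Subtype.ext (Subtype.ext hx)⟩
  refine ⟨(QuotientGroup.mk' _).comp φ, (QuotientGroup.mk'_surjective _).comp hφ, fun x => ?_⟩
  rw [MonoidHom.comp_apply, QuotientGroup.mk'_apply, QuotientGroup.eq_one_iff,
    Subgroup.mem_center_iff]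
  constructor
  · rintro h g ⟨y, rfl⟩
    exact congrArg (fun z : ↥(Cfsg.Omega F (Cfsg.quadFormPlus m F)) =>
      z.1.1) (h (φ y))
  · intro h z
    obtain ⟨y, rfl⟩ := hφ z
    exact Subtype.ext (Subtype.ext (h _ ⟨y, rfl⟩))

/-- an element commuting with the whole image acts as a scalar `±1` -/
theorem central_scalar {g : GL (Fin m ⊕ Fin m) F} (hg : g ∈ (plusForm F m).orth)
    (hc : ∀ (a b : Fin m ⊕ Fin m) (h : (plusForm F m).LOK a b), opL h 1 * g = g * opL h 1) :
    ∃ k : F, k * k = 1 ∧ ∀ i, (g : Matrix (Fin m ⊕ Fin m) (Fin m ⊕ Fin m) F) *ᵥ Pi.single i 1 = Pi.single i k :=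
  central_scalar_any hm hg hc

/-- closedness -/
theorem spin_closed {E : Type*} [Group E] [Finite E] (p : E →* SpinPlus F m)
    (hs : Function.Surjective p) (hp : p.ker ≤ Subgroup.center E) (hperf : commutator E = ⊤) :
    Function.Injective p := by
  set S := spinor (F := F) m
  have C := spin_cover hm hne
  obtain ⟨a, b, h⟩ := exists_lok (F := F) hm hne
  have CE : Cover (plusForm F m) (S.act.comp p) :=
    plus_cover hm (comp_central p S.act hp (CliffMap.act_ker _) hperf) hne fun x y hxy t => by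
      obtain ⟨s, hs'⟩ := CliffMap.act_range_ge S hxy t
      obtain ⟨e, rfl⟩ := hs s
      exact ⟨e, hs'⟩
  have hle : (S.act.comp p).range ≤ (plusForm F m).elemGroup := by
    rintro x ⟨e, rfl⟩
    exact CliffMap.act_range_le S ⟨_, rfl⟩
  have key : ∀ {g : E}, S.act (p g) = 1 → g = 1 ∨ (g = zEl _ (S.act.comp p) a b ∧ (-1 : F) ≠ 1) :=
    fun hg => CE.kernel_le hperf plus_bar_ne hle h hg
  refine (injective_iff_map_eq_one p).2 fun g hg => ?_
  rcases key (g := g) (by rw [hg, map_one]) with h1 | ⟨h1, h2⟩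
  · exact h1
  exfalso
  obtain ⟨y, hy⟩ := hs (zEl (plusForm F m) S.act a b)
  have hz : zEl (plusForm F m) S.act a b ≠ 1 := by
    intro e
    have := CliffMap.zEl_val S C h
    rw [e] at this
    exact spinor_one_ne_neg_one (fun h0 => h2 (by linear_combination -h0)) (by simpa using this)
  rcases key (g := y) (by rw [hy, C.zEl_image h]) with e | ⟨e, -⟩
  · rw [e, map_one] at hy; exact hz hy.symm
  · rw [e, ← h1, hg] at hy; exact hz hy.symm

end

end CfsgLib.SpinCover
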