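import Cfsg.Agent.Lib.SpinCover.Weyl

/-!
A covering of the group of lifted root elements by cells relative to one hyperbolic pair, and the
descent of the kernel to the remaining pairs.
-/

set_option autoImplicit false
set_option linter.unusedSectionVars false

namespace CfsgLib.SpinCover

open Matrix CfsgLib.ChevClassical CfsgLib.SLCover HypForm
open scoped commutatorElement

variable {ι : Type} [Fintype ι] [DecidableEq ι] {F : Type*} [Field F] [Fintype F]
variable {H : HypForm ι F} {E : Type*} [Group E] [Finite E]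

variable (H) in
/-- a union of hyperbolic pairs `R` and a further pair through `a` -/
structure Lvl (R : Finset ι) (a : ι) : Prop where
  bars : ∀ i ∈ R, H.bar i ∈ R ∧ H.bar i ≠ i
  ne : H.bar a ≠ a
  out : a ∉ R
  out' : H.bar a ∉ R

namespace Lvl

variable {R : Finset ι} {a : ι} (L : Lvl H R a)
include L

theorem lok {c : ι} (hc : c ∈ R) : H.LOK c a :=
  ⟨(L.bars c hc).2, L.ne, fun e => L.out (e ▸ hc), fun e => L.out' (e ▸ hc)⟩

theorem lok' {c : ι} (hc : c ∈ R) : H.LOK a c := lok_comm H (L.lok hc)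

theorem swap : Lvl H R (H.bar a) :=
  ⟨L.bars, bar_ne L.ne, L.out', by rw [H.bar_bar]; exact L.out⟩

theorem ne_a {c : ι} (hc : c ∈ R) : c ≠ a := fun e => L.out (e ▸ hc)

theorem ne_a' {c : ι} (hc : c ∈ R) : c ≠ H.bar a := fun e => L.out' (e ▸ hc)

theorem bar_mem {c : ι} (hc : c ∈ R) : H.bar c ∈ R := (L.bars c hc).1

end Lvl

variable (H) (ρ : E →* GL ι F)

/-- root lifts supported in `S` -/
def gSet (S : Finset ι) : Set E :=
  {g | ∃ x y, ∃ t : F, x ∈ S ∧ y ∈ S ∧ H.LOK x y ∧ g = lift H ρ x y t}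

/-- the group of root lifts supported in `S` -/
def gS (S : Finset ι) : Subgroup E := Subgroup.closure (gSet H ρ S)

/-- lifts of the roots from `T` to `a` -/
def uSet (T : Finset ι) (a : ι) : Set E := {g | ∃ c ∈ T, ∃ t : F, g = lift H ρ c a t}

/-- the unipotent group of lifts of the roots from `T` to `a` -/
def uni (T : Finset ι) (a : ι) : Subgroup E := Subgroup.closure (uSet H ρ T a)

/-- torus generators -/
def hSet (R : Finset ι) (a : ι) : Set E := {g | ∃ c ∈ R, ∃ t : F, t ≠ 0 ∧ g = hh H ρ a c t}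

/-- the Levi part -/
def levi (R : Finset ι) (a : ι) : Subgroup E :=
  Subgroup.closure (gSet H ρ R ∪ hSet H ρ R a)

/-- Levi part with the lower unipotent part -/
def para (R : Finset ι) (a : ι) : Subgroup E :=
  Subgroup.closure (gSet H ρ R ∪ hSet H ρ R a ∪ uSet H ρ R a)

/-- the big cell -/
def big (R : Finset ι) (a : ι) (g : E) : Prop :=
  ∃ u ∈ uni H ρ R a, ∃ m ∈ levi H ρ R a, ∃ v ∈ uni H ρ R (H.bar a), g = u * m * v

/-- the cells -/
def inCell (R : Finset ι) (a : ι) (g : E) : Prop :=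
  big H ρ R a g ∨ (∃ c ∈ R, ∃ b, big H ρ R a b ∧ g = wl H ρ c a 1 * b) ∨
    ∃ d ∈ R, ∃ b, big H ρ R a b ∧ g = wl H ρ d a 1 * wl H ρ (H.bar d) a 1 * b

variable {H ρ} {R : Finset ι} {a : ι}

theorem levi_le_para : levi H ρ R a ≤ para H ρ R a :=
  Subgroup.closure_mono Set.subset_union_left

theorem uni_le_para : uni H ρ R a ≤ para H ρ R a :=
  Subgroup.closure_mono Set.subset_union_right

theorem gS_le_levi : gS H ρ R ≤ levi H ρ R a := Subgroup.closure_mono Set.subset_union_left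

variable (C : Cover H ρ) (L : Lvl H R a)
include C L

namespace Cover

theorem uni_commute {T : Finset ι} (hT : T ⊆ R) {c : ι} (hc : c ∈ R) (t : F) :
    ∀ u ∈ uni H ρ T a, Commute (lift H ρ c a t) u := by
  intro u hu
  induction hu using Subgroup.closure_induction with
  | mem x hx =>
    obtain ⟨d, hd, s, rfl⟩ := hx
    have hdR := hT hd
    by_cases e : d = c
    · subst e
      show _ * _ = _ * _
      rw [← C.lift_add (L.lok hdR), ← C.lift_add (L.lok hdR), add_comm]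
    by_cases e' : d = H.bar c
    · subst e'
      have h := LOK.symm H (L.lok hc)
      have e1 : lift H ρ c a t = lift H ρ (H.bar a) (H.bar c) (-t) := by
        rw [C.lift_symm (L.lok hc), neg_neg]
      have e2 : lift H ρ (H.bar c) a s = lift H ρ (H.bar a) (H.bar (H.bar c)) (-s) := by
        rw [C.lift_symm (L.lok (L.bar_mem hc)), neg_neg]
      rw [e1, e2]
      exact C.commute_bar h _ _
    · exact C.commute (L.lok hc) (L.lok hdR) (L.ne_a hdR).symm L.ne.symm (L.ne_a hc)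
        (fun h => e' (by rw [h, H.bar_bar])) t s
  | one => exact Commute.one_right _
  | mul x y _ _ hx hy => exact hx.mul_right hy
  | inv x _ hx => exact hx.inv_right

theorem uni_split {T : Finset ι} (hT : T ⊆ R) {c : ι} (hc : c ∈ R) :
    ∀ u ∈ uni H ρ T a, ∃ u₀ ∈ uni H ρ (T.erase c) a, ∃ y : F, u = u₀ * lift H ρ c a y := by
  intro u hu
  have hsub : T.erase c ⊆ R := (Finset.erase_subset _ _).trans hT
  induction hu using Subgroup.closure_induction with
  | mem x hx =>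
    obtain ⟨d, hd, s, rfl⟩ := hx
    by_cases e : d = c
    · subst e
      exact ⟨1, one_mem _, s, (one_mul _).symm⟩
    · exact ⟨_, Subgroup.subset_closure ⟨d, Finset.mem_erase.2 ⟨e, hd⟩, s, rfl⟩, 0,
        by rw [C.lift_zero (L.lok hc), mul_one]⟩
  | one => exact ⟨1, one_mem _, 0, by rw [C.lift_zero (L.lok hc), mul_one]⟩
  | mul x y _ _ hx hy =>
    obtain ⟨x₀, hx₀, s, rfl⟩ := hx
    obtain ⟨y₀, hy₀, t, rfl⟩ := hy
    refine ⟨x₀ * y₀, mul_mem hx₀ hy₀, s + t, ?_⟩
    rw [C.lift_add (L.lok hc), mul_assoc x₀ _ (y₀ * _), ← mul_assoc _ y₀,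
      (C.uni_commute L hsub hc s y₀ hy₀).eq]
    group
  | inv x _ hx =>
    obtain ⟨x₀, hx₀, s, rfl⟩ := hx
    refine ⟨x₀⁻¹, inv_mem hx₀, -s, ?_⟩
    rw [_root_.mul_inv_rev, C.lift_neg (L.lok hc),
      ((C.uni_commute L hsub hc s _ (inv_mem hx₀)).inv_left).eq]

theorem hh_inv {x y : ι} (h : H.LOK x y) {t : F} (ht : t ≠ 0) :
    (hh H ρ x y t)⁻¹ = hh H ρ x y t⁻¹ := by
  apply inv_eq_of_mul_eq_one_right
  rw [(C.rank_one h).2.1 t t⁻¹ ht (inv_ne_zero ht), mul_inv_cancel₀ ht, C.hh_one h]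

theorem gSet_inv {S : Finset ι} : ∀ g ∈ gSet H ρ S, g⁻¹ ∈ gSet H ρ S := by
  rintro g ⟨x, y, t, hx, hy, h, rfl⟩
  exact ⟨x, y, -t, hx, hy, h, (C.lift_neg h t).symm⟩

theorem uSet_inv : ∀ g ∈ uSet H ρ R a, g⁻¹ ∈ uSet H ρ R a := by
  rintro g ⟨c, hc, t, rfl⟩
  exact ⟨c, hc, -t, (C.lift_neg (L.lok hc) t).symm⟩

theorem leviSet_inv : ∀ g ∈ gSet H ρ R ∪ hSet H ρ R a, g⁻¹ ∈ gSet H ρ R ∪ hSet H ρ R a := by
  rintro g (hg | ⟨c, hc, t, ht, rfl⟩)
  · exact Or.inl (C.gSet_inv L g hg)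
  · exact Or.inr ⟨c, hc, t⁻¹, inv_ne_zero ht, C.hh_inv L (L.lok' hc) ht⟩

theorem conj_uni {x : ι} (Lx : Lvl H R x) : ∀ m ∈ levi H ρ R a, ∀ u ∈ uni H ρ R x,
    m * u * m⁻¹ ∈ uni H ρ R x := by
  refine conj_mem_closure (C.leviSet_inv L) ?_
  rintro g (⟨p, q, t, hp, hq, h, rfl⟩ | ⟨c, hc, t, ht, rfl⟩) y ⟨d, hd, s, rfl⟩
  · have aux : ∀ {p q : ι} (t : F), p ∈ R → q ∈ R → H.LOK p q →
        lift H ρ p q t * lift H ρ q x s * (lift H ρ p q t)⁻¹ ∈ uni H ρ R x := by
      intro p q t hp hq h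
      rw [C.comm h (Lx.lok hq) (Lx.lok hp), mul_inv_cancel_right]
      exact mul_mem (Subgroup.subset_closure ⟨p, hp, _, rfl⟩)
        (Subgroup.subset_closure ⟨q, hq, _, rfl⟩)
    by_cases e : d = q
    · subst e
      exact aux t hp hq h
    by_cases e' : d = H.bar p
    · subst e'
      have e1 : lift H ρ p q t = lift H ρ (H.bar q) (H.bar p) (-t) := by
        rw [C.lift_symm h, neg_neg]
      rw [e1]
      exact aux _ (L.bar_mem hq) (L.bar_mem hp) (LOK.symm H h)
    · rw [(C.commute h (Lx.lok hd) (Ne.symm e) (Lx.ne_a' hq) (Lx.ne_a hp)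
        (fun h' => e' (by rw [h', H.bar_bar])) t s).eq, mul_inv_cancel_right]
      exact Subgroup.subset_closure ⟨d, hd, s, rfl⟩
  · obtain ⟨γ, Mγ, -⟩ := C.hh_mono (L.lok' hc) ht
    rw [C.conj_lift Mγ (Lx.lok hd)]
    exact Subgroup.subset_closure ⟨d, hd, _, rfl⟩

theorem big_one : big H ρ R a 1 := ⟨1, one_mem _, 1, one_mem _, 1, one_mem _, by group⟩

theorem para_mul {g : E} (hg : g ∈ para H ρ R a) {b : E} (hb : big H ρ R a b) :
    big H ρ R a (g * b) := by
  have hu : ∀ g ∈ uni H ρ R a, ∀ b, big H ρ R a b → big H ρ R a (g * b) := by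
    rintro g hg b ⟨u, hu, m, hm, v, hv, rfl⟩
    exact ⟨g * u, mul_mem hg hu, m, hm, v, hv, by group⟩
  have hm' : ∀ g ∈ levi H ρ R a, ∀ b, big H ρ R a b → big H ρ R a (g * b) := by
    rintro g hg b ⟨u, hu, m, hm, v, hv, rfl⟩
    exact ⟨g * u * g⁻¹, C.conj_uni L L g hg u hu, g * m, mul_mem hg hm, v, hv, by group⟩
  induction hg using Subgroup.closure_induction'' generalizing b with
  | mem x hx =>
    rcases hx with hx | hx
    · exact hm' x (Subgroup.subset_closure hx) b hb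
    · exact hu x (Subgroup.subset_closure hx) b hb
  | inv_mem x hx =>
    rcases hx with hx | hx
    · exact hm' _ (inv_mem (Subgroup.subset_closure hx)) b hb
    · exact hu _ (inv_mem (Subgroup.subset_closure hx)) b hb
  | one => rwa [one_mul]
  | mul x y _ _ hx hy => rw [mul_assoc]; exact hx (hy hb)

theorem levi_mul {g : E} (hg : g ∈ levi H ρ R a) {b : E} (hb : big H ρ R a b) :
    big H ρ R a (g * b) := C.para_mul L (levi_le_para hg) hb

theorem hh_mem {c : ι} (hc : c ∈ R) {t : F} (ht : t ≠ 0) : hh H ρ a c t ∈ levi H ρ R a :=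
  Subgroup.subset_closure (Or.inr ⟨c, hc, t, ht, rfl⟩)

theorem hh_mem' {c : ι} (hc : c ∈ R) {t : F} (ht : t ≠ 0) : hh H ρ c a t ∈ levi H ρ R a := by
  rw [(C.rank_one (L.lok' hc)).2.2.1 t ht]
  exact C.hh_mem L hc (inv_ne_zero ht)

theorem wl_mem {p q : ι} (hp : p ∈ R) (hq : q ∈ R) (h : H.LOK p q) (t : F) :
    wl H ρ p q t ∈ levi H ρ R a := by
  refine mul_mem (mul_mem ?_ ?_) ?_ <;> refine Subgroup.subset_closure (Or.inl ?_)
  · exact ⟨p, q, _, hp, hq, h, rfl⟩
  · exact ⟨q, p, _, hq, hp, lok_comm H h, rfl⟩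
  · exact ⟨p, q, _, hp, hq, h, rfl⟩

theorem wPerm_facts {c : ι} (hc : c ∈ R) :
    wPerm H c a a = c ∧ wPerm H c a c = a ∧ wPerm H c a (H.bar a) = H.bar c ∧
      wPerm H c a (H.bar c) = H.bar a ∧
      ∀ d ∈ R, d ≠ c → d ≠ H.bar c → wPerm H c a d = d :=
  let P := wPerm_self (L.lok hc)
  ⟨P.2.1, P.1, P.2.2.2, P.2.2.1, fun _ hd e e' => wPerm_other e (L.ne_a hd) e' (L.ne_a' hd)⟩

/-- conjugation by the inverse of a Weyl element -/
theorem wl_conj {c : ι} (hc : c ∈ R) {p q : ι} (h : H.LOK p q) (t : F) :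
    ∃ s : F, (wl H ρ c a 1)⁻¹ * lift H ρ p q t * wl H ρ c a 1 =
      lift H ρ (wPerm H c a p) (wPerm H c a q) s := by
  have M := C.wl_mono (L.lok hc) (neg_ne_zero.2 (one_ne_zero (α := F)))
  have := C.conj_lift M h t
  rw [C.wl_neg (L.lok hc), inv_inv] at this
  exact ⟨_, this⟩

theorem root_cell {c : ι} (hc : c ∈ R) (t : F) {b : E} (hb : big H ρ R a b) :
    big H ρ R a (lift H ρ a c t * b) ∨
      ∃ b', big H ρ R a b' ∧ lift H ρ a c t * b = wl H ρ c a 1 * b' := by
  obtain ⟨u, hu, m, hm, v, hv, rfl⟩ := hb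
  obtain ⟨u₀, hu₀, y, rfl⟩ := C.uni_split L subset_rfl hc u hu
  set x := lift H ρ a c t with hx
  let Z : Set E := {g | ∃ d ∈ R.erase c, ∃ s : F,
    g = lift H ρ d a s ∨ (d ≠ H.bar c ∧ g = lift H ρ d c s)}
  have hz : x * u₀ * x⁻¹ ∈ Subgroup.closure Z := by
    clear hu
    induction hu₀ using Subgroup.closure_induction with
    | mem g hg =>
      obtain ⟨d, hd, s, rfl⟩ := hg
      obtain ⟨hdc, hdR⟩ := Finset.mem_erase.1 hd
      by_cases e : d = H.bar c
      · subst e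
        have e1 : x = lift H ρ (H.bar c) (H.bar a) (-t) := by
          rw [C.lift_symm (L.lok' hc), neg_neg]
        rw [e1, ((C.commute_bar (L.lok (L.bar_mem hc)) s (-t)).symm).eq, mul_inv_cancel_right]
        exact Subgroup.subset_closure ⟨_, hd, s, Or.inl rfl⟩
      · have hdc' : H.LOK d c := ⟨(L.bars d hdR).2, (L.bars c hc).2, hdc, e⟩
        have h1 := C.comm (L.lok hdR) (L.lok' hc) hdc' s t
        have h2 : x * lift H ρ d a s * x⁻¹ = (lift H ρ d c (s * t))⁻¹ * lift H ρ d a s := by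
          rw [hx, mul_inv_eq_iff_eq_mul, eq_comm, mul_assoc, inv_mul_eq_iff_eq_mul, h1, mul_assoc]
        rw [h2]
        exact mul_mem (inv_mem (Subgroup.subset_closure ⟨d, hd, _, Or.inr ⟨e, rfl⟩⟩))
          (Subgroup.subset_closure ⟨d, hd, s, Or.inl rfl⟩)
    | one => simp
    | mul g g' _ _ hg hg' =>
      have := mul_mem hg hg'
      simpa [mul_assoc] using this
    | inv g _ hg =>
      have := inv_mem hg
      simpa [mul_assoc] using this
  have hup : ∀ s : F, lift H ρ a c s ∈ uni H ρ R (H.bar a) := fun s => by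
    rw [← neg_neg s, ← C.lift_symm (L.lok' hc)]
    exact Subgroup.subset_closure ⟨_, L.bar_mem hc, _, rfl⟩
  have hright : ∀ s : F, ∀ k ∈ levi H ρ R a, big H ρ R a (k * lift H ρ a c s * (m * v)) := by
    intro s k hk
    refine ⟨1, one_mem _, k * m, mul_mem hk hm, m⁻¹ * lift H ρ a c s * m⁻¹⁻¹ * v,
      mul_mem (C.conj_uni L L.swap _ (inv_mem hm) _ (hup s)) hv, ?_⟩
    group
  by_cases h1 : 1 + t * y = 0
  · right
    have ht : t ≠ 0 := by rintro rfl; simp at h1
    have hy : y = -t⁻¹ := by field_simp; linear_combination h1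
    have hk : -t⁻¹ ≠ (0 : F) := neg_ne_zero.2 (inv_ne_zero ht)
    set w := wl H ρ c a 1
    have e1 : x * lift H ρ c a y = w * (w⁻¹ * hh H ρ c a (-t⁻¹) * w) * lift H ρ a c (-t) := by
      calc x * lift H ρ c a y = wl H ρ a c t * (lift H ρ a c t)⁻¹ := by
            rw [wl, hy, hx, mul_inv_cancel_right]
        _ = hh H ρ c a (-t⁻¹) * w * lift H ρ a c (-t) := by
            rw [(C.rank_one (L.lok' hc)).1 t ht, C.wl_eq_hh (L.lok hc), C.lift_neg (L.lok' hc)]
        _ = _ := by group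
    have e2 : w⁻¹ * hh H ρ c a (-t⁻¹) * w ∈ levi H ρ R a := by
      have M := C.wl_mono (L.lok hc) (neg_ne_zero.2 (one_ne_zero (α := F)))
      have e3 : w⁻¹ = wl H ρ c a (-1) := (C.wl_neg (L.lok hc) 1).symm
      rw [e3, ← inv_inv w, e3, C.conj_hh M (L.lok hc)]
      have P := C.wPerm_facts L hc
      rw [P.2.1, P.1]
      have hγ := div_ne_zero (M.ne_zero c) (M.ne_zero a)
      refine mul_mem (C.hh_mem L hc ?_) (inv_mem (C.hh_mem L hc hγ))
      rw [mul_div_assoc]
      exact mul_ne_zero hk hγ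
    have e4 : w⁻¹ * (x * u₀ * x⁻¹) * w ∈ para H ρ R a := by
      have P := C.wPerm_facts L hc
      have gen : ∀ g ∈ Z, w⁻¹ * g * w ∈ para H ρ R a := by
        rintro g ⟨d, hd, s, hg⟩
        obtain ⟨hdc, hdR⟩ := Finset.mem_erase.1 hd
        rcases hg with rfl | ⟨e, rfl⟩
        · obtain ⟨s', hs⟩ := C.wl_conj L hc (L.lok hdR) s
          rw [hs, P.1]
          by_cases e : d = H.bar c
          · subst e
            rw [P.2.2.2.1]
            apply uni_le_para
            have := C.lift_symm (L.lok (L.bar_mem hc)) s'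
            rw [H.bar_bar] at this
            rw [this]
            exact Subgroup.subset_closure ⟨_, L.bar_mem hc, _, rfl⟩
          · rw [P.2.2.2.2 d hdR hdc e]
            exact Subgroup.subset_closure (Or.inl (Or.inl
              ⟨d, c, s', hdR, hc, ⟨(L.bars d hdR).2, (L.bars c hc).2, hdc, e⟩, rfl⟩))
        · obtain ⟨s', hs⟩ := C.wl_conj L hc
            (⟨(L.bars d hdR).2, (L.bars c hc).2, hdc, e⟩ : H.LOK d c) s
          rw [hs, P.2.1, P.2.2.2.2 d hdR hdc e]
          exact uni_le_para (Subgroup.subset_closure ⟨d, hdR, _, rfl⟩)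
      have : ∀ g ∈ Subgroup.closure Z, w⁻¹ * g * w ∈ para H ρ R a := by
        intro g hg
        induction hg using Subgroup.closure_induction with
        | mem g hg => exact gen g hg
        | one => simp
        | mul g g' _ _ hg hg' =>
          have := mul_mem hg hg'
          simpa [mul_assoc] using this
        | inv g _ hg =>
          have := inv_mem hg
          simpa [mul_assoc] using this
      exact this _ hz
    refine ⟨(w⁻¹ * (x * u₀ * x⁻¹) * w) * ((w⁻¹ * hh H ρ c a (-t⁻¹) * w) * lift H ρ a c (-t) *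
      (m * v)), C.para_mul L e4 (hright _ _ e2), ?_⟩
    calc x * (u₀ * lift H ρ c a y * m * v)
        = (x * u₀ * x⁻¹) * (x * lift H ρ c a y) * (m * v) := by group
      _ = _ := by rw [e1]; group
  · left
    have e : x * (u₀ * lift H ρ c a y * m * v) =
        (x * u₀ * x⁻¹ * lift H ρ c a (y / (1 + t * y))) *
          (hh H ρ a c (1 + t * y) * lift H ρ a c (t / (1 + t * y)) * (m * v)) := by
      calc x * (u₀ * lift H ρ c a y * m * v)
          = (x * u₀ * x⁻¹) * (x * lift H ρ c a y) * (m * v) := by group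
        _ = _ := by rw [hx, (C.rank_one (L.lok' hc)).2.2.2 t y h1]; group
    rw [e]
    refine C.para_mul L (mul_mem ?_ ?_) (hright _ _ (C.hh_mem L hc h1))
    · refine (Subgroup.closure_le _).2 ?_ hz
      rintro g ⟨d, hd, s, rfl | ⟨e, rfl⟩⟩
      · exact uni_le_para (Subgroup.subset_closure ⟨d, (Finset.mem_erase.1 hd).2, s, rfl⟩)
      · obtain ⟨hdc, hdR⟩ := Finset.mem_erase.1 hd
        exact Subgroup.subset_closure (Or.inl (Or.inl
          ⟨d, c, s, hdR, hc, ⟨(L.bars d hdR).2, (L.bars c hc).2, hdc, e⟩, rfl⟩))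
    · exact uni_le_para (Subgroup.subset_closure ⟨c, hc, _, rfl⟩)

theorem wl_sq {c : ι} (hc : c ∈ R) : wl H ρ c a 1 * wl H ρ c a 1 ∈ levi H ρ R a := by
  have e : wl H ρ c a 1 * wl H ρ c a 1 = (hh H ρ c a (-1))⁻¹ := by
    rw [hh, C.wl_neg (L.lok hc), _root_.mul_inv_rev, inv_inv]
  rw [e]
  exact inv_mem (C.hh_mem' L hc (neg_ne_zero.2 one_ne_zero))

theorem wl_commute {d : ι} (hd : d ∈ R) :
    Commute (wl H ρ d a 1) (wl H ρ (H.bar d) a 1) := by
  have hd' := L.bar_mem hd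
  have h1 := fun s u : F => C.uni_commute L subset_rfl hd s _
    (Subgroup.subset_closure ⟨_, hd', u, rfl⟩)
  have h4 := fun s u : F => by
    have := C.commute_bar (L.lok' hd) s u
    exact this
  have h2 : ∀ s u : F, Commute (lift H ρ d a s) (lift H ρ a (H.bar d) u) := by
    intro s u
    have e1 : lift H ρ a (H.bar d) u = lift H ρ d (H.bar a) (-u) := by
      have := C.lift_symm (L.lok' hd') (-u)
      rw [H.bar_bar, neg_neg] at this
      exact this.symm
    rw [e1]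
    exact C.commute_bar (L.lok hd) s _
  have h3 : ∀ s u : F, Commute (lift H ρ a d s) (lift H ρ (H.bar d) a u) := by
    intro s u
    have e1 : lift H ρ a d s = lift H ρ (H.bar d) (H.bar a) (-s) := by
      rw [C.lift_symm (L.lok' hd), neg_neg]
    rw [e1]
    exact (C.commute_bar (L.lok hd') u _).symm
  have k : ∀ u : F, Commute (lift H ρ d a u) (wl H ρ (H.bar d) a 1) := fun u =>
    ((h1 _ _).mul_right (h2 _ _)).mul_right (h1 _ _)
  have k' : ∀ u : F, Commute (lift H ρ a d u) (wl H ρ (H.bar d) a 1) := fun u =>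
    ((h3 _ _).mul_right (h4 _ _)).mul_right (h3 _ _)
  exact ((k _).mul_left (k' _)).mul_left (k _)

/-- products of Weyl elements -/
theorem wl_mul {d c : ι} (hd : d ∈ R) (hc : c ∈ R) :
    wl H ρ d a 1 * wl H ρ c a 1 ∈ levi H ρ R a ∨
      (c = H.bar d) ∨ ∃ m ∈ levi H ρ R a, wl H ρ d a 1 * wl H ρ c a 1 = wl H ρ c a 1 * m := by
  by_cases e : c = d
  · subst e
    exact Or.inl (C.wl_sq L hd)
  by_cases e' : c = H.bar d
  · exact Or.inr (Or.inl e')
  refine Or.inr (Or.inr ⟨(wl H ρ c a 1)⁻¹ * wl H ρ d a 1 * wl H ρ c a 1, ?_, by group⟩)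
  have M := C.wl_mono (L.lok hc) (neg_ne_zero.2 (one_ne_zero (α := F)))
  have h := C.conj_wl M (L.lok hd) 1
  rw [C.wl_neg (L.lok hc), inv_inv] at h
  rw [h]
  have P := C.wPerm_facts L hc
  rw [P.1, P.2.2.2.2 d hd (Ne.symm e) fun h => e' (by rw [h, H.bar_bar])]
  exact C.wl_mem L hd hc ⟨(L.bars d hd).2, (L.bars c hc).2, Ne.symm e,
    fun h => e' (by rw [h, H.bar_bar])⟩ _

/-- cells absorb a Weyl element on the left of the big cell -/
theorem wl_wl_cell {d c : ι} (hd : d ∈ R) (hc : c ∈ R) {b : E} (hb : big H ρ R a b) :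
    inCell H ρ R a (wl H ρ d a 1 * (wl H ρ c a 1 * b)) := by
  rw [← mul_assoc]
  rcases C.wl_mul L hd hc with h | rfl | ⟨m, hm, h⟩
  · exact Or.inl (C.levi_mul L h hb)
  · exact Or.inr (Or.inr ⟨d, hd, b, hb, rfl⟩)
  · rw [h, mul_assoc]
    exact Or.inr (Or.inl ⟨c, hc, _, C.levi_mul L hm hb, rfl⟩)

theorem classify {p q : ι} (hp : p ∈ insert a (insert (H.bar a) R))
    (hq : q ∈ insert a (insert (H.bar a) R)) (h : H.LOK p q) (t : F) :
    lift H ρ p q t ∈ para H ρ R a ∨ ∃ c ∈ R, ∃ s : F, lift H ρ p q t = lift H ρ a c s := by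
  have flip : lift H ρ p q t = lift H ρ (H.bar q) (H.bar p) (-t) := by
    rw [C.lift_symm h, neg_neg]
  simp only [Finset.mem_insert] at hp hq
  rcases hp with rfl | rfl | hp <;> rcases hq with rfl | rfl | hq
  · exact absurd rfl h.2.2.1
  · exact absurd (H.bar_bar p).symm h.2.2.2
  · exact Or.inr ⟨q, hq, t, rfl⟩
  · exact absurd rfl h.2.2.2
  · exact absurd rfl h.2.2.1
  · rw [flip, H.bar_bar]
    exact Or.inl (uni_le_para (Subgroup.subset_closure ⟨_, L.bar_mem hq, _, rfl⟩))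
  · exact Or.inl (uni_le_para (Subgroup.subset_closure ⟨p, hp, t, rfl⟩))
  · rw [flip, H.bar_bar]
    exact Or.inr ⟨_, L.bar_mem hp, _, rfl⟩
  · exact Or.inl (Subgroup.subset_closure (Or.inl (Or.inl ⟨p, q, t, hp, hq, h, rfl⟩)))

theorem wPerm_mem {c : ι} (hc : c ∈ R) {p : ι} (hp : p ∈ insert a (insert (H.bar a) R)) :
    wPerm H c a p ∈ insert a (insert (H.bar a) R) := by
  have P := C.wPerm_facts L hc
  simp only [Finset.mem_insert] at hp ⊢
  rcases hp with rfl | rfl | hp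
  · exact Or.inr (Or.inr (by rw [P.1]; exact hc))
  · exact Or.inr (Or.inr (by rw [P.2.2.1]; exact L.bar_mem hc))
  by_cases e : p = c
  · subst e; exact Or.inl P.2.1
  by_cases e' : p = H.bar c
  · subst e'; exact Or.inr (Or.inl P.2.2.2.1)
  exact Or.inr (Or.inr (by rw [P.2.2.2.2 p hp e e']; exact hp))

/-- a root element maps the big cell into two kinds of cells -/
theorem root_big {p q : ι} (hp : p ∈ insert a (insert (H.bar a) R))
    (hq : q ∈ insert a (insert (H.bar a) R)) (h : H.LOK p q) (t : F) {b : E}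
    (hb : big H ρ R a b) :
    big H ρ R a (lift H ρ p q t * b) ∨
      ∃ c ∈ R, ∃ b', big H ρ R a b' ∧ lift H ρ p q t * b = wl H ρ c a 1 * b' := by
  rcases C.classify L hp hq h t with h' | ⟨c, hc, s, e⟩
  · exact Or.inl (C.para_mul L h' hb)
  · rw [e]
    rcases C.root_cell L hc s hb with h' | ⟨b', hb', h'⟩
    · exact Or.inl h'
    · exact Or.inr ⟨c, hc, b', hb', h'⟩

theorem root_inCell {p q : ι} (hp : p ∈ insert a (insert (H.bar a) R))
    (hq : q ∈ insert a (insert (H.bar a) R)) (h : H.LOK p q) (t : F) {g : E}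
    (hg : inCell H ρ R a g) : inCell H ρ R a (lift H ρ p q t * g) := by
  rcases hg with hb | ⟨c, hc, b, hb, rfl⟩ | ⟨d, hd, b, hb, rfl⟩
  · rcases C.root_big L hp hq h t hb with h' | h'
    · exact Or.inl h'
    · exact Or.inr (Or.inl h')
  · obtain ⟨s, hs⟩ := C.wl_conj L hc h t
    have M := C.wl_mono (L.lok hc) (t := 1) one_ne_zero
    have h2 : H.LOK (wPerm H c a p) (wPerm H c a q) := M.lok h
    have e : lift H ρ p q t * (wl H ρ c a 1 * b) =
        wl H ρ c a 1 * (lift H ρ (wPerm H c a p) (wPerm H c a q) s * b) := by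
      rw [← hs]; group
    rw [e]
    rcases C.root_big L (C.wPerm_mem L hc hp) (C.wPerm_mem L hc hq) h2 s hb with
      h' | ⟨c', hc', b', hb', h'⟩
    · exact Or.inr (Or.inl ⟨c, hc, _, h', rfl⟩)
    · rw [h']
      exact C.wl_wl_cell L hc hc' hb'
  · have hd' := L.bar_mem hd
    obtain ⟨s, hs⟩ := C.wl_conj L hd h t
    have h2 : H.LOK (wPerm H d a p) (wPerm H d a q) :=
      (C.wl_mono (L.lok hd) (t := 1) one_ne_zero).lok h
    obtain ⟨s', hs'⟩ := C.wl_conj L hd' h2 s
    have h3 : H.LOK (wPerm H (H.bar d) a (wPerm H d a p)) (wPerm H (H.bar d) a (wPerm H d a q)) :=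
      (C.wl_mono (L.lok hd') (t := 1) one_ne_zero).lok h2
    set w := wl H ρ d a 1
    set w' := wl H ρ (H.bar d) a 1
    have e : lift H ρ p q t * (w * w' * b) = w * w' *
        (lift H ρ (wPerm H (H.bar d) a (wPerm H d a p)) (wPerm H (H.bar d) a (wPerm H d a q)) s'
          * b) := by
      rw [← hs', ← hs]; group
    rw [e]
    rcases C.root_big L (C.wPerm_mem L hd' (C.wPerm_mem L hd hp))
      (C.wPerm_mem L hd' (C.wPerm_mem L hd hq)) h3 s' hb with h' | ⟨c, hc, b', hb', h'⟩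
    · exact Or.inr (Or.inr ⟨d, hd, _, h', rfl⟩)
    · rw [h']
      by_cases e1 : c = H.bar d
      · subst e1
        refine Or.inr (Or.inl ⟨d, hd, w' * w' * b', C.levi_mul L (C.wl_sq L hd') hb', ?_⟩)
        simp only [w, w', mul_assoc]
      by_cases e2 : c = d
      · subst e2
        refine Or.inr (Or.inl ⟨H.bar c, hd', w * w * b', C.levi_mul L (C.wl_sq L hd) hb', ?_⟩)
        calc w * w' * (w * b') = w' * w * (w * b') := by rw [(C.wl_commute L hd).eq]
          _ = _ := by simp only [w, w', mul_assoc]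
      · rcases C.wl_mul L hd' hc with hm | hm | ⟨m, hm, hm'⟩
        · refine Or.inr (Or.inl ⟨d, hd, _, C.levi_mul L hm hb', ?_⟩)
          simp only [w, w', mul_assoc]
        · exact absurd (hm.trans (H.bar_bar d)) e2
        · have := C.wl_wl_cell L hd hc (C.levi_mul L hm hb')
          rw [show w * (wl H ρ c a 1 * (m * b')) = w * (wl H ρ c a 1 * m) * b' by group, ← hm'] at this
          simpa only [mul_assoc] using this

theorem gS_inCell {g : E} (hg : g ∈ gS H ρ (insert a (insert (H.bar a) R))) :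
    inCell H ρ R a g := by
  suffices ∀ k, inCell H ρ R a k → inCell H ρ R a (g * k) by
    simpa using this 1 (Or.inl (C.big_one L))
  induction hg using Subgroup.closure_induction'' with
  | mem x hx =>
    obtain ⟨p, q, t, hp, hq, h, rfl⟩ := hx
    exact fun k => C.root_inCell L hp hq h t
  | inv_mem x hx =>
    obtain ⟨p, q, t, hp, hq, h, rfl⟩ := hx
    rw [← C.lift_neg h]
    exact fun k => C.root_inCell L hp hq h (-t)
  | one => simp
  | mul x y _ _ hx hy => exact fun k hk => by rw [mul_assoc]; exact hx _ (hy k hk)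

omit L in
theorem uni_coord {T : Finset ι} {x : ι} (hT : ∀ c ∈ T, H.LOK c x) :
    ∀ u ∈ uni H ρ T x, ∀ (v : ι → F) (i : ι), i ∉ T → i ≠ H.bar x →
      ((ρ u : Matrix ι ι F) *ᵥ v) i = v i := by
  intro u hu
  induction hu using Subgroup.closure_induction'' with
  | mem y hy =>
    obtain ⟨c, hc, t, rfl⟩ := hy
    intro v i hi hi'
    rw [C.proj (hT c hc)]
    exact opL_apply_of_ne _ _ _ (fun e => hi (e ▸ hc)) hi'
  | inv_mem y hy =>
    obtain ⟨c, hc, t, rfl⟩ := hy
    intro v i hi hi'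
    rw [← C.lift_neg (hT c hc), C.proj (hT c hc)]
    exact opL_apply_of_ne _ _ _ (fun e => hi (e ▸ hc)) hi'
  | one => intro v i _ _; rw [map_one, mulVec_glOne]
  | mul y z _ _ hy hz =>
    intro v i hi hi'
    rw [map_mul, mulVec_glMul, hy _ i hi hi', hz v i hi hi']

theorem uni_eq_one : ∀ T : Finset ι, T ⊆ R → ∀ u ∈ uni H ρ T a,
    (∀ c ∈ T, ((ρ u : Matrix ι ι F) *ᵥ Pi.single a 1) c = 0) → u = 1 := by
  intro T
  induction T using Finset.induction_on with
  | empty =>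
    intro _ u hu _
    have : uSet H ρ ∅ a = ∅ := by
      ext y; simp [uSet]
    rwa [uni, this, Subgroup.closure_empty, Subgroup.mem_bot] at hu
  | @insert c T hcT ih =>
    intro hsub u hu h0
    have hc : c ∈ R := hsub (Finset.mem_insert_self c T)
    have hT : T ⊆ R := fun x hx => hsub (Finset.mem_insert_of_mem hx)
    obtain ⟨u₀, hu₀, y, rfl⟩ := C.uni_split L hsub hc u hu
    rw [Finset.erase_insert hcT] at hu₀
    have hy : y = 0 := by
      have := h0 c (Finset.mem_insert_self c T)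
      rw [map_mul, mulVec_glMul,
        C.uni_coord (fun d hd => L.lok (hT hd)) u₀ hu₀ _ c hcT (L.ne_a' hc),
        C.proj (L.lok hc), opL_single_right] at this
      simpa [Pi.single_eq_of_ne (L.ne_a hc)] using this
    subst hy
    rw [C.lift_zero (L.lok hc), mul_one] at h0 ⊢
    exact ih hT u₀ hu₀ fun d hd => h0 d (Finset.mem_insert_of_mem hd)

theorem levi_diag {x : ι} (Lx : Lvl H R x) : ∀ m ∈ levi H ρ R a,
    ∃ k : F, (ρ m : Matrix ι ι F) *ᵥ Pi.single x 1 = Pi.single x k := by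
  have gen : ∀ g ∈ gSet H ρ R ∪ hSet H ρ R a,
      ∃ k : F, (ρ g : Matrix ι ι F) *ᵥ Pi.single x 1 = Pi.single x k := by
    rintro g (⟨p, q, t, hp, hq, h, rfl⟩ | ⟨c, hc, t, ht, rfl⟩)
    · refine ⟨1, ?_⟩
      rw [C.proj h]
      exact opL_single_other h t 1 (Lx.ne_a hq).symm (Lx.ne_a (L.bar_mem hp)).symm
    · obtain ⟨γ, Mγ, -⟩ := C.hh_mono (L.lok' hc) ht
      exact ⟨γ x, Mγ.single x⟩
  intro m hm
  induction hm using Subgroup.closure_induction'' with
  | mem y hy => exact gen y hy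
  | inv_mem y hy => exact gen _ (C.leviSet_inv L y hy)
  | one => exact ⟨1, by rw [map_one, mulVec_glOne]⟩
  | mul y z _ _ hy hz =>
    obtain ⟨k, hk⟩ := hy
    obtain ⟨l, hl⟩ := hz
    refine ⟨k * l, ?_⟩
    rw [map_mul, mulVec_glMul, hl,
      show (Pi.single x l : ι → F) = l • Pi.single x 1 by
        rw [← Pi.single_smul', smul_eq_mul, mul_one],
      Matrix.mulVec_smul, hk, ← Pi.single_smul', smul_eq_mul, mul_comm]

theorem gS_fix : ∀ g ∈ gS H ρ R, (ρ g : Matrix ι ι F) *ᵥ Pi.single a 1 = Pi.single a 1 := by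
  have gen : ∀ g ∈ gSet H ρ R, (ρ g : Matrix ι ι F) *ᵥ Pi.single a 1 = Pi.single a 1 := by
    rintro g ⟨p, q, t, hp, hq, h, rfl⟩
    rw [C.proj h]
    exact opL_single_other h t 1 (L.ne_a hq).symm (L.ne_a (L.bar_mem hp)).symm
  intro g hg
  induction hg using Subgroup.closure_induction'' with
  | mem y hy => exact gen y hy
  | inv_mem y hy => exact gen _ (C.gSet_inv L y hy)
  | one => rw [map_one, mulVec_glOne]
  | mul y z _ _ hy hz => rw [map_mul, mulVec_glMul, hz, hy]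

theorem hh_split {q : ι} (hq : q ∈ R) (two : ∃ d ∈ R, d ≠ q ∧ d ≠ H.bar q) {c : ι} (hc : c ∈ R)
    {t : F} (ht : t ≠ 0) : ∃ ℓ ∈ gS H ρ R, hh H ρ a c t = hh H ρ a q t * ℓ := by
  have mh : ∀ {p r : ι}, p ∈ R → r ∈ R → H.LOK p r → hh H ρ p r t ∈ gS H ρ R := by
    intro p r hp hr h
    simp only [hh, wl]
    repeat' apply mul_mem
    all_goals refine Subgroup.subset_closure ?_
    all_goals first
      | exact ⟨p, r, _, hp, hr, h, rfl⟩
      | exact ⟨r, p, _, hr, hp, lok_comm H h, rfl⟩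
  have mk : ∀ {p r : ι}, p ∈ R → r ∈ R → p ≠ r → p ≠ H.bar r → H.LOK p r :=
    fun hp hr h h' => ⟨(L.bars _ hp).2, (L.bars _ hr).2, h, h'⟩
  by_cases e : c = q
  · subst e
    exact ⟨1, one_mem _, (mul_one _).symm⟩
  by_cases e' : c = H.bar q
  · obtain ⟨d, hd, h1, h2⟩ := two
    have hqd : H.LOK q d := mk hq hd (Ne.symm h1) fun h => h2 (by rw [h, H.bar_bar])
    have hdc : H.LOK d c := mk hd hc (fun h => h2 (h.trans e'))
      (fun h => h1 (by rw [h, e', H.bar_bar]))
    refine ⟨hh H ρ q d t * hh H ρ d c t, mul_mem (mh hq hd hqd) (mh hd hc hdc), ?_⟩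
    rw [C.hh_triangle (L.lok' hd) hdc (L.lok' hc) ht,
      C.hh_triangle (L.lok' hq) hqd (L.lok' hd) ht, mul_assoc]
  · have hqc : H.LOK q c := mk hq hc (Ne.symm e) fun h => e' (by rw [h, H.bar_bar])
    exact ⟨_, mh hq hc hqc, C.hh_triangle (L.lok' hq) hqc (L.lok' hc) ht⟩

theorem levi_form {q : ι} (hq : q ∈ R) (two : ∃ d ∈ R, d ≠ q ∧ d ≠ H.bar q) :
    ∀ m ∈ levi H ρ R a, ∃ t : F, t ≠ 0 ∧ ∃ ℓ ∈ gS H ρ R, m = hh H ρ a q t * ℓ := by
  have hconj : ∀ t : F, t ≠ 0 → ∀ ℓ ∈ gS H ρ R,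
      (hh H ρ a q t)⁻¹ * ℓ * hh H ρ a q t ∈ gS H ρ R := by
    intro t ht ℓ hℓ
    obtain ⟨γ, Mγ, -⟩ := C.hh_mono (L.lok' hq) (inv_ne_zero ht)
    have := C.hh_inv L (L.lok' hq) ht
    induction hℓ using Subgroup.closure_induction with
    | mem y hy =>
      obtain ⟨p, r, s, hp, hr, h, rfl⟩ := hy
      have e := C.conj_lift Mγ h s
      rw [← this, inv_inv] at e
      rw [e]
      exact Subgroup.subset_closure ⟨p, r, _, hp, hr, h, rfl⟩
    | one => simp
    | mul y z _ _ hy hz =>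
      have := mul_mem hy hz
      simpa [mul_assoc] using this
    | inv y _ hy =>
      have := inv_mem hy
      simpa [mul_assoc] using this
  have gen : ∀ g ∈ gSet H ρ R ∪ hSet H ρ R a, ∀ m,
      (∃ t : F, t ≠ 0 ∧ ∃ ℓ ∈ gS H ρ R, m = hh H ρ a q t * ℓ) →
      ∃ t : F, t ≠ 0 ∧ ∃ ℓ ∈ gS H ρ R, g * m = hh H ρ a q t * ℓ := by
    rintro g hg m ⟨t, ht, ℓ, hℓ, rfl⟩
    rcases hg with hg | ⟨c, hc, s, hs, rfl⟩
    · exact ⟨t, ht, (hh H ρ a q t)⁻¹ * g * hh H ρ a q t * ℓ,
        mul_mem (hconj t ht g (Subgroup.subset_closure hg)) hℓ, by group⟩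
    · obtain ⟨k, hk, e⟩ := C.hh_split L hq two hc hs
      refine ⟨s * t, mul_ne_zero hs ht, (hh H ρ a q t)⁻¹ * k * hh H ρ a q t * ℓ,
        mul_mem (hconj t ht k hk) hℓ, ?_⟩
      rw [← (C.rank_one (L.lok' hq)).2.1 s t hs ht, e]
      group
  intro m hm
  suffices ∀ m', (∃ t : F, t ≠ 0 ∧ ∃ ℓ ∈ gS H ρ R, m' = hh H ρ a q t * ℓ) →
      ∃ t : F, t ≠ 0 ∧ ∃ ℓ ∈ gS H ρ R, m * m' = hh H ρ a q t * ℓ by
    simpa using this 1 ⟨1, one_ne_zero, 1, one_mem _, by rw [C.hh_one (L.lok' hq), mul_one]⟩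
  induction hm using Subgroup.closure_induction'' with
  | mem y hy => exact gen y hy
  | inv_mem y hy => exact gen _ (C.leviSet_inv L y hy)
  | one => simp
  | mul y z _ _ hy hz => exact fun k hk => by rw [mul_assoc]; exact hy _ (hz k hk)

/-- The kernel descends to the smaller set of pairs. -/
theorem descend {q : ι} (hq : q ∈ R) (two : ∃ d ∈ R, d ≠ q ∧ d ≠ H.bar q) {g : E}
    (hg : g ∈ gS H ρ (insert a (insert (H.bar a) R))) (h1 : ρ g = 1) : g ∈ gS H ρ R := by
  have hb : ∀ b, big H ρ R a b → ∃ k : F, k ≠ 0 ∧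
      ((ρ b : Matrix ι ι F) *ᵥ Pi.single a 1) a = k := by
    rintro b ⟨u, hu, m, hm, v, hv, rfl⟩
    obtain ⟨k, hk⟩ := C.levi_diag L L m hm
    have hv' : (ρ v : Matrix ι ι F) *ᵥ Pi.single a 1 = Pi.single a 1 := by
      clear hk
      induction hv using Subgroup.closure_induction'' with
      | mem y hy =>
        obtain ⟨c, hc, t, rfl⟩ := hy
        rw [C.proj (L.swap.lok hc)]
        exact opL_single_other _ t 1 L.ne.symm (L.ne_a (L.bar_mem hc)).symm
      | inv_mem y hy =>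
        obtain ⟨c, hc, t, rfl⟩ := hy
        rw [← C.lift_neg (L.swap.lok hc), C.proj (L.swap.lok hc)]
        exact opL_single_other _ _ 1 L.ne.symm (L.ne_a (L.bar_mem hc)).symm
      | one => rw [map_one, mulVec_glOne]
      | mul y z _ _ hy hz => rw [map_mul, mulVec_glMul, hz, hy]
    refine ⟨k, ?_, ?_⟩
    · rintro rfl
      have := glMulVec_injective (ρ m) (a₁ := Pi.single a 1) (a₂ := 0) (by simp [hk])
      simpa using congrFun this a
    · rw [map_mul, map_mul, mulVec_glMul, mulVec_glMul, hv', hk,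
        C.uni_coord (fun c hc => L.lok hc) u hu _ a L.out L.ne.symm, Pi.single_eq_same]
  rcases C.gS_inCell L hg with hbig | ⟨c, hc, b, hb', rfl⟩ | ⟨d, hd, b, hb', rfl⟩
  · obtain ⟨u, hu, m, hm, v, hv, rfl⟩ := hbig
    obtain ⟨k, hk⟩ := C.levi_diag L L m hm
    have hm1 := C.levi_diag L L.swap m⁻¹ (inv_mem hm)
    obtain ⟨k', hk'⟩ := hm1
    have hv' : (ρ v : Matrix ι ι F) *ᵥ Pi.single a 1 = Pi.single a 1 := by
      clear hg h1 hk hk'
      induction hv using Subgroup.closure_induction'' with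
      | mem y hy =>
        obtain ⟨c, hc, t, rfl⟩ := hy
        rw [C.proj (L.swap.lok hc)]
        exact opL_single_other _ t 1 L.ne.symm (L.ne_a (L.bar_mem hc)).symm
      | inv_mem y hy =>
        obtain ⟨c, hc, t, rfl⟩ := hy
        rw [← C.lift_neg (L.swap.lok hc), C.proj (L.swap.lok hc)]
        exact opL_single_other _ _ 1 L.ne.symm (L.ne_a (L.bar_mem hc)).symm
      | one => rw [map_one, mulVec_glOne]
      | mul y z _ _ hy hz => rw [map_mul, mulVec_glMul, hz, hy]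
    have he : (ρ (u * m * v) : Matrix ι ι F) *ᵥ Pi.single a 1 = Pi.single a 1 := by
      rw [h1, mulVec_glOne]
    rw [map_mul, map_mul, mulVec_glMul, mulVec_glMul, hv', hk] at he
    have hk1 : k = 1 := by
      have := congrFun he a
      rwa [C.uni_coord (fun c hc => L.lok hc) u hu _ a L.out L.ne.symm, Pi.single_eq_same,
        Pi.single_eq_same] at this
    subst hk1
    have hu1 : u = 1 := C.uni_eq_one L R subset_rfl u hu fun c hc => by
      rw [he, Pi.single_eq_of_ne (L.ne_a hc)]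
    subst hu1
    rw [one_mul] at h1 hg ⊢
    have hv1 : v = 1 := C.uni_eq_one L.swap R subset_rfl v hv fun c hc => by
      rw [show ρ v = ρ m⁻¹ by
        rw [map_inv]; exact eq_inv_of_mul_eq_one_right (by rw [← map_mul, h1]), hk',
        Pi.single_eq_of_ne (L.ne_a' hc)]
    subst hv1
    rw [mul_one] at h1 ⊢
    obtain ⟨t, ht, ℓ, hℓ, rfl⟩ := C.levi_form L hq two m hm
    obtain ⟨γ, Mγ, e1, -⟩ := C.hh_mono (L.lok' hq) ht
    rw [map_mul, mulVec_glMul, C.gS_fix L ℓ hℓ, Mγ.single, e1, id] at hk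
    have : t = 1 := Pi.single_injective a hk
    subst this
    rw [C.hh_one (L.lok' hq), one_mul]
    exact hℓ
  · exfalso
    obtain ⟨k, hk0, hk⟩ := hb b hb'
    have M := C.wl_mono (L.lok hc) (t := 1) one_ne_zero
    have := congrFun (congrArg (fun A : GL ι F => (A : Matrix ι ι F) *ᵥ Pi.single a 1) h1) c
    simp only [map_mul, mulVec_glMul, mulVec_glOne, Pi.single_eq_of_ne (L.ne_a hc)] at this
    have key := M.apply ((ρ b : Matrix ι ι F) *ᵥ Pi.single a 1) a
    rw [(C.wPerm_facts L hc).1, hk, this] at key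
    exact mul_ne_zero (M.ne_zero a) hk0 key.symm
  · exfalso
    obtain ⟨k, hk0, hk⟩ := hb b hb'
    have hd' := L.bar_mem hd
    have M := (C.wl_mono (L.lok hd) (t := 1) one_ne_zero).mul
      (C.wl_mono (L.lok hd') (t := 1) one_ne_zero)
    have hπ : (wPerm H d a ∘ wPerm H (H.bar d) a) a = H.bar a := by
      rw [Function.comp_apply, (C.wPerm_facts L hd').1, (C.wPerm_facts L hd).2.2.2.1]
    have := congrFun (congrArg (fun A : GL ι F => (A : Matrix ι ι F) *ᵥ Pi.single a 1) h1)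
      (H.bar a)
    simp only [map_mul, mulVec_glOne, Pi.single_eq_of_ne L.ne] at this
    rw [mulVec_glMul, ← hπ, M.apply, hk] at this
    exact mul_ne_zero (M.ne_zero a) hk0 this

end Cover

end CfsgLib.SpinCover
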