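import Cfsg.Agent.Lib.SpinCover.ShortSL2
import Cfsg.Agent.Lib.SpinCover.Cells

/-!
Cells relative to one hyperbolic pair in a central extension of an odd-dimensional orthogonal group,
and the descent of the kernel.
-/

set_option autoImplicit false
set_option linter.unusedSectionVars false

namespace CfsgLib.SpinCover

open Matrix CfsgLib.ChevClassical CfsgLib.SLCover HypForm
open scoped commutatorElement

variable {ι : Type} [Fintype ι] [DecidableEq ι] {F : Type*} [Field F] [Fintype F]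
variable {E : Type*} [Group E] [Finite E]
variable (H : HypForm ι F) (ρ : E →* GL ι F) (z : ι)

/-- short root lifts supported in `S` -/
def sSet (S : Finset ι) : Set E := {g | ∃ b ∈ S, ∃ t : F, g = slift H ρ z b t}

/-- all root lifts supported in `S` -/
def gB (S : Finset ι) : Subgroup E := Subgroup.closure (gSet H ρ S ∪ sSet H ρ z S)

/-- lower unipotent generators -/
def uSetB (R : Finset ι) (a : ι) : Set E :=
  uSet H ρ R a ∪ {g | ∃ t : F, g = slift H ρ z (H.bar a) t}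

/-- lower unipotent group -/
def uniB (R : Finset ι) (a : ι) : Subgroup E := Subgroup.closure (uSetB H ρ z R a)

/-- Levi part -/
def leviB (R : Finset ι) (a : ι) : Subgroup E :=
  Subgroup.closure (gSet H ρ R ∪ sSet H ρ z R ∪ hSet H ρ R a)

/-- Levi part with lower unipotent part -/
def paraB (R : Finset ι) (a : ι) : Subgroup E :=
  Subgroup.closure (gSet H ρ R ∪ sSet H ρ z R ∪ hSet H ρ R a ∪ uSetB H ρ z R a)

/-- the big cell -/
def bigB (R : Finset ι) (a : ι) (g : E) : Prop :=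
  ∃ u ∈ uniB H ρ z R a, ∃ m ∈ leviB H ρ z R a, ∃ v ∈ uniB H ρ z R (H.bar a), g = u * m * v

/-- the cells -/
def inCellB (R : Finset ι) (a : ι) (g : E) : Prop :=
  bigB H ρ z R a g ∨ (∃ c ∈ R, ∃ b, bigB H ρ z R a b ∧ g = wl H ρ c a 1 * b) ∨
    ∃ d ∈ R, ∃ b, bigB H ρ z R a b ∧ g = wl H ρ d a 1 * wl H ρ (H.bar d) a 1 * b

variable {H ρ z} {R : Finset ι} {a : ι}

theorem uni_le_uniB : uni H ρ R a ≤ uniB H ρ z R a := Subgroup.closure_mono Set.subset_union_left

theorem levi_le_leviB : levi H ρ R a ≤ leviB H ρ z R a :=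
  Subgroup.closure_mono (Set.union_subset_union Set.subset_union_left subset_rfl)

theorem leviB_le_paraB : leviB H ρ z R a ≤ paraB H ρ z R a :=
  Subgroup.closure_mono Set.subset_union_left

theorem uniB_le_paraB : uniB H ρ z R a ≤ paraB H ρ z R a :=
  Subgroup.closure_mono Set.subset_union_right

theorem para_le_paraB : para H ρ R a ≤ paraB H ρ z R a :=
  Subgroup.closure_mono (Set.union_subset_union
    (Set.union_subset_union Set.subset_union_left subset_rfl) Set.subset_union_left)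

theorem gB_le_leviB : gB H ρ z R ≤ leviB H ρ z R a := Subgroup.closure_mono Set.subset_union_left

theorem slift_mem_uniB (t : F) : slift H ρ z (H.bar a) t ∈ uniB H ρ z R a :=
  Subgroup.subset_closure (Or.inr ⟨t, rfl⟩)

variable (B : BPre H ρ z) (L : Lvl H R a)
include B L

namespace BPre

theorem sokL : H.SOK z a := B.sok L.ne

theorem slift_mem_uniB' (t : F) : slift H ρ z a t ∈ uniB H ρ z R (H.bar a) := by
  have := slift_mem_uniB (H := H) (ρ := ρ) (z := z) (R := R) (a := H.bar a) t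
  rwa [H.bar_bar] at this

theorem z_out : z ∉ R := fun h => (L.bars z h).2 B.fix

theorem uni_slift_commute (s : F) :
    ∀ u ∈ uni H ρ R a, Commute (slift H ρ z (H.bar a) s) u := by
  intro u hu
  induction hu using Subgroup.closure_induction with
  | mem x hx =>
    obtain ⟨c, hc, t, rfl⟩ := hx
    have h : H.LOK c (H.bar (H.bar a)) := by rw [H.bar_bar]; exact L.lok hc
    have := B.slift_long' (B.sokL L.swap) h s t
    rwa [H.bar_bar] at this
  | one => exact Commute.one_right _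
  | mul x y _ _ hx hy => exact hx.mul_right hy
  | inv x _ hx => exact hx.inv_right

theorem uniB_split : ∀ u ∈ uniB H ρ z R a,
    ∃ u₀ ∈ uni H ρ R a, ∃ s : F, u = u₀ * slift H ρ z (H.bar a) s := by
  have hs := B.sokL L.swap
  intro u hu
  induction hu using Subgroup.closure_induction with
  | mem x hx =>
    rcases hx with hx | ⟨t, rfl⟩
    · exact ⟨x, Subgroup.subset_closure hx, 0, by rw [B.slift_zero hs, mul_one]⟩
    · exact ⟨1, one_mem _, t, (one_mul _).symm⟩
  | one => exact ⟨1, one_mem _, 0, by rw [B.slift_zero hs, mul_one]⟩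
  | mul x y _ _ hx hy =>
    obtain ⟨x₀, hx₀, s, rfl⟩ := hx
    obtain ⟨y₀, hy₀, t, rfl⟩ := hy
    refine ⟨x₀ * y₀, mul_mem hx₀ hy₀, s + t, ?_⟩
    rw [B.slift_add hs, mul_assoc x₀ _ (y₀ * _), ← mul_assoc _ y₀,
      (B.uni_slift_commute L s y₀ hy₀).eq]
    group
  | inv x _ hx =>
    obtain ⟨x₀, hx₀, s, rfl⟩ := hx
    refine ⟨x₀⁻¹, inv_mem hx₀, -s, ?_⟩
    rw [_root_.mul_inv_rev, B.slift_neg hs,
      ((B.uni_slift_commute L s _ (inv_mem hx₀)).inv_left).eq]

theorem leviSetB_inv : ∀ g ∈ gSet H ρ R ∪ sSet H ρ z R ∪ hSet H ρ R a,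
    g⁻¹ ∈ gSet H ρ R ∪ sSet H ρ z R ∪ hSet H ρ R a := by
  rintro g ((hg | ⟨b, hb, t, rfl⟩) | ⟨c, hc, t, ht, rfl⟩)
  · exact Or.inl (Or.inl (B.toCover.gSet_inv L g hg))
  · exact Or.inl (Or.inr ⟨b, hb, -t, (B.slift_neg (B.sok (L.bars b hb).2) t).symm⟩)
  · exact Or.inr ⟨c, hc, t⁻¹, inv_ne_zero ht, B.toCover.hh_inv L (L.lok' hc) ht⟩

theorem conj_uniB {x : ι} (Lx : Lvl H R x) : ∀ m ∈ leviB H ρ z R a, ∀ u ∈ uniB H ρ z R x,
    m * u * m⁻¹ ∈ uniB H ρ z R x := by
  refine conj_mem_closure (B.leviSetB_inv L) ?_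
  have hx := B.sokL Lx.swap
  rintro g ((hg | ⟨b, hb, s, rfl⟩) | ⟨c, hc, t, ht, rfl⟩) y (hy | ⟨r, rfl⟩)
  · exact uni_le_uniB (B.toCover.conj_uni L Lx g (Subgroup.subset_closure (Or.inl hg)) y
      (Subgroup.subset_closure hy))
  · obtain ⟨p, q, t, hp, hq, h, rfl⟩ := hg
    rw [← (B.slift_disjoint hx h (Lx.ne_a' hp).symm
      (Lx.ne_a' (L.bar_mem hp)).symm (Lx.ne_a' hq).symm (Lx.ne_a' (L.bar_mem hq)).symm r t).eq,
      mul_inv_cancel_right]
    exact slift_mem_uniB r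
  · obtain ⟨d, hd, y, rfl⟩ := hy
    have hbs := B.sok (L.bars b hb).2
    by_cases e : d = H.bar b
    · subst e
      have hR : H.LOK (H.bar x) b := by
        have := LOK.symm H (Lx.lok (L.bar_mem hb))
        rwa [H.bar_bar] at this
      have e1 : lift H ρ (H.bar b) x y = lift H ρ (H.bar x) b (-y) := by
        have := B.toCover.lift_symm (Lx.lok (L.bar_mem hb)) (-y)
        rw [H.bar_bar, neg_neg] at this
        exact this.symm
      have h1 := B.lift_conj_slift hbs hx hR (-s) (-y)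
      rw [H.bar_bar] at h1
      have h2 : slift H ρ z b s * lift H ρ (H.bar x) b (-y) * (slift H ρ z b s)⁻¹ =
          lift H ρ b x ((-s) ^ 2 * -y) * slift H ρ z (H.bar x) (-s * -y) *
            lift H ρ (H.bar x) b (-y) := by
        calc slift H ρ z b s * lift H ρ (H.bar x) b (-y) * (slift H ρ z b s)⁻¹
            = slift H ρ z b s * (lift H ρ (H.bar x) b (-y) * slift H ρ z b (-s) *
                (lift H ρ (H.bar x) b (-y))⁻¹) * lift H ρ (H.bar x) b (-y) := by
              rw [B.slift_neg hbs]; group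
          _ = _ := by
              rw [h1, ← mul_assoc, ← mul_assoc, (B.slift_long hbs (Lx.lok hb) s _).eq,
                mul_assoc _ (slift H ρ z b s) (slift H ρ z b (-s)), ← B.slift_add hbs,
                add_neg_cancel, B.slift_zero hbs, mul_one]
      rw [e1, h2, ← e1]
      exact mul_mem (mul_mem (uni_le_uniB (Subgroup.subset_closure ⟨b, hb, _, rfl⟩))
        (slift_mem_uniB _)) (uni_le_uniB (Subgroup.subset_closure ⟨_, hd, _, rfl⟩))
    · have hcm : Commute (slift H ρ z b s) (lift H ρ d x y) := by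
        by_cases e' : d = b
        · subst e'; exact B.slift_long hbs (Lx.lok hd) s y
        · exact B.slift_disjoint hbs (Lx.lok hd) (Ne.symm e') (fun h => e (by rw [h, H.bar_bar]))
            (Lx.ne_a hb) (Lx.ne_a' hb) s y
      rw [hcm.eq, mul_inv_cancel_right]
      exact uni_le_uniB (Subgroup.subset_closure ⟨d, hd, y, rfl⟩)
  · have hbs := B.sok (L.bars b hb).2
    have h : H.LOK (H.bar x) (H.bar b) := LOK.symm H (Lx.lok hb)
    rw [B.slift_short hbs hx h s r, mul_inv_cancel_right, B.toCover.lift_symm (Lx.lok hb)]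
    exact mul_mem (uni_le_uniB (Subgroup.subset_closure ⟨b, hb, _, rfl⟩)) (slift_mem_uniB _)
  · exact uni_le_uniB (B.toCover.conj_uni L Lx _ (Subgroup.subset_closure (Or.inr ⟨c, hc, t, ht, rfl⟩))
      y (Subgroup.subset_closure hy))
  · obtain ⟨γ, M, -, -, -, -, h5⟩ := B.toCover.hh_mono (L.lok' hc) ht
    rw [B.slift_diag M hx (by rw [B.diag_fix (L.lok' hc) h5, one_mul])]
    exact slift_mem_uniB _

theorem bigB_one : bigB H ρ z R a 1 := ⟨1, one_mem _, 1, one_mem _, 1, one_mem _, by group⟩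

theorem paraB_mul {g : E} (hg : g ∈ paraB H ρ z R a) {b : E} (hb : bigB H ρ z R a b) :
    bigB H ρ z R a (g * b) := by
  have hu : ∀ g ∈ uniB H ρ z R a, ∀ b, bigB H ρ z R a b → bigB H ρ z R a (g * b) := by
    rintro g hg b ⟨u, hu, m, hm, v, hv, rfl⟩
    exact ⟨g * u, mul_mem hg hu, m, hm, v, hv, by group⟩
  have hm' : ∀ g ∈ leviB H ρ z R a, ∀ b, bigB H ρ z R a b → bigB H ρ z R a (g * b) := by
    rintro g hg b ⟨u, hu, m, hm, v, hv, rfl⟩
    exact ⟨g * u * g⁻¹, B.conj_uniB L L g hg u hu, g * m, mul_mem hg hm, v, hv, by group⟩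
  induction hg using Subgroup.closure_induction'' generalizing b with
  | mem x hx =>
    rcases hx with hx | hx
    · exact hm' x (Subgroup.subset_closure hx) b hb
    · exact hu x (Subgroup.subset_closure hx) b hb
  | inv_mem x hx =>
    rcases hx with hx | hx
    · exact hm' _ (inv_mem (Subgroup.subset_closure hx)) b hb
    · exact hu _ (inv_mem (Subgroup.subset_closure hx)) b hb
  | one => rwa [one_mul]
  | mul x y _ _ hx hy => rw [mul_assoc]; exact hx (hy hb)

theorem leviB_mul {g : E} (hg : g ∈ leviB H ρ z R a) {b : E} (hb : bigB H ρ z R a b) :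
    bigB H ρ z R a (g * b) := B.paraB_mul L (leviB_le_paraB hg) hb

/-- conjugates of `u₀` by `lift a c t`, before and after the Weyl element -/
theorem conj_core {c : ι} (hc : c ∈ R) (t : F) {u₀ : E} (hu₀ : u₀ ∈ uni H ρ (R.erase c) a) :
    lift H ρ a c t * u₀ * (lift H ρ a c t)⁻¹ ∈ para H ρ R a ∧
      (wl H ρ c a 1)⁻¹ * (lift H ρ a c t * u₀ * (lift H ρ a c t)⁻¹) * wl H ρ c a 1 ∈
        para H ρ R a := by
  have C := B.toCover
  set x := lift H ρ a c t with hx
  set w := wl H ρ c a 1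
  have P := C.wPerm_facts L hc
  induction hu₀ using Subgroup.closure_induction with
  | mem g hg =>
    obtain ⟨d, hd, s, rfl⟩ := hg
    obtain ⟨hdc, hdR⟩ := Finset.mem_erase.1 hd
    by_cases e : d = H.bar c
    · subst e
      have e1 : x = lift H ρ (H.bar c) (H.bar a) (-t) := by
        rw [C.lift_symm (L.lok' hc), neg_neg]
      rw [e1, ((C.commute_bar (L.lok (L.bar_mem hc)) s (-t)).symm).eq, mul_inv_cancel_right]
      obtain ⟨s', hs⟩ := C.wl_conj L hc (L.lok hdR) s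
      refine ⟨uni_le_para (Subgroup.subset_closure ⟨_, hdR, s, rfl⟩), ?_⟩
      rw [hs, P.1, P.2.2.2.1]
      apply uni_le_para
      have := C.lift_symm (L.lok (L.bar_mem hc)) s'
      rw [H.bar_bar] at this
      rw [this]
      exact Subgroup.subset_closure ⟨_, L.bar_mem hc, _, rfl⟩
    · have hdc' : H.LOK d c := ⟨(L.bars d hdR).2, (L.bars c hc).2, hdc, e⟩
      have h1 := C.comm (L.lok hdR) (L.lok' hc) hdc' s t
      have h2 : x * lift H ρ d a s * x⁻¹ = (lift H ρ d c (s * t))⁻¹ * lift H ρ d a s := by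
        rw [hx, mul_inv_eq_iff_eq_mul, eq_comm, mul_assoc, inv_mul_eq_iff_eq_mul, h1, mul_assoc]
      rw [h2]
      refine ⟨mul_mem (inv_mem (levi_le_para (gS_le_levi (Subgroup.subset_closure
        ⟨d, c, _, hdR, hc, hdc', rfl⟩)))) (uni_le_para (Subgroup.subset_closure ⟨d, hdR, s, rfl⟩)), ?_⟩
      obtain ⟨s1, hs1⟩ := C.wl_conj L hc hdc' (s * t)
      obtain ⟨s2, hs2⟩ := C.wl_conj L hc (L.lok hdR) s
      have e3 : w⁻¹ * ((lift H ρ d c (s * t))⁻¹ * lift H ρ d a s) * w =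
          (w⁻¹ * lift H ρ d c (s * t) * w)⁻¹ * (w⁻¹ * lift H ρ d a s * w) := by group
      rw [e3, hs1, hs2, P.1, P.2.1, P.2.2.2.2 d hdR hdc e]
      exact mul_mem (inv_mem (uni_le_para (Subgroup.subset_closure ⟨d, hdR, _, rfl⟩)))
        (levi_le_para (gS_le_levi (Subgroup.subset_closure ⟨d, c, _, hdR, hc, hdc', rfl⟩)))
  | one => simp
  | mul g g' _ _ hg hg' =>
    constructor
    · have := mul_mem hg.1 hg'.1
      simpa [mul_assoc] using this
    · have := mul_mem hg.2 hg'.2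
      simpa [mul_assoc] using this
  | inv g _ hg =>
    constructor
    · have := inv_mem hg.1
      simpa [mul_assoc] using this
    · have := inv_mem hg.2
      simpa [mul_assoc] using this

theorem right_part {c : ι} (hc : c ∈ R) {k : E} (hk : k ∈ leviB H ρ z R a) (s σ : F) {m v : E}
    (hm : m ∈ leviB H ρ z R a) (hv : v ∈ uniB H ρ z R (H.bar a)) :
    bigB H ρ z R a (k * lift H ρ a c s * (slift H ρ z (H.bar a) σ * (m * v))) := by
  have C := B.toCover
  have hs := B.sokL L.swap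
  have hD : H.SOK z (H.bar c) := B.sok (L.bars _ (L.bar_mem hc)).2
  have hR : H.LOK (H.bar c) (H.bar a) := LOK.symm H (L.lok' hc)
  have h1 := B.lift_conj_slift hs hD hR σ (-s)
  rw [H.bar_bar, C.lift_symm (L.lok' hc), neg_neg] at h1
  have hL : lift H ρ (H.bar a) c (σ ^ 2 * -s) ∈ uniB H ρ z R a := by
    have := C.lift_symm (L.lok (L.bar_mem hc)) (σ ^ 2 * -s)
    rw [H.bar_bar] at this
    rw [this]
    exact uni_le_uniB (Subgroup.subset_closure ⟨_, L.bar_mem hc, _, rfl⟩)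
  have hup : lift H ρ a c s ∈ uniB H ρ z R (H.bar a) := by
    rw [← neg_neg s, ← C.lift_symm (L.lok' hc)]
    exact uni_le_uniB (Subgroup.subset_closure ⟨_, L.bar_mem hc, _, rfl⟩)
  have e : k * lift H ρ a c s * (slift H ρ z (H.bar a) σ * (m * v)) =
      (k * (lift H ρ (H.bar a) c (σ ^ 2 * -s) * slift H ρ z (H.bar a) σ *
        slift H ρ z (H.bar c) (σ * -s))) * (1 * m * (m⁻¹ * lift H ρ a c s * m⁻¹⁻¹ * v)) := by
    rw [← h1]; group
  rw [e]
  refine B.paraB_mul L (mul_mem (leviB_le_paraB hk) (mul_mem (mul_mem (uniB_le_paraB hL)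
    (uniB_le_paraB (slift_mem_uniB _))) (leviB_le_paraB (Subgroup.subset_closure
      (Or.inl (Or.inr ⟨_, L.bar_mem hc, _, rfl⟩))))))
    ⟨1, one_mem _, m, hm, _, mul_mem (B.conj_uniB L L.swap _ (inv_mem hm) _ hup) hv, rfl⟩

theorem hh_conj_wl {c : ι} (hc : c ∈ R) {k : F} (hk : k ≠ 0) :
    (wl H ρ c a 1)⁻¹ * hh H ρ c a k * wl H ρ c a 1 ∈ levi H ρ R a := by
  have C := B.toCover
  set w := wl H ρ c a 1
  have M := C.wl_mono (L.lok hc) (neg_ne_zero.2 (one_ne_zero (α := F)))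
  have e3 : w⁻¹ = wl H ρ c a (-1) := (C.wl_neg (L.lok hc) 1).symm
  rw [e3, ← inv_inv w, e3, C.conj_hh M (L.lok hc)]
  have P := C.wPerm_facts L hc
  rw [P.2.1, P.1]
  have hγ := div_ne_zero (M.ne_zero c) (M.ne_zero a)
  refine mul_mem (C.hh_mem L hc ?_) (inv_mem (C.hh_mem L hc hγ))
  rw [mul_div_assoc]
  exact mul_ne_zero hk hγ

theorem root_case2 {c : ι} (hc : c ∈ R) {y : F} (hy : y ≠ 0) {u₀ : E}
    (hu₀ : u₀ ∈ uni H ρ (R.erase c) a) (σ : F) {m v : E}
    (hm : m ∈ leviB H ρ z R a) (hv : v ∈ uniB H ρ z R (H.bar a)) :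
    ∃ b', bigB H ρ z R a b' ∧ lift H ρ a c (-y⁻¹) *
      (u₀ * lift H ρ c a y * (slift H ρ z (H.bar a) σ * (m * v))) = wl H ρ c a 1 * b' := by
  have C := B.toCover
  set t := -y⁻¹ with htdef
  have ht : t ≠ 0 := neg_ne_zero.2 (inv_ne_zero hy)
  have hy' : y = -t⁻¹ := by rw [htdef, inv_neg, inv_inv, neg_neg]
  set x := lift H ρ a c t with hx
  set w := wl H ρ c a 1
  have e1 : x * lift H ρ c a y = w * (w⁻¹ * hh H ρ c a (-t⁻¹) * w) * lift H ρ a c (-t) := by
    calc x * lift H ρ c a y = wl H ρ a c t * (lift H ρ a c t)⁻¹ := by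
          rw [wl, ← hy', hx, mul_inv_cancel_right]
      _ = hh H ρ c a (-t⁻¹) * w * lift H ρ a c (-t) := by
          rw [(C.rank_one (L.lok' hc)).1 t ht, C.wl_eq_hh (L.lok hc), C.lift_neg (L.lok' hc) t]
      _ = _ := by group
  obtain ⟨-, h2⟩ := B.conj_core L hc t hu₀
  refine ⟨(w⁻¹ * (x * u₀ * x⁻¹) * w) * ((w⁻¹ * hh H ρ c a (-t⁻¹) * w) * lift H ρ a c (-t) *
    (slift H ρ z (H.bar a) σ * (m * v))), B.paraB_mul L (para_le_paraB h2) (B.right_part L hc
      (levi_le_leviB (B.hh_conj_wl L hc (neg_ne_zero.2 (inv_ne_zero ht)))) _ σ hm hv), ?_⟩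
  calc x * (u₀ * lift H ρ c a y * (slift H ρ z (H.bar a) σ * (m * v)))
      = (x * u₀ * x⁻¹) * (x * lift H ρ c a y) * (slift H ρ z (H.bar a) σ * (m * v)) := by group
    _ = _ := by rw [e1]; group

theorem root_cellB {c : ι} (hc : c ∈ R) (t : F) {b : E} (hb : bigB H ρ z R a b) :
    bigB H ρ z R a (lift H ρ a c t * b) ∨
      ∃ b', bigB H ρ z R a b' ∧ lift H ρ a c t * b = wl H ρ c a 1 * b' := by
  have C := B.toCover
  obtain ⟨u, hu, m, hm, v, hv, rfl⟩ := hb
  obtain ⟨u₁, hu₁, σ, rfl⟩ := B.uniB_split L u hu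
  obtain ⟨u₀, hu₀, y, rfl⟩ := C.uni_split L subset_rfl hc u₁ hu₁
  by_cases h1 : 1 + t * y = 0
  · right
    have hy : y ≠ 0 := by rintro rfl; simp at h1
    have e : t = -y⁻¹ := by field_simp; linear_combination h1
    obtain ⟨b', hb', he⟩ := B.root_case2 L hc hy hu₀ σ hm hv
    refine ⟨b', hb', ?_⟩
    rw [← he, e]
    group
  · left
    set x := lift H ρ a c t with hx
    obtain ⟨h2, -⟩ := B.conj_core L hc t hu₀
    have e : x * (u₀ * lift H ρ c a y * slift H ρ z (H.bar a) σ * m * v) =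
        (x * u₀ * x⁻¹ * lift H ρ c a (y / (1 + t * y))) *
          (hh H ρ a c (1 + t * y) * lift H ρ a c (t / (1 + t * y)) *
            (slift H ρ z (H.bar a) σ * (m * v))) := by
      calc x * (u₀ * lift H ρ c a y * slift H ρ z (H.bar a) σ * m * v)
          = (x * u₀ * x⁻¹) * (x * lift H ρ c a y) * (slift H ρ z (H.bar a) σ * (m * v)) := by group
        _ = _ := by rw [hx, (C.rank_one (L.lok' hc)).2.2.2 t y h1]; group
    rw [e]
    exact B.paraB_mul L (para_le_paraB (mul_mem h2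
      (uni_le_para (Subgroup.subset_closure ⟨c, hc, _, rfl⟩))))
      (B.right_part L hc (levi_le_leviB (C.hh_mem L hc h1)) _ σ hm hv)

theorem root_bigB {p q : ι} (hp : p ∈ insert a (insert (H.bar a) R))
    (hq : q ∈ insert a (insert (H.bar a) R)) (h : H.LOK p q) (t : F) {b : E}
    (hb : bigB H ρ z R a b) : inCellB H ρ z R a (lift H ρ p q t * b) := by
  rcases B.toCover.classify L hp hq h t with h' | ⟨c, hc, s, e⟩
  · exact Or.inl (B.paraB_mul L (para_le_paraB h') hb)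
  · rw [e]
    rcases B.root_cellB L hc s hb with h' | ⟨b', hb', h'⟩
    · exact Or.inl h'
    · exact Or.inr (Or.inl ⟨c, hc, b', hb', h'⟩)

theorem wl_inCellB {c : ι} (hc : c ∈ R) {g : E} (hg : inCellB H ρ z R a g) :
    inCellB H ρ z R a (wl H ρ c a 1 * g) := by
  have C := B.toCover
  have single : ∀ {c d : ι}, c ∈ R → d ∈ R → ∀ b, bigB H ρ z R a b →
      inCellB H ρ z R a (wl H ρ c a 1 * (wl H ρ d a 1 * b)) := by
    intro c d hc hd b hb
    rw [← mul_assoc]
    rcases C.wl_mul L hc hd with h | rfl | ⟨m, hm, h⟩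
    · exact Or.inl (B.leviB_mul L (levi_le_leviB h) hb)
    · exact Or.inr (Or.inr ⟨c, hc, b, hb, rfl⟩)
    · rw [h, mul_assoc]
      exact Or.inr (Or.inl ⟨d, hd, _, B.leviB_mul L (levi_le_leviB hm) hb, rfl⟩)
  rcases hg with hb | ⟨d, hd, b, hb, rfl⟩ | ⟨d, hd, b, hb, rfl⟩
  · exact Or.inr (Or.inl ⟨c, hc, g, hb, rfl⟩)
  · exact single hc hd b hb
  · have hd' := L.bar_mem hd
    have hcm := C.wl_commute L hd
    set n := wl H ρ c a 1
    by_cases e1 : c = d
    · subst e1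
      refine Or.inr (Or.inl ⟨H.bar c, hd', n * n * b,
        B.leviB_mul L (levi_le_leviB (C.wl_sq L hc)) hb, ?_⟩)
      calc n * (n * wl H ρ (H.bar c) a 1 * b) = n * (n * wl H ρ (H.bar c) a 1) * b := by group
        _ = n * (wl H ρ (H.bar c) a 1 * n) * b := by rw [hcm.eq]
        _ = (n * wl H ρ (H.bar c) a 1) * n * b := by group
        _ = wl H ρ (H.bar c) a 1 * n * n * b := by rw [hcm.eq]
        _ = _ := by simp only [n, mul_assoc]
    by_cases e2 : c = H.bar d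
    · subst e2
      refine Or.inr (Or.inl ⟨d, hd, n * n * b,
        B.leviB_mul L (levi_le_leviB (C.wl_sq L hc)) hb, ?_⟩)
      calc n * (wl H ρ d a 1 * n * b) = (n * wl H ρ d a 1) * n * b := by group
        _ = _ := by rw [← hcm.eq]; simp only [n, mul_assoc]
    have e1' : c ≠ H.bar c := (L.bars c hc).2.symm
    set w := wl H ρ d a 1
    set w' := wl H ρ (H.bar d) a 1
    have M1 := C.wl_mono (L.lok hd) (neg_ne_zero.2 (one_ne_zero (α := F)))
    have M2 := C.wl_mono (L.lok hd') (neg_ne_zero.2 (one_ne_zero (α := F)))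
    have M : Mono H (ρ (w' ⁻¹ * w⁻¹)) (wPerm H (H.bar d) a ∘ wPerm H d a) fun i =>
        wCoef H (H.bar d) a (-1) (wPerm H d a i) * wCoef H d a (-1) i := by
      rw [← C.wl_neg (L.lok hd'), ← C.wl_neg (L.lok hd), map_mul]
      exact M2.mul M1
    have P := C.wPerm_facts L hd
    have P' := C.wPerm_facts L hd'
    have pc : (wPerm H (H.bar d) a ∘ wPerm H d a) c = c := by
      rw [Function.comp_apply, P.2.2.2.2 c hc e1 e2,
        P'.2.2.2.2 c hc e2 (by rw [H.bar_bar]; exact e1)]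
    have pa : (wPerm H (H.bar d) a ∘ wPerm H d a) a = H.bar a := by
      rw [Function.comp_apply, P.1]
      have := P'.2.2.2.1
      rwa [H.bar_bar] at this
    have hk := C.conj_wl M (L.lok hc) 1
    rw [pc, pa, _root_.mul_inv_rev, inv_inv, inv_inv] at hk
    set K := 1 * (wCoef H (H.bar d) a (-1) (wPerm H d a c) * wCoef H d a (-1) c) /
        (wCoef H (H.bar d) a (-1) (wPerm H d a a) * wCoef H d a (-1) a)
    have hK : K ≠ 0 := div_ne_zero (mul_ne_zero one_ne_zero (M.ne_zero c)) (M.ne_zero a)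
    have hc' := L.bar_mem hc
    have h' : H.LOK c (H.bar a) := (L.swap).lok hc
    -- rewrite the root to the partner of `c`
    have e3 : wl H ρ c (H.bar a) K = wl H ρ (H.bar c) a K⁻¹ := by
      have s1 : ∀ t, lift H ρ c (H.bar a) t = lift H ρ a (H.bar c) (-t) := fun t => by
        have := C.lift_symm (L.lok' hc') t
        rwa [H.bar_bar] at this
      have s2 : ∀ t, lift H ρ (H.bar a) c t = lift H ρ (H.bar c) a (-t) := fun t => by
        have := C.lift_symm (L.lok hc') t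
        rwa [H.bar_bar] at this
      have : wl H ρ c (H.bar a) K = wl H ρ a (H.bar c) (-K) := by
        simp only [wl, s1, s2, neg_neg, inv_neg]
      rw [this, (C.rank_one (L.lok' hc')).1 _ (neg_ne_zero.2 hK), inv_neg, neg_neg]
    have e4 : n * (w * w' * b) = w * w' *
        (wl H ρ (H.bar c) a 1 *
          (((wl H ρ (H.bar c) a 1)⁻¹ * hh H ρ (H.bar c) a K⁻¹ * wl H ρ (H.bar c) a 1) * b)) := by
      rw [show n * (w * w' * b) = w * w' * ((w'⁻¹ * w⁻¹ * n * (w * w')) * b) by group]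
      rw [show w'⁻¹ * w⁻¹ * n * (w * w') = wl H ρ (H.bar c) a K⁻¹ by rw [← e3, ← hk],
        C.wl_eq_hh (L.lok hc')]
      group
    rw [e4]
    set b₁ := ((wl H ρ (H.bar c) a 1)⁻¹ * hh H ρ (H.bar c) a K⁻¹ * wl H ρ (H.bar c) a 1) * b
    have hb₁ : bigB H ρ z R a b₁ :=
      B.leviB_mul L (levi_le_leviB (B.hh_conj_wl L hc' (inv_ne_zero hK))) hb
    rcases C.wl_mul L hd' hc' with h | h | ⟨m, hm, h⟩
    · refine Or.inr (Or.inl ⟨d, hd, _, B.leviB_mul L (levi_le_leviB h) hb₁, ?_⟩)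
      simp only [w, w', mul_assoc]
    · rw [H.bar_bar] at h
      exact absurd (by rw [← h, H.bar_bar]) e2
    · have := single hd hc' _ (B.leviB_mul L (levi_le_leviB hm) hb₁)
      rw [show w * (wl H ρ (H.bar c) a 1 * (m * b₁)) =
        w * (wl H ρ (H.bar c) a 1 * m) * b₁ by group, ← h] at this
      simpa only [mul_assoc] using this

theorem wS_mono {b : ι} (hb : b ∈ R) {t : F} (ht : t ≠ 0) :
    ∃ (π : ι → ι) (γ : ι → F), Mono H (ρ (wS H ρ z b t)) π γ ∧ π a = a ∧ π b = H.bar b ∧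
      γ a = 1 ∧ γ z * γ z = 1 := by
  have hbs := B.sok (L.bars b hb).2
  obtain ⟨n1, n2, n3⟩ := sok_ne hbs
  obtain ⟨φ, f1, f2, fv⟩ := B.exists_sl2S hbs
  have hA : (xt (0 : Fin 2) 1 t * xt 1 0 (-t⁻¹) * xt 0 1 t : Matrix.SpecialLinearGroup (Fin 2) F).1 =
      !![0, t; -t⁻¹, 0] := by
    ext i j
    fin_cases i <;> fin_cases j <;>
      simp [xt_eq, Matrix.SpecialLinearGroup.transvection_coe, Matrix.SpecialLinearGroup.coe_mul,
        Matrix.mul_apply, Fin.sum_univ_two, Matrix.one_apply, Matrix.single, ht]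
  have hW : wS H ρ z b t = φ (xt 0 1 t * xt 1 0 (-t⁻¹) * xt 0 1 t) := by
    simp only [map_mul, f1, f2, neg_neg, wS]
  have ha1 : a ≠ b := (L.ne_a hb).symm
  have ha2 : a ≠ H.bar b := (L.ne_a (L.bar_mem hb)).symm
  have ha3 : a ≠ z := (B.z_ne L.ne).1.symm
  refine ⟨fun i => if i = b then H.bar b else if i = H.bar b then b else i,
    fun i => if i = b then -(t⁻¹ ^ 2) else if i = H.bar b then -(t ^ 2) else if i = z then -1 else 1,
    ⟨Function.Involutive.injective fun i => ?_, fun i => ?_, fun i => ?_, fun i => ?_,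
      fun i hi => ?_⟩, ?_, ?_, ?_, ?_⟩
  · by_cases i1 : i = b
    · subst i1; simp [n3]
    by_cases i2 : i = H.bar b
    · subst i2; simp [n3]
    simp [i1, i2]
  · by_cases i1 : i = b
    · subst i1; simp [n3, H.bar_bar]
    by_cases i2 : i = H.bar b
    · subst i2; simp [n3, H.bar_bar]
    have j1 : H.bar i ≠ b := fun e => i2 (by rw [← e, H.bar_bar])
    have j2 : H.bar i ≠ H.bar b := fun e => i1 (H.bar_inj e)
    simp [i1, i2, j1, j2]
  · obtain ⟨a1, a2, a3, a4⟩ := fv (xt 0 1 t * xt 1 0 (-t⁻¹) * xt 0 1 t) (Pi.single i 1)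
    rw [← hW] at a1 a2 a3 a4
    rw [hA] at a1 a2 a3
    simp [ht, -Matrix.mulVec_single, -Matrix.mulVec_single_one] at a1 a2 a3
    funext j
    by_cases j1 : j = b
    · subst j1; rw [a1]
      by_cases i1 : i = H.bar j
      · subst i1; simp [n3]
      by_cases i2 : i = j
      · subst i2; simp [n3, n3.symm]
      simp [i1, i2, Ne.symm i1, Ne.symm i2]
    by_cases j2 : j = z
    · subst j2; rw [a2]
      by_cases i1 : i = j
      · subst i1; simp [n1, n2]
      by_cases i2 : i = b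
      · subst i2; simp [n1, n2]
      by_cases i3 : i = H.bar b
      · subst i3; simp [n1, n2, n3, n2.symm]
      simp [i1, i2, i3, Ne.symm i1]
    by_cases j3 : j = H.bar b
    · subst j3; rw [a3]
      by_cases i1 : i = b
      · subst i1; simp
      by_cases i2 : i = H.bar b
      · subst i2; simp [n3, n3.symm]
      simp [i1, i2, Ne.symm i1, Ne.symm i2]
    rw [a4 j j1 j2 j3]
    by_cases i1 : i = b
    · subst i1; simp [j1, j3]
    by_cases i2 : i = H.bar b
    · subst i2; simp [j1, j3, n3]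
    by_cases i3 : i = z
    · subst i3; simp [j2, i1, i2]
    simp [i1, i2, i3]
  · show (if i = b then -(t⁻¹ ^ 2) else if i = H.bar b then -(t ^ 2) else if i = z then (-1 : F)
      else 1) ≠ 0
    split_ifs <;> simp [ht]
  · by_cases i1 : i = b
    · subst i1; simp [n3, ht]
    by_cases i2 : i = H.bar b
    · subst i2; simp [H.bar_bar, n3, ht]
    have i3 : i ≠ z := fun e => hi (by rw [e, B.fix])
    have j1 : H.bar i ≠ b := fun e => i2 (by rw [← e, H.bar_bar])
    have j2 : H.bar i ≠ H.bar b := fun e => i1 (H.bar_inj e)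
    have j3 : H.bar i ≠ z := fun e => i3 (H.bar_inj (e.trans B.fix.symm))
    simp [i1, i2, i3, j1, j2, j3]
  · simp [ha1, ha2]
  · simp
  · simp [ha1, ha2, ha3]
  · simp [n1, n2]

theorem wS_conj_wl {q : ι} (hq : q ∈ R) (t : F) :
    wl H ρ q a 1 * wS H ρ z q (-t) * (wl H ρ q a 1)⁻¹ = wS H ρ z a t := by
  have C := B.toCover
  have M := C.wl_mono (L.lok hq) (t := 1) one_ne_zero
  obtain ⟨q1, q2, q3⟩ := sok_ne (B.sok (L.bars q hq).2)
  obtain ⟨a1, a2, a3⟩ := sok_ne (B.sokL L)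
  have hγz : wCoef H q a (1 : F) z = 1 := wCoef_other 1 q1 a1 q2 a2
  rw [B.conj_wS M (B.sok (L.bars q hq).2) (by rw [hγz, one_mul]), (C.wPerm_facts L hq).2.1, hγz,
    (wCoef_self (L.lok hq) (1 : F)).1]
  simp

theorem wS_double {q : ι} (hq : q ∈ R) {t : F} (ht : t ≠ 0) :
    ∃ m ∈ leviB H ρ z R a,
      wS H ρ z a t = wl H ρ q a 1 * wl H ρ (H.bar q) a 1 * m := by
  have C := B.toCover
  set n := wl H ρ q a 1
  set W := wS H ρ z q (-t)
  obtain ⟨π, γ, MW, pa, pq, ga, gz⟩ := B.wS_mono L hq (neg_ne_zero.2 ht)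
  have hq' := L.bar_mem hq
  have h1 := C.conj_wl MW (L.lok hq) (-1)
  rw [C.wl_neg (L.lok hq), pa, pq] at h1
  set k := (-1 : F) * γ q / γ a
  have hk : k ≠ 0 := div_ne_zero (mul_ne_zero (neg_ne_zero.2 one_ne_zero) (MW.ne_zero q))
    (MW.ne_zero a)
  set n' := wl H ρ (H.bar q) a 1
  refine ⟨(n'⁻¹ * hh H ρ (H.bar q) a k * n') * W, mul_mem
    (levi_le_leviB (B.hh_conj_wl L hq' hk)) ?_, ?_⟩
  · have hm : ∀ b ∈ R, ∀ s, slift H ρ z b s ∈ leviB H ρ z R a := fun b hb s =>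
      Subgroup.subset_closure (Or.inl (Or.inr ⟨b, hb, s, rfl⟩))
    exact mul_mem (mul_mem (hm _ hq _) (hm _ hq' _)) (hm _ hq _)
  · calc wS H ρ z a t = n * W * n⁻¹ := (B.wS_conj_wl L hq t).symm
      _ = n * (W * n⁻¹ * W⁻¹) * W := by group
      _ = n * (hh H ρ (H.bar q) a k * n') * W := by rw [h1, C.wl_eq_hh (L.lok hq')]
      _ = _ := by group

theorem hS_mem {q : ι} (hq : q ∈ R) {t : F} (ht : t ≠ 0) :
    hS H ρ z a t ∈ leviB H ρ z R a := by
  have C := B.toCover
  set n := wl H ρ q a 1 with hn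
  set W := wS H ρ z q (-t)
  set W' := wS H ρ z q (- -1)
  obtain ⟨π, γ, MW, pa, pq, ga, gz⟩ := B.wS_mono L hq (neg_ne_zero.2 ht)
  obtain ⟨π', γ', MW', pa', pq', ga', gz'⟩ :=
    B.wS_mono L hq (neg_ne_zero.2 (neg_ne_zero.2 (one_ne_zero (α := F))))
  set h := W * W'
  have M : Mono H (ρ h) (π ∘ π') fun i => γ (π' i) * γ' i := by
    rw [map_mul]; exact MW.mul MW'
  have hq' : (π ∘ π') q = q := by
    rw [Function.comp_apply, pq', MW.bar, pq, H.bar_bar]
  have ha' : (π ∘ π') a = a := by rw [Function.comp_apply, pa', pa]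
  have h1 := C.conj_wl M (L.lok hq) (-1)
  rw [C.wl_neg (L.lok hq), hq', ha'] at h1
  set k := (-1 : F) * (γ (π' q) * γ' q) / (γ (π' a) * γ' a)
  have hk : k ≠ 0 := div_ne_zero (mul_ne_zero (neg_ne_zero.2 one_ne_zero) (M.ne_zero q)) (M.ne_zero a)
  have hmem : h ∈ leviB H ρ z R a := by
    have hm : ∀ b ∈ R, ∀ s, slift H ρ z b s ∈ leviB H ρ z R a := fun b hb s =>
      Subgroup.subset_closure (Or.inl (Or.inr ⟨b, hb, s, rfl⟩))
    exact mul_mem (mul_mem (mul_mem (hm _ hq _) (hm _ (L.bar_mem hq) _)) (hm _ hq _))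
      (mul_mem (mul_mem (hm _ hq _) (hm _ (L.bar_mem hq) _)) (hm _ hq _))
  have e : hS H ρ z a t = n * hh H ρ q a k * n⁻¹ * (n * n) * h := by
    calc hS H ρ z a t = (n * W * n⁻¹) * (n * W' * n⁻¹) := by
          rw [hS, ← B.wS_conj_wl L hq t, ← B.wS_conj_wl L hq (-1)]
      _ = n * (h * n⁻¹ * h⁻¹) * h := by simp only [h]; group
      _ = n * (hh H ρ q a k * n) * h := by rw [h1, C.wl_eq_hh (L.lok hq)]
      _ = _ := by group
  rw [e]
  refine mul_mem (mul_mem ?_ (levi_le_leviB (C.wl_sq L hq))) hmem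
  have Mn := C.wl_mono (L.lok hq) (t := 1) one_ne_zero
  have P := C.wPerm_facts L hq
  rw [C.conj_hh Mn (L.lok hq), P.2.1, P.1]
  have hγ := div_ne_zero (Mn.ne_zero q) (Mn.ne_zero a)
  refine levi_le_leviB (mul_mem (C.hh_mem L hq ?_) (inv_mem (C.hh_mem L hq hγ)))
  rw [mul_div_assoc]
  exact mul_ne_zero hk hγ

theorem uni_cases : ∀ T : Finset ι, T ⊆ R → ∀ u ∈ uni H ρ T a, u = 1 ∨
    ∃ c ∈ R, ∃ u₀ ∈ uni H ρ (R.erase c) a, ∃ y : F, y ≠ 0 ∧ u = u₀ * lift H ρ c a y := by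
  have C := B.toCover
  intro T
  induction T using Finset.induction_on with
  | empty =>
    intro _ u hu
    have : uSet H ρ ∅ a = ∅ := by ext y; simp [uSet]
    rw [uni, this, Subgroup.closure_empty, Subgroup.mem_bot] at hu
    exact Or.inl hu
  | @insert c T hcT ih =>
    intro hsub u hu
    have hc : c ∈ R := hsub (Finset.mem_insert_self c T)
    have hT : T ⊆ R := fun x hx => hsub (Finset.mem_insert_of_mem hx)
    obtain ⟨u₀, hu₀, y, rfl⟩ := C.uni_split L hsub hc u hu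
    rw [Finset.erase_insert hcT] at hu₀
    by_cases hy : y = 0
    · subst hy
      rw [C.lift_zero (L.lok hc), mul_one]
      exact ih hT u₀ hu₀
    · refine Or.inr ⟨c, hc, u₀, ?_, y, hy, rfl⟩
      refine Subgroup.closure_mono ?_ hu₀
      rintro g ⟨d, hd, s, rfl⟩
      exact ⟨d, Finset.mem_erase.2 ⟨fun e => hcT (e ▸ hd), hT hd⟩, s, rfl⟩

theorem short_cellB {q : ι} (hq : q ∈ R) (t : F) {b : E} (hb : bigB H ρ z R a b) :
    inCellB H ρ z R a (slift H ρ z a t * b) := by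
  have C := B.toCover
  obtain ⟨u, hu, m, hm, v, hv, rfl⟩ := hb
  obtain ⟨u₁, hu₁, σ, rfl⟩ := B.uniB_split L u hu
  have hs := B.sokL L
  rcases B.uni_cases L R subset_rfl u₁ hu₁ with rfl | ⟨c, hc, u₀, hu₀, y, hy, rfl⟩
  · by_cases h1 : 1 - t * σ = 0
    · have ht : t ≠ 0 := by rintro rfl; simp at h1
      have hσ : σ = t⁻¹ := by field_simp; linear_combination -h1
      subst hσ
      obtain ⟨mw, hmw, e⟩ := B.wS_double L hq ht
      refine Or.inr (Or.inr ⟨q, hq, mw * (1 * m * (m⁻¹ * slift H ρ z a (-t) * m⁻¹⁻¹ * v)),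
        B.leviB_mul L hmw ⟨1, one_mem _, m, hm, _, mul_mem
          (B.conj_uniB L L.swap _ (inv_mem hm) _ (B.slift_mem_uniB' L _)) hv, rfl⟩, ?_⟩)
      rw [← mul_assoc _ mw, ← e, wS, B.slift_neg hs]
      group
    · left
      have e : slift H ρ z a t * (1 * slift H ρ z (H.bar a) σ * m * v) =
          slift H ρ z (H.bar a) (σ / (1 - t * σ)) * (hS H ρ z a (1 - t * σ) *
            (1 * m * (m⁻¹ * slift H ρ z a (t / (1 - t * σ)) * m⁻¹⁻¹ * v))) := by
        calc slift H ρ z a t * (1 * slift H ρ z (H.bar a) σ * m * v)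
            = slift H ρ z a t * slift H ρ z (H.bar a) σ * (m * v) := by group
          _ = _ := by rw [B.rank_oneS hs t σ h1]; group
      rw [e]
      exact B.paraB_mul L (uniB_le_paraB (slift_mem_uniB _)) (B.leviB_mul L (B.hS_mem L hq h1)
        ⟨1, one_mem _, m, hm, _, mul_mem
          (B.conj_uniB L L.swap _ (inv_mem hm) _ (B.slift_mem_uniB' L _)) hv, rfl⟩)
  · -- move to the cell of `c`
    obtain ⟨b', hb', he⟩ := B.root_case2 L hc hy hu₀ σ hm hv
    set w := wl H ρ c a 1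
    obtain ⟨s', hs'⟩ := C.wl_conj L hc (L.lok' hc) (y⁻¹)
    have hxinv : lift H ρ a c y⁻¹ * lift H ρ a c (-y⁻¹) = 1 := by
      rw [← C.lift_add (L.lok' hc), add_neg_cancel, C.lift_zero (L.lok' hc)]
    have hb1 : u₀ * lift H ρ c a y * slift H ρ z (H.bar a) σ * m * v =
        w * ((w⁻¹ * lift H ρ a c y⁻¹ * w) * b') := by
      calc u₀ * lift H ρ c a y * slift H ρ z (H.bar a) σ * m * v
          = (lift H ρ a c y⁻¹ * lift H ρ a c (-y⁻¹)) *
              (u₀ * lift H ρ c a y * (slift H ρ z (H.bar a) σ * (m * v))) := by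
            rw [hxinv]; group
        _ = lift H ρ a c y⁻¹ * (w * b') := by rw [mul_assoc, he]
        _ = _ := by group
    have hin : bigB H ρ z R a ((w⁻¹ * lift H ρ a c y⁻¹ * w) * b') := by
      rw [hs', (C.wPerm_facts L hc).1, (C.wPerm_facts L hc).2.1]
      exact B.paraB_mul L (uniB_le_paraB (uni_le_uniB (Subgroup.subset_closure ⟨c, hc, _, rfl⟩))) hb'
    obtain ⟨c1, c2, c3⟩ := sok_ne (B.sok (L.bars c hc).2)
    obtain ⟨a1, a2, a3⟩ := sok_ne hs
    have M := C.wl_mono (L.lok hc) (neg_ne_zero.2 (one_ne_zero (α := F)))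
    have h2 := B.conj_slift M hs (by rw [wCoef_other _ c1 a1 c2 a2, one_mul]) t
    rw [C.wl_neg (L.lok hc), inv_inv, (C.wPerm_facts L hc).1] at h2
    refine Or.inr (Or.inl ⟨c, hc, (w⁻¹ * slift H ρ z a t * w) * ((w⁻¹ * lift H ρ a c y⁻¹ * w) * b'),
      B.leviB_mul L (h2 ▸ Subgroup.subset_closure (Or.inl (Or.inr ⟨c, hc, _, rfl⟩))) hin, ?_⟩)
    rw [hb1]
    simp only [w]
    group

theorem root_inCellB {p q : ι} (hp : p ∈ insert a (insert (H.bar a) R))
    (hq : q ∈ insert a (insert (H.bar a) R)) (h : H.LOK p q) (t : F) {g : E}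
    (hg : inCellB H ρ z R a g) : inCellB H ρ z R a (lift H ρ p q t * g) := by
  have C := B.toCover
  have step : ∀ {c : ι}, c ∈ R → ∀ {p q : ι}, p ∈ insert a (insert (H.bar a) R) →
      q ∈ insert a (insert (H.bar a) R) → H.LOK p q → ∀ (t : F) (k : E),
      (∀ {p q : ι}, p ∈ insert a (insert (H.bar a) R) → q ∈ insert a (insert (H.bar a) R) →
        H.LOK p q → ∀ t : F, inCellB H ρ z R a (lift H ρ p q t * k)) →
      inCellB H ρ z R a (lift H ρ p q t * (wl H ρ c a 1 * k)) := by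
    intro c hc p q hp hq h t k hk
    obtain ⟨s, hs⟩ := C.wl_conj L hc h t
    have e : lift H ρ p q t * (wl H ρ c a 1 * k) =
        wl H ρ c a 1 * (lift H ρ (wPerm H c a p) (wPerm H c a q) s * k) := by
      rw [← hs]; group
    rw [e]
    exact B.wl_inCellB L hc (hk (C.wPerm_mem L hc hp) (C.wPerm_mem L hc hq)
      ((C.wl_mono (L.lok hc) (t := 1) one_ne_zero).lok h) s)
  rcases hg with hb | ⟨c, hc, b, hb, rfl⟩ | ⟨d, hd, b, hb, rfl⟩
  · exact B.root_bigB L hp hq h t hb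
  · exact step hc hp hq h t b fun hp hq h t => B.root_bigB L hp hq h t hb
  · rw [mul_assoc]
    exact step hd hp hq h t _ fun hp hq h t =>
      step (L.bar_mem hd) hp hq h t b fun hp hq h t => B.root_bigB L hp hq h t hb

theorem slift_inCellB {q : ι} (hq : q ∈ R) {p : ι} (hp : p ∈ insert a (insert (H.bar a) R)) (t : F)
    {g : E} (hg : inCellB H ρ z R a g) : inCellB H ρ z R a (slift H ρ z p t * g) := by
  have C := B.toCover
  have base : ∀ {p : ι}, p ∈ insert a (insert (H.bar a) R) → ∀ (t : F) (b : E),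
      bigB H ρ z R a b → inCellB H ρ z R a (slift H ρ z p t * b) := by
    intro p hp t b hb
    simp only [Finset.mem_insert] at hp
    rcases hp with rfl | rfl | hp
    · exact B.short_cellB L hq t hb
    · exact Or.inl (B.paraB_mul L (uniB_le_paraB (slift_mem_uniB t)) hb)
    · exact Or.inl (B.leviB_mul L (Subgroup.subset_closure (Or.inl (Or.inr ⟨p, hp, t, rfl⟩))) hb)
  have step : ∀ {c : ι}, c ∈ R → ∀ {p : ι}, p ∈ insert a (insert (H.bar a) R) → ∀ (t : F) (k : E),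
      (∀ {p : ι}, p ∈ insert a (insert (H.bar a) R) → ∀ t : F,
        inCellB H ρ z R a (slift H ρ z p t * k)) →
      inCellB H ρ z R a (slift H ρ z p t * (wl H ρ c a 1 * k)) := by
    intro c hc p hp t k hk
    have hps : H.SOK z p := by
      refine B.sok ?_
      simp only [Finset.mem_insert] at hp
      rcases hp with rfl | rfl | hp
      exacts [L.ne, bar_ne L.ne, (L.bars p hp).2]
    obtain ⟨c1, c2, c3⟩ := sok_ne (B.sok (L.bars c hc).2)
    obtain ⟨a1, a2, a3⟩ := sok_ne (B.sokL L)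
    have M := C.wl_mono (L.lok hc) (neg_ne_zero.2 (one_ne_zero (α := F)))
    have h2 := B.conj_slift M hps (by rw [wCoef_other _ c1 a1 c2 a2, one_mul]) t
    rw [C.wl_neg (L.lok hc), inv_inv] at h2
    have e : slift H ρ z p t * (wl H ρ c a 1 * k) =
        wl H ρ c a 1 * (((wl H ρ c a 1)⁻¹ * slift H ρ z p t * wl H ρ c a 1) * k) := by group
    rw [e, h2]
    exact B.wl_inCellB L hc (hk (C.wPerm_mem L hc hp) _)
  rcases hg with hb | ⟨c, hc, b, hb, rfl⟩ | ⟨d, hd, b, hb, rfl⟩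
  · exact base hp t g hb
  · exact step hc hp t b fun hp t => base hp t b hb
  · rw [mul_assoc]
    exact step hd hp t _ fun hp t => step (L.bar_mem hd) hp t b fun hp t => base hp t b hb

theorem gB_inCell {q : ι} (hq : q ∈ R) {g : E}
    (hg : g ∈ gB H ρ z (insert a (insert (H.bar a) R))) : inCellB H ρ z R a g := by
  suffices ∀ k, inCellB H ρ z R a k → inCellB H ρ z R a (g * k) by
    simpa using this 1 (Or.inl (B.bigB_one L))
  induction hg using Subgroup.closure_induction'' with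
  | mem x hx =>
    rcases hx with ⟨p, r, t, hp, hr, h, rfl⟩ | ⟨p, hp, t, rfl⟩
    · exact fun k => B.root_inCellB L hp hr h t
    · exact fun k => B.slift_inCellB L hq hp t
  | inv_mem x hx =>
    rcases hx with ⟨p, r, t, hp, hr, h, rfl⟩ | ⟨p, hp, t, rfl⟩
    · rw [← B.toCover.lift_neg h]
      exact fun k => B.root_inCellB L hp hr h (-t)
    · have hps : H.SOK z p := by
        refine B.sok ?_
        simp only [Finset.mem_insert] at hp
        rcases hp with rfl | rfl | hp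
        exacts [L.ne, bar_ne L.ne, (L.bars p hp).2]
      rw [← B.slift_neg hps]
      exact fun k => B.slift_inCellB L hq hp (-t)
  | one => simp
  | mul x y _ _ hx hy => exact fun k hk => by rw [mul_assoc]; exact hx _ (hy k hk)

theorem uniB_eq_one {u : E} (hu : u ∈ uniB H ρ z R a)
    (h0 : ∀ i, i ≠ a → i ≠ H.bar a → ((ρ u : Matrix ι ι F) *ᵥ Pi.single a 1) i = 0) : u = 1 := by
  have C := B.toCover
  obtain ⟨u₀, hu₀, s, rfl⟩ := B.uniB_split L u hu
  obtain ⟨a1, a2, a3⟩ := sok_ne (B.sokL L)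
  have hs : s = 0 := by
    have := h0 z a1 a2
    rw [map_mul, mulVec_glMul, C.uni_coord (fun c hc => L.lok hc) u₀ hu₀ _ z (B.z_out L) a2,
      B.slift_proj (B.sokL L.swap), opS_mulVec, sMap_apply, H.bar_bar] at this
    simpa [Pi.single_eq_of_ne a1, Pi.single_eq_of_ne a2] using this
  subst hs
  rw [B.slift_zero (B.sokL L.swap), mul_one] at h0 ⊢
  exact C.uni_eq_one L R subset_rfl u₀ hu₀ fun c hc => h0 c (L.ne_a hc) (L.ne_a' hc)

theorem leviB_diag {x : ι} (Lx : Lvl H R x) : ∀ m ∈ leviB H ρ z R a,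
    ∃ k : F, (ρ m : Matrix ι ι F) *ᵥ Pi.single x 1 = Pi.single x k := by
  have C := B.toCover
  have gen : ∀ g ∈ gSet H ρ R ∪ sSet H ρ z R ∪ hSet H ρ R a,
      ∃ k : F, (ρ g : Matrix ι ι F) *ᵥ Pi.single x 1 = Pi.single x k := by
    rintro g ((⟨p, q, t, hp, hq, h, rfl⟩ | ⟨b, hb, t, rfl⟩) | ⟨c, hc, t, ht, rfl⟩)
    · refine ⟨1, ?_⟩
      rw [C.proj h]
      exact opL_single_other h t 1 (Lx.ne_a hq).symm (Lx.ne_a (L.bar_mem hp)).symm
    · refine ⟨1, ?_⟩
      rw [B.slift_proj (B.sok (L.bars b hb).2)]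
      exact opS_fixAt _ t (sok_ne (B.sokL Lx)).1.symm (Lx.ne_a (L.bar_mem hb)).symm
    · obtain ⟨γ, Mγ, -⟩ := C.hh_mono (L.lok' hc) ht
      exact ⟨γ x, Mγ.single x⟩
  intro m hm
  induction hm using Subgroup.closure_induction'' with
  | mem y hy => exact gen y hy
  | inv_mem y hy => exact gen _ (B.leviSetB_inv L y hy)
  | one => exact ⟨1, by rw [map_one, mulVec_glOne]⟩
  | mul y y' _ _ hy hy' =>
    obtain ⟨k, hk⟩ := hy
    obtain ⟨l, hl⟩ := hy'
    refine ⟨k * l, ?_⟩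
    rw [map_mul, mulVec_glMul, hl,
      show (Pi.single x l : ι → F) = l • Pi.single x 1 by
        rw [← Pi.single_smul', smul_eq_mul, mul_one],
      Matrix.mulVec_smul, hk, ← Pi.single_smul', smul_eq_mul, mul_comm]

theorem gB_fix : ∀ g ∈ gB H ρ z R, (ρ g : Matrix ι ι F) *ᵥ Pi.single a 1 = Pi.single a 1 := by
  have C := B.toCover
  have gen : ∀ g ∈ gSet H ρ R ∪ sSet H ρ z R,
      (ρ g : Matrix ι ι F) *ᵥ Pi.single a 1 = Pi.single a 1 := by
    rintro g (⟨p, q, t, hp, hq, h, rfl⟩ | ⟨b, hb, t, rfl⟩)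
    · rw [C.proj h]
      exact opL_single_other h t 1 (L.ne_a hq).symm (L.ne_a (L.bar_mem hp)).symm
    · rw [B.slift_proj (B.sok (L.bars b hb).2)]
      exact opS_fixAt _ t (sok_ne (B.sokL L)).1.symm (L.ne_a (L.bar_mem hb)).symm
  intro g hg
  induction hg using Subgroup.closure_induction'' with
  | mem y hy => exact gen y hy
  | inv_mem y hy =>
    rcases hy with hy | ⟨b, hb, t, rfl⟩
    · exact gen _ (Or.inl (C.gSet_inv L y hy))
    · rw [← B.slift_neg (B.sok (L.bars b hb).2)]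
      exact gen _ (Or.inr ⟨b, hb, -t, rfl⟩)
  | one => rw [map_one, mulVec_glOne]
  | mul y y' _ _ hy hy' => rw [map_mul, mulVec_glMul, hy', hy]

theorem fix_upper : ∀ v ∈ uniB H ρ z R (H.bar a),
    (ρ v : Matrix ι ι F) *ᵥ Pi.single a 1 = Pi.single a 1 := by
  have C := B.toCover
  have gen : ∀ t, ∀ c ∈ R,
      (ρ (lift H ρ c (H.bar a) t) : Matrix ι ι F) *ᵥ Pi.single a 1 = Pi.single a 1 := fun t c hc => by
    rw [C.proj (L.swap.lok hc)]
    exact opL_single_other _ t 1 L.ne.symm (L.ne_a (L.bar_mem hc)).symm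
  have gen' : ∀ t, (ρ (slift H ρ z (H.bar (H.bar a)) t) : Matrix ι ι F) *ᵥ Pi.single a 1 =
      Pi.single a 1 := fun t => by
    rw [B.slift_proj (B.sok (bar_ne (bar_ne L.ne)))]
    exact opS_fixAt _ t (sok_ne (B.sokL L)).1.symm (by rw [H.bar_bar]; exact L.ne.symm)
  intro v hv
  induction hv using Subgroup.closure_induction'' with
  | mem y hy =>
    rcases hy with ⟨c, hc, t, rfl⟩ | ⟨t, rfl⟩
    exacts [gen t c hc, gen' t]
  | inv_mem y hy =>
    rcases hy with ⟨c, hc, t, rfl⟩ | ⟨t, rfl⟩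
    · rw [← C.lift_neg (L.swap.lok hc)]; exact gen _ c hc
    · rw [← B.slift_neg (B.sok (bar_ne (bar_ne L.ne)))]; exact gen' _
  | one => rw [map_one, mulVec_glOne]
  | mul y y' _ _ hy hy' => rw [map_mul, mulVec_glMul, hy', hy]

theorem leviB_form {q : ι} (hq : q ∈ R) :
    ∀ m ∈ leviB H ρ z R a, ∃ t : F, t ≠ 0 ∧ ∃ ℓ ∈ gB H ρ z R, m = hh H ρ a q t * ℓ := by
  have C := B.toCover
  have hconj : ∀ t : F, t ≠ 0 → ∀ ℓ ∈ gB H ρ z R,
      (hh H ρ a q t)⁻¹ * ℓ * hh H ρ a q t ∈ gB H ρ z R := by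
    intro t ht ℓ hℓ
    obtain ⟨γ, Mγ, -, -, -, -, h5⟩ := C.hh_mono (L.lok' hq) (inv_ne_zero ht)
    have := C.hh_inv L (L.lok' hq) ht
    induction hℓ using Subgroup.closure_induction with
    | mem y hy =>
      rcases hy with ⟨p, r, s, hp, hr, h, rfl⟩ | ⟨b, hb, s, rfl⟩
      · have e := C.conj_lift Mγ h s
        rw [← this, inv_inv] at e
        rw [e]
        exact Subgroup.subset_closure (Or.inl ⟨p, r, _, hp, hr, h, rfl⟩)
      · have e := B.slift_diag Mγ (B.sok (L.bars b hb).2)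
          (by rw [B.diag_fix (L.lok' hq) h5, one_mul]) s
        rw [← this, inv_inv] at e
        rw [e]
        exact Subgroup.subset_closure (Or.inr ⟨b, hb, _, rfl⟩)
    | one => simp
    | mul y y' _ _ hy hy' =>
      have := mul_mem hy hy'
      simpa [mul_assoc] using this
    | inv y _ hy =>
      have := inv_mem hy
      simpa [mul_assoc] using this
  have split : ∀ c ∈ R, ∀ t : F, t ≠ 0 → ∃ ℓ ∈ gB H ρ z R, hh H ρ a c t = hh H ρ a q t * ℓ := by
    intro c hc t ht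
    by_cases e : c = q
    · subst e
      exact ⟨1, one_mem _, (mul_one _).symm⟩
    by_cases e' : c = H.bar q
    · subst e'
      obtain ⟨π, γ, MW, pa, pq, ga, gz⟩ := B.wS_mono L hq (t := 1) one_ne_zero
      have hW : wS H ρ z q 1 ∈ gB H ρ z R := by
        have hm : ∀ b ∈ R, ∀ s, slift H ρ z b s ∈ gB H ρ z R := fun b hb s =>
          Subgroup.subset_closure (Or.inr ⟨b, hb, s, rfl⟩)
        exact mul_mem (mul_mem (hm _ hq _) (hm _ (L.bar_mem hq) _)) (hm _ hq _)
      have h1 := C.conj_hh MW (L.lok' hq) t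
      have hk := div_ne_zero (MW.ne_zero a) (MW.ne_zero q)
      rw [pa, pq, mul_div_assoc, ← (C.rank_one (L.lok' hc)).2.1 t _ ht hk, mul_inv_cancel_right] at h1
      refine ⟨(hh H ρ a q t)⁻¹ * wS H ρ z q 1 * hh H ρ a q t * (wS H ρ z q 1)⁻¹,
        mul_mem (hconj t ht _ hW) (inv_mem hW), ?_⟩
      rw [← h1]
      group
    · have hqc : H.LOK q c := ⟨(L.bars q hq).2, (L.bars c hc).2, Ne.symm e,
        fun h => e' (by rw [h, H.bar_bar])⟩
      refine ⟨hh H ρ q c t, ?_, C.hh_triangle (L.lok' hq) hqc (L.lok' hc) ht⟩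
      simp only [hh, wl]
      repeat' apply mul_mem
      all_goals refine Subgroup.subset_closure (Or.inl ?_)
      all_goals first
        | exact ⟨q, c, _, hq, hc, hqc, rfl⟩
        | exact ⟨c, q, _, hc, hq, lok_comm H hqc, rfl⟩
  have gen : ∀ g ∈ gSet H ρ R ∪ sSet H ρ z R ∪ hSet H ρ R a, ∀ m,
      (∃ t : F, t ≠ 0 ∧ ∃ ℓ ∈ gB H ρ z R, m = hh H ρ a q t * ℓ) →
      ∃ t : F, t ≠ 0 ∧ ∃ ℓ ∈ gB H ρ z R, g * m = hh H ρ a q t * ℓ := by
    rintro g hg m ⟨t, ht, ℓ, hℓ, rfl⟩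
    rcases hg with hg | ⟨c, hc, s, hs, rfl⟩
    · exact ⟨t, ht, (hh H ρ a q t)⁻¹ * g * hh H ρ a q t * ℓ,
        mul_mem (hconj t ht g (Subgroup.subset_closure hg)) hℓ, by group⟩
    · obtain ⟨k, hk, e⟩ := split c hc s hs
      refine ⟨s * t, mul_ne_zero hs ht, (hh H ρ a q t)⁻¹ * k * hh H ρ a q t * ℓ,
        mul_mem (hconj t ht k hk) hℓ, ?_⟩
      rw [← (C.rank_one (L.lok' hq)).2.1 s t hs ht, e]
      group
  intro m hm
  suffices ∀ m', (∃ t : F, t ≠ 0 ∧ ∃ ℓ ∈ gB H ρ z R, m' = hh H ρ a q t * ℓ) →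
      ∃ t : F, t ≠ 0 ∧ ∃ ℓ ∈ gB H ρ z R, m * m' = hh H ρ a q t * ℓ by
    simpa using this 1 ⟨1, one_ne_zero, 1, one_mem _, by rw [C.hh_one (L.lok' hq), mul_one]⟩
  induction hm using Subgroup.closure_induction'' with
  | mem y hy => exact gen y hy
  | inv_mem y hy => exact gen _ (B.leviSetB_inv L y hy)
  | one => simp
  | mul y y' _ _ hy hy' => exact fun k hk => by rw [mul_assoc]; exact hy _ (hy' k hk)

/-- The kernel descends to the smaller set of pairs. -/
theorem descend {q : ι} (hq : q ∈ R) {g : E}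
    (hg : g ∈ gB H ρ z (insert a (insert (H.bar a) R))) (h1 : ρ g = 1) : g ∈ gB H ρ z R := by
  have C := B.toCover
  obtain ⟨a1, a2, a3⟩ := sok_ne (B.sokL L)
  have coordA : ∀ u ∈ uniB H ρ z R a, ∀ v : ι → F, ((ρ u : Matrix ι ι F) *ᵥ v) a = v a := by
    intro u hu v
    obtain ⟨u₀, hu₀, s, rfl⟩ := B.uniB_split L u hu
    rw [map_mul, mulVec_glMul, C.uni_coord (fun c hc => L.lok hc) u₀ hu₀ _ a L.out L.ne.symm,
      B.slift_proj (B.sokL L.swap), opS_apply_of_ne _ _ _ a1.symm L.ne.symm]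
  have hb : ∀ b, bigB H ρ z R a b → ∃ k : F, k ≠ 0 ∧
      ((ρ b : Matrix ι ι F) *ᵥ Pi.single a 1) a = k := by
    rintro b ⟨u, hu, m, hm, v, hv, rfl⟩
    obtain ⟨k, hk⟩ := B.leviB_diag L L m hm
    refine ⟨k, ?_, ?_⟩
    · rintro rfl
      have := glMulVec_injective (ρ m) (a₁ := Pi.single a 1) (a₂ := 0) (by simp [hk])
      simpa using congrFun this a
    · rw [map_mul, map_mul, mulVec_glMul, mulVec_glMul, B.fix_upper L v hv, hk, coordA u hu,
        Pi.single_eq_same]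
  rcases B.gB_inCell L hq hg with hbig | ⟨c, hc, b, hb', rfl⟩ | ⟨d, hd, b, hb', rfl⟩
  · obtain ⟨u, hu, m, hm, v, hv, rfl⟩ := hbig
    obtain ⟨k, hk⟩ := B.leviB_diag L L m hm
    obtain ⟨k', hk'⟩ := B.leviB_diag L L.swap m⁻¹ (inv_mem hm)
    have he : (ρ (u * m * v) : Matrix ι ι F) *ᵥ Pi.single a 1 = Pi.single a 1 := by
      rw [h1, mulVec_glOne]
    rw [map_mul, map_mul, mulVec_glMul, mulVec_glMul, B.fix_upper L v hv, hk] at he
    have hk1 : k = 1 := by
      have := congrFun he a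
      rwa [coordA u hu, Pi.single_eq_same, Pi.single_eq_same] at this
    subst hk1
    have hu1 : u = 1 := B.uniB_eq_one L hu fun i i1 _ => by rw [he, Pi.single_eq_of_ne i1]
    subst hu1
    rw [one_mul] at h1 hg ⊢
    have hv1 : v = 1 := B.uniB_eq_one L.swap hv fun i i1 i2 => by
      rw [show ρ v = ρ m⁻¹ by
        rw [map_inv]; exact eq_inv_of_mul_eq_one_right (by rw [← map_mul, h1]), hk',
        Pi.single_eq_of_ne i1]
    subst hv1
    rw [mul_one] at h1 ⊢
    obtain ⟨t, ht, ℓ, hℓ, rfl⟩ := B.leviB_form L hq m hm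
    obtain ⟨γ, Mγ, e1, -⟩ := C.hh_mono (L.lok' hq) ht
    rw [map_mul, mulVec_glMul, B.gB_fix L ℓ hℓ, Mγ.single, e1, id] at hk
    have : t = 1 := Pi.single_injective a hk
    subst this
    rw [C.hh_one (L.lok' hq), one_mul]
    exact hℓ
  · exfalso
    obtain ⟨k, hk0, hk⟩ := hb b hb'
    have M := C.wl_mono (L.lok hc) (t := 1) one_ne_zero
    have := congrFun (congrArg (fun A : GL ι F => (A : Matrix ι ι F) *ᵥ Pi.single a 1) h1) c
    simp only [map_mul, mulVec_glMul, mulVec_glOne, Pi.single_eq_of_ne (L.ne_a hc)] at this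
    have key := M.apply ((ρ b : Matrix ι ι F) *ᵥ Pi.single a 1) a
    rw [(C.wPerm_facts L hc).1, hk, this] at key
    exact mul_ne_zero (M.ne_zero a) hk0 key.symm
  · exfalso
    obtain ⟨k, hk0, hk⟩ := hb b hb'
    have hd' := L.bar_mem hd
    have M := (C.wl_mono (L.lok hd) (t := 1) one_ne_zero).mul
      (C.wl_mono (L.lok hd') (t := 1) one_ne_zero)
    have hπ : (wPerm H d a ∘ wPerm H (H.bar d) a) a = H.bar a := by
      rw [Function.comp_apply, (C.wPerm_facts L hd').1, (C.wPerm_facts L hd).2.2.2.1]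
    have := congrFun (congrArg (fun A : GL ι F => (A : Matrix ι ι F) *ᵥ Pi.single a 1) h1)
      (H.bar a)
    simp only [map_mul, mulVec_glOne, Pi.single_eq_of_ne L.ne] at this
    rw [mulVec_glMul, ← hπ, M.apply, hk] at this
    exact mul_ne_zero (M.ne_zero a) hk0 this

end BPre

end CfsgLib.SpinCover
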