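import Cfsg.Agent.Lib.SpinCover.Kernel

/-!
The spin group generated by root elements inside an algebra carrying a Clifford map.
-/

set_option autoImplicit false
set_option linter.unusedSectionVars false

namespace CfsgLib.SpinCover

open Matrix CfsgLib.ChevClassical CfsgLib.SLCover HypForm
open scoped commutatorElement

variable {ι : Type} [Fintype ι] [DecidableEq ι] {F : Type*} [Field F]
variable {A : Type*} [Ring A] [Algebra F A]

/-- an injective Clifford map for a form without an anisotropic basis vector -/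
structure CliffMap (H : HypForm ι F) (A : Type*) [Ring A] [Algebra F A] where
  Γ : (ι → F) →ₗ[F] A
  sq : ∀ v, Γ v * Γ v = algebraMap F A (H.Q v)
  inj : Function.Injective Γ

namespace CliffMap

variable {H : HypForm ι F} (K : CliffMap H A)

/-- image of a basis vector -/
def e (i : ι) : A := K.Γ (Pi.single i 1)

theorem e_smul (i : ι) (c : F) : K.Γ (Pi.single i c) = c • K.e i := by
  rw [e, ← map_smul, ← Pi.single_smul', smul_eq_mul, mul_one]

theorem polar {i : ι} (hi : H.bar i ≠ i) (v : ι → F) :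
    K.Γ v * K.e i + K.e i * K.Γ v = algebraMap F A (v (H.bar i)) := by
  have h0 : H.Q (Pi.single i (1 : F)) = 0 := Q_single hi 1
  have h := K.sq (v + Pi.single i 1)
  rw [H.hQ _ _ _ hi, one_mul, map_add, map_add, add_mul, mul_add, mul_add, K.sq v,
    K.sq (Pi.single i 1), h0, map_zero] at h
  simp only [e]
  linear_combination (norm := abel) h

theorem e_sq {i : ι} (hi : H.bar i ≠ i) : K.e i * K.e i = 0 := by
  rw [e, K.sq, Q_single hi, map_zero]

theorem e_anti {i j : ι} (hj : H.bar j ≠ j) (h : i ≠ H.bar j) :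
    K.e i * K.e j = -(K.e j * K.e i) := by
  rw [eq_neg_iff_add_eq_zero]
  have := K.polar hj (Pi.single i 1)
  rwa [Pi.single_eq_of_ne h.symm, map_zero] at this

theorem e_pair {i : ι} (hi : H.bar i ≠ i) :
    K.e i * K.e (H.bar i) + K.e (H.bar i) * K.e i = 1 := by
  have := K.polar (bar_ne hi) (Pi.single i 1)
  rwa [H.bar_bar, Pi.single_eq_same, map_one] at this

/-- image of a root -/
def root (a b : ι) : A := K.e a * K.e (H.bar b)

theorem root_sq {a b : ι} (h : H.LOK a b) : K.root a b * K.root a b = 0 := by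
  have h1 : H.bar b ≠ H.bar a := fun e => h.2.2.1 (H.bar_inj e).symm
  calc K.root a b * K.root a b = K.e a * (K.e (H.bar b) * K.e a) * K.e (H.bar b) := by
        simp only [root, mul_assoc]
    _ = 0 := by
        rw [K.e_anti h.1 h1, mul_neg, ← mul_assoc, K.e_sq h.1, zero_mul, neg_zero, zero_mul]

theorem root_comm {a b : ι} (h : H.LOK a b) (v : ι → F) :
    K.root a b * K.Γ v =
      K.Γ v * K.root a b + v b • K.e a - v (H.bar a) • K.e (H.bar b) := by
  have p1 := K.polar h.1 v
  have p2 := K.polar (bar_ne h.2.1) v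
  rw [H.bar_bar] at p2
  calc K.root a b * K.Γ v = K.e a * (K.e (H.bar b) * K.Γ v) := by rw [root, mul_assoc]
    _ = K.e a * (algebraMap F A (v b) - K.Γ v * K.e (H.bar b)) := by
        rw [eq_sub_iff_add_eq.2 ((add_comm _ _).trans p2)]
    _ = v b • K.e a - K.e a * K.Γ v * K.e (H.bar b) := by
        rw [mul_sub, ← Algebra.commutes, ← Algebra.smul_def, mul_assoc]
    _ = v b • K.e a - (algebraMap F A (v (H.bar a)) - K.Γ v * K.e a) * K.e (H.bar b) := by
        rw [eq_sub_iff_add_eq.2 ((add_comm _ _).trans p1)]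
    _ = _ := by
        rw [sub_mul, ← Algebra.smul_def, root, mul_assoc]
        abel

theorem root_mul_root {a b : ι} (h : H.LOK a b) (v : ι → F) :
    K.root a b * K.Γ v * K.root a b = 0 := by
  have h1 : H.bar b ≠ H.bar a := fun e => h.2.2.1 (H.bar_inj e).symm
  have z1 : K.e a * K.root a b = 0 := by rw [root, ← mul_assoc, K.e_sq h.1, zero_mul]
  have z2 : K.e (H.bar b) * K.root a b = 0 := by
    rw [root, ← mul_assoc, K.e_anti h.1 h1, neg_mul, mul_assoc, K.e_sq (bar_ne h.2.1), mul_zero,
      neg_zero]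
  rw [K.root_comm h, sub_mul, add_mul, mul_assoc, K.root_sq h, smul_mul_assoc, smul_mul_assoc,
    z1, z2]
  simp

/-- root element of the spin group -/
def u {a b : ι} (h : H.LOK a b) (t : F) : Aˣ where
  val := 1 + t • K.root a b
  inv := 1 - t • K.root a b
  val_inv := by
    rw [add_mul, mul_sub, mul_sub, one_mul, one_mul, mul_one, smul_mul_smul_comm, K.root_sq h,
      smul_zero]
    abel
  inv_val := by
    rw [sub_mul, mul_add, mul_add, one_mul, one_mul, mul_one, smul_mul_smul_comm, K.root_sq h,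
      smul_zero]
    abel

theorem u_conj {a b : ι} (h : H.LOK a b) (t : F) (v : ι → F) :
    (K.u h t : A) * K.Γ v = K.Γ ((opL h t : Matrix ι ι F) *ᵥ v) * (K.u h t : A) := by
  have e1 : K.Γ ((opL h t : Matrix ι ι F) *ᵥ v) =
      K.Γ v + t • (K.root a b * K.Γ v - K.Γ v * K.root a b) := by
    rw [K.root_comm h, opL_mulVec, lMap_apply, map_add, map_add, K.e_smul, K.e_smul, neg_smul,
      mul_smul, mul_smul, smul_sub, smul_sub, smul_add]
    abel
  rw [e1]
  show (1 + t • K.root a b) * _ = _ * (1 + t • K.root a b)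
  have h2 : K.Γ v * K.root a b * K.root a b = 0 := by rw [mul_assoc, K.root_sq h, mul_zero]
  simp only [mul_add, add_mul, one_mul, mul_one, smul_mul_assoc, mul_smul_comm, sub_mul, h2,
    K.root_mul_root h, smul_sub, smul_zero, sub_zero, add_zero]
  abel

theorem e_commute_pair {a j : ι} (ha : H.bar a ≠ a) (h1 : j ≠ a) (h2 : j ≠ H.bar a) :
    Commute (K.e j) (K.e (H.bar a) * K.e a) := by
  show _ = _
  rw [← mul_assoc, K.e_anti (bar_ne ha) (by rw [H.bar_bar]; exact h1), neg_mul, mul_assoc,
    K.e_anti ha h2, mul_neg, neg_neg, mul_assoc]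

theorem e_triple {i : ι} (hi : H.bar i ≠ i) : K.e i * K.e (H.bar i) * K.e i = K.e i := by
  calc K.e i * K.e (H.bar i) * K.e i
      = K.e i * (K.e i * K.e (H.bar i) + K.e (H.bar i) * K.e i) := by
        rw [mul_add, ← mul_assoc (K.e i) (K.e i), K.e_sq hi, zero_mul, zero_add, mul_assoc]
    _ = _ := by rw [K.e_pair hi, mul_one]

theorem root_triple {a b : ι} (h : H.LOK a b) :
    K.root a b * K.root b a * K.root a b = K.root a b := by
  have h4 : b ≠ H.bar a := fun e => h.2.2.2 (by rw [e, H.bar_bar])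
  have c1 : Commute (K.e (H.bar b) * K.e b) (K.e (H.bar a) * K.e a) :=
    (K.e_commute_pair h.1 h.2.2.2.symm fun e => h.2.2.1 (H.bar_inj e).symm).mul_left
      (K.e_commute_pair h.1 h.2.2.1.symm h4)
  have n1 := K.e_triple (bar_ne h.2.1)
  rw [H.bar_bar] at n1
  calc K.root a b * K.root b a * K.root a b
      = K.e a * (K.e (H.bar b) * K.e b * (K.e (H.bar a) * K.e a)) * K.e (H.bar b) := by
        simp only [root, mul_assoc]
    _ = K.e a * K.e (H.bar a) * K.e a * (K.e (H.bar b) * K.e b * K.e (H.bar b)) := by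
        rw [c1.eq]; simp only [mul_assoc]
    _ = _ := by rw [n1, K.e_triple h.1, root]

/-- the idempotent of a pair of opposite roots -/
def idem (a b : ι) : A := K.root a b * K.root b a + K.root b a * K.root a b

theorem idem_add {a b : ι} (h : H.LOK a b) : K.idem a b + K.idem a (H.bar b) = 1 := by
  have h4 : b ≠ H.bar a := fun e => h.2.2.2 (by rw [e, H.bar_bar])
  have c1 := K.e_commute_pair h.1 h.2.2.1.symm h4
  have c2 := K.e_commute_pair h.1 h.2.2.2.symm fun e => h.2.2.1 (H.bar_inj e).symm
  have e1 : K.root b a * K.root a b = K.e (H.bar a) * K.e a * (K.e b * K.e (H.bar b)) := by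
    calc K.root b a * K.root a b = K.e b * (K.e (H.bar a) * K.e a) * K.e (H.bar b) := by
          simp only [root, mul_assoc]
      _ = _ := by rw [c1.eq]; simp only [mul_assoc]
  have e2 : K.root (H.bar b) a * K.root a (H.bar b) =
      K.e (H.bar a) * K.e a * (K.e (H.bar b) * K.e b) := by
    calc K.root (H.bar b) a * K.root a (H.bar b) =
        K.e (H.bar b) * (K.e (H.bar a) * K.e a) * K.e b := by simp only [root, H.bar_bar, mul_assoc]
      _ = _ := by rw [c2.eq]; simp only [mul_assoc]
  calc K.idem a b + K.idem a (H.bar b)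
      = (K.root a b * K.root b a + K.root a (H.bar b) * K.root (H.bar b) a) +
        (K.root b a * K.root a b + K.root (H.bar b) a * K.root a (H.bar b)) := by
        simp only [idem]; abel
    _ = K.e a * (K.e (H.bar b) * K.e b + K.e b * K.e (H.bar b)) * K.e (H.bar a) +
        K.e (H.bar a) * K.e a * (K.e b * K.e (H.bar b) + K.e (H.bar b) * K.e b) := by
        rw [e1, e2, mul_add (K.e (H.bar a) * K.e a)]
        simp only [root, H.bar_bar, mul_add, add_mul, mul_assoc]
    _ = _ := by
        rw [add_comm (K.e (H.bar b) * K.e b), K.e_pair h.2.1, mul_one, mul_one, K.e_pair h.1]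

theorem idem_sq {a b : ι} (h : H.LOK a b) : K.idem a b * K.idem a b = K.idem a b := by
  have r1 := K.root_sq h
  have r2 := K.root_sq (lok_comm H h)
  have hB := K.root_triple h
  have hD := K.root_triple (lok_comm H h)
  rw [idem]
  set B := K.root a b
  set D := K.root b a
  have t1 : B * D * (B * D) = B * D := by rw [← mul_assoc, hB]
  have t2 : D * B * (D * B) = D * B := by rw [← mul_assoc, hD]
  have t3 : B * D * (D * B) = 0 := by rw [← mul_assoc, mul_assoc B D D, r2, mul_zero, zero_mul]
  have t4 : D * B * (B * D) = 0 := by rw [← mul_assoc, mul_assoc D B B, r1, mul_zero, zero_mul]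
  rw [mul_add, add_mul, add_mul, t1, t2, t3, t4, add_zero, zero_add]

theorem weyl_sq {a b : ι} (h : H.LOK a b) :
    (1 + (K.root b a - K.root a b) - K.idem a b) * (1 + (K.root b a - K.root a b) - K.idem a b) =
      1 - (2 : ℕ) • K.idem a b := by
  have r1 := K.root_sq h
  have r2 := K.root_sq (lok_comm H h)
  have hB := K.root_triple h
  have hD := K.root_triple (lok_comm H h)
  have hI := K.idem_sq h
  set I := K.idem a b with hIdef
  set B := K.root a b
  set D := K.root b a
  have hI' : I = B * D + D * B := rfl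
  have k1 : I * B = B := by rw [hI', add_mul, hB, mul_assoc D, r1, mul_zero, add_zero]
  have k2 : I * D = D := by rw [hI', add_mul, hD, mul_assoc B, r2, mul_zero, zero_add]
  have k3 : B * I = B := by rw [hI', mul_add, ← mul_assoc, r1, zero_mul, zero_add, ← mul_assoc, hB]
  have k4 : D * I = D := by
    rw [hI', mul_add, ← mul_assoc, hD, ← mul_assoc, r2, zero_mul, add_zero]
  have k5 : (D - B) * (D - B) = -I := by
    rw [sub_mul, mul_sub, mul_sub, r1, r2, hI']; abel
  have k6 : (D - B) * I = D - B := by rw [sub_mul, k3, k4]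
  have k7 : I * (D - B) = D - B := by rw [mul_sub, k1, k2]
  simp only [mul_add, add_mul, mul_sub (1 + (D - B) - I), sub_mul (1 + (D - B)), one_mul, mul_one,
    k5, k6, k7, hI, two_nsmul]
  abel

theorem comm_root {a b c : ι} (hac : H.LOK a c) (hcb : H.LOK c b) (hab : H.LOK a b) :
    K.root a c * K.root c b - K.root c b * K.root a c = K.root a b := by
  have p := K.e_pair hac.2.1
  have h1 : H.bar b ≠ H.bar a := fun e => hab.2.2.1 (H.bar_inj e).symm
  have h2 : c ≠ H.bar a := fun e => hac.2.2.2 (by rw [e, H.bar_bar])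
  have h3 : H.bar c ≠ b := fun e => hcb.2.2.2 (by rw [← e, H.bar_bar])
  have h4 : H.bar b ≠ H.bar (H.bar c) := by rw [H.bar_bar]; exact hcb.2.2.2.symm
  have e2 : K.root c b * K.root a c = -(K.e a * (K.e c * K.e (H.bar c)) * K.e (H.bar b)) := by
    calc K.root c b * K.root a c = K.e c * (K.e (H.bar b) * K.e a) * K.e (H.bar c) := by
          simp only [root, mul_assoc]
      _ = -((K.e c * K.e a) * (K.e (H.bar b) * K.e (H.bar c))) := by
          rw [K.e_anti hab.1 h1]; simp only [mul_neg, neg_mul, mul_assoc]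
      _ = -((K.e a * K.e c) * (K.e (H.bar c) * K.e (H.bar b))) := by
          rw [K.e_anti hab.1 h2, K.e_anti (bar_ne hac.2.1) h4, neg_mul_neg]
      _ = _ := by simp only [mul_assoc]
  rw [e2, sub_neg_eq_add]
  calc K.root a c * K.root c b + K.e a * (K.e c * K.e (H.bar c)) * K.e (H.bar b)
      = K.e a * (K.e c * K.e (H.bar c) + K.e (H.bar c) * K.e c) * K.e (H.bar b) := by
        simp only [root, mul_add, add_mul, mul_assoc]; abel
    _ = _ := by rw [p, mul_one, root]

theorem u_comm {a b c : ι} (hac : H.LOK a c) (hcb : H.LOK c b) (hab : H.LOK a b) (t : F) :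
    ⁅K.u hac t, K.u hcb 1⁆ = K.u hab t := by
  set P := K.root a c with hP
  set R := K.root c b with hR
  have hPR := K.comm_root hac hcb hab
  have hP2 : P * P = 0 := K.root_sq hac
  have hR2 : R * R = 0 := K.root_sq hcb
  have h1 : H.bar b ≠ H.bar a := fun e => hab.2.2.1 (H.bar_inj e).symm
  have hB1 : P * K.root a b = 0 := by
    have h2 : H.bar c ≠ H.bar a := fun e => hac.2.2.1 (H.bar_inj e).symm
    rw [hP, root, root, mul_assoc, ← mul_assoc (K.e (H.bar c)), K.e_anti hab.1 h2]
    rw [neg_mul, mul_neg, ← mul_assoc, ← mul_assoc, K.e_sq hab.1, zero_mul, zero_mul, neg_zero]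
  have hB2 : R * K.root a b = 0 := by
    rw [hR, root, root, mul_assoc, ← mul_assoc (K.e (H.bar b)), K.e_anti hab.1 h1]
    rw [neg_mul, mul_assoc, K.e_sq (bar_ne hab.2.1), mul_zero, neg_zero, mul_zero]
  have hB3 : K.root a b * R = 0 := by
    have h2 : H.bar b ≠ H.bar c := fun e => hcb.2.2.1 (H.bar_inj e).symm
    rw [hR, root, root, mul_assoc, ← mul_assoc (K.e (H.bar b)), K.e_anti hcb.1 h2]
    rw [neg_mul, mul_assoc, K.e_sq (bar_ne hab.2.1), mul_zero, neg_zero, mul_zero]
  have hPRP : P * R * P = 0 := by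
    have : R * P = P * R - K.root a b := by rw [← hPR]; abel
    rw [mul_assoc, this, mul_sub, ← mul_assoc, hP2, zero_mul, hB1, sub_zero]
  have hRPR : R * P * R = 0 := by
    have : P * R = R * P + K.root a b := by rw [← hPR]; abel
    rw [mul_assoc, this, mul_add, ← mul_assoc, hR2, zero_mul, hB2, add_zero]
  apply Units.ext
  simp only [commutatorElement_def, Units.val_mul]
  show (1 + t • P) * (1 + (1 : F) • R) * (1 - t • P) * (1 - (1 : F) • R) = 1 + t • K.root a b
  rw [one_smul]
  have e1 : (1 + t • P) * (1 + R) * (1 - t • P) =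
      1 + R + t • (P * R - R * P) - (t * t) • (P * P) - (t * t) • (P * R * P) := by
    simp only [mul_add, add_mul, mul_sub, sub_mul, one_mul, mul_one, smul_mul_assoc, mul_smul_comm,
      smul_add, smul_smul, smul_sub]
    abel
  rw [e1, hP2, hPRP, hPR, smul_zero, sub_zero, sub_zero]
  simp only [mul_sub, add_mul, mul_one, one_mul, smul_mul_assoc, hR2, hB3, smul_zero, add_zero]
  abel

/-- the spin group with its action -/
def spin : Subgroup (Aˣ × GL ι F) :=
  Subgroup.closure {p | ∃ (a b : ι) (h : H.LOK a b) (t : F), p = (K.u h t, opL h t)}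

theorem mem_spin {a b : ι} (h : H.LOK a b) (t : F) : (K.u h t, opL h t) ∈ K.spin :=
  Subgroup.subset_closure ⟨a, b, h, t, rfl⟩

/-- the action of the spin group -/
def act : K.spin →* GL ι F := (MonoidHom.snd Aˣ (GL ι F)).comp K.spin.subtype

theorem spin_conj : ∀ p ∈ K.spin, ∀ v : ι → F,
    (p.1 : A) * K.Γ v = K.Γ ((p.2 : Matrix ι ι F) *ᵥ v) * (p.1 : A) := by
  intro p hp
  induction hp using Subgroup.closure_induction with
  | mem x hx => obtain ⟨a, b, h, t, rfl⟩ := hx; exact K.u_conj h t
  | one => intro v; simp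
  | mul x y _ _ hx hy =>
    intro v
    simp only [Prod.fst_mul, Prod.snd_mul, Units.val_mul, ← mulVec_mulVec]
    rw [mul_assoc, hy, ← mul_assoc, hx, mul_assoc]
  | inv x _ hx =>
    intro v
    have := hx (((x.2⁻¹ : GL ι F) : Matrix ι ι F) *ᵥ v)
    rw [mulVec_mulVec, ← Units.val_mul, mul_inv_cancel, Units.val_one, one_mulVec] at this
    simp only [Prod.fst_inv, Prod.snd_inv]
    rw [Units.inv_mul_eq_iff_eq_mul, ← mul_assoc, this, mul_assoc, Units.mul_inv, mul_one]

theorem act_ker : K.act.ker ≤ Subgroup.center K.spin := by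
  rintro ⟨⟨g, M⟩, hg⟩ hk
  have hM : M = 1 := hk
  subst hM
  rw [Subgroup.mem_center_iff]
  rintro ⟨p, hp⟩
  apply Subtype.ext
  show p * (g, 1) = (g, 1) * p
  have hv : ∀ v, Commute (g : A) (K.Γ v) := fun v => by
    have := K.spin_conj _ hg v
    simp only [Units.val_one, one_mulVec] at this
    exact this
  refine Prod.ext ?_ (by simp)
  show p.1 * g = g * p.1
  induction hp using Subgroup.closure_induction with
  | mem x hx =>
    obtain ⟨a, b, h, t, rfl⟩ := hx
    apply Units.ext
    exact ((Commute.one_right (g : A)).add_right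
      (((hv _).mul_right (hv _)).smul_right t)).eq.symm
  | one => simp
  | mul x y _ _ hx hy => exact ((Commute.mul_left hx hy : Commute (x.1 * y.1) g)).eq
  | inv x _ hx => exact (Commute.inv_left hx : Commute x.1⁻¹ g).eq

theorem act_range_ge {a b : ι} (h : H.LOK a b) (t : F) : opL h t ∈ K.act.range :=
  ⟨⟨_, K.mem_spin h t⟩, rfl⟩

theorem act_range_le : K.act.range ≤ H.elemGroup := by
  rintro x ⟨⟨p, hp⟩, rfl⟩
  show p.2 ∈ _
  induction hp using Subgroup.closure_induction with
  | mem y hy => obtain ⟨a, b, h, t, rfl⟩ := hy; exact opL_mem h t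
  | one => exact one_mem _
  | mul y z _ _ hy hz => exact mul_mem hy hz
  | inv y _ hy => exact inv_mem hy

variable [Fintype F] [Finite A] (C : Cover H K.act)
include C

theorem lift_eq {a b : ι} (h : H.LOK a b) (t : F) :
    lift H K.act a b t = ⟨_, K.mem_spin h t⟩ := by
  obtain ⟨c, h1, h2⟩ := C.exists_mid h
  rw [← mul_one t, C.lift_eq h h1 h2, mul_one]
  refine (C.cl_eq (a := ⟨_, K.mem_spin h1 t⟩) (b := ⟨_, K.mem_spin h2 1⟩) rfl rfl).trans ?_
  apply Subtype.ext
  show ⁅(K.u h1 t, opL h1 t), (K.u h2 1, opL h2 1)⁆ = (K.u h t, opL h t)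
  refine Prod.ext (K.u_comm h1 h2 h t) ?_
  have := congrArg K.act ((C.comm' h1 h2 h t 1))
  rw [map_commutatorElement, C.proj h1, C.proj h2, mul_one, C.proj h] at this
  exact this

theorem spin_perfect : commutator K.spin = ⊤ := by
  rw [eq_top_iff]
  rintro ⟨p, hp⟩ -
  suffices p ∈ (commutator K.spin).map K.spin.subtype by
    obtain ⟨q, hq, e⟩ := this
    rwa [show (⟨p, hp⟩ : K.spin) = q from Subtype.ext e.symm]
  induction hp using Subgroup.closure_induction with
  | mem x hx =>
    obtain ⟨a, b, h, t, rfl⟩ := hx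
    obtain ⟨c, h1, h2⟩ := C.exists_mid h
    refine ⟨lift H K.act a b t, ?_, congrArg Subtype.val (K.lift_eq C h t)⟩
    rw [← mul_one t, C.lift_eq h h1 h2]
    exact Subgroup.commutator_mem_commutator (Subgroup.mem_top _) (Subgroup.mem_top _)
  | one => exact one_mem _
  | mul y z _ _ hy hz => exact mul_mem hy hz
  | inv y _ hy => exact inv_mem hy

theorem wl_val {a b : ι} (h : H.LOK a b) :
    ((wl H K.act a b (-1)).1.1 : A) = 1 + (K.root b a - K.root a b) -
      K.idem a b := by
  rw [idem]
  have hw : ((wl H K.act a b (-1)).1.1 : A) =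
      (1 + (-1 : F) • K.root a b) * (1 + (-(-1 : F)⁻¹) • K.root b a) *
        (1 + (-1 : F) • K.root a b) := by
    rw [wl, K.lift_eq C h, K.lift_eq C (lok_comm H h)]
    rfl
  have e1 : (-(-1 : F)⁻¹) = 1 := by rw [inv_neg, inv_one, neg_neg]
  rw [hw, e1, one_smul, neg_one_smul]
  have hb := K.root_triple h
  calc (1 + -K.root a b) * (1 + K.root b a) * (1 + -K.root a b)
      = 1 + K.root b a - K.root a b - K.root a b - (K.root a b * K.root b a +
          K.root b a * K.root a b) + K.root a b * K.root b a * K.root a b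
          + K.root a b * K.root a b := by
        simp only [mul_add, add_mul, one_mul, mul_one, neg_mul, mul_neg, neg_neg]
        abel
    _ = _ := by rw [hb, K.root_sq h]; abel

theorem zEl_val {a b : ι} (h : H.LOK a b) : ((zEl H K.act a b).1.1 : A) = -1 := by
  have sq : ∀ {c : ι} (hc : H.LOK a c),
      ((hh H K.act a c (-1)).1.1 : A) = 1 - (2 : ℕ) • K.idem a c := by
    intro c hc
    show ((wl H K.act a c (-1) * wl H K.act a c (-1)).1.1 : A) = _
    rw [Subgroup.coe_mul, Prod.fst_mul, Units.val_mul, K.wl_val C hc]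
    exact K.weyl_sq hc
  have hb := lok_barRight h
  rw [zEl, Subgroup.coe_mul, Prod.fst_mul, Units.val_mul, sq h, sq hb,
    eq_sub_iff_add_eq'.2 (K.idem_add h)]
  have hI := K.idem_sq h
  set I := K.idem a b
  simp only [two_nsmul, mul_sub, sub_mul, mul_add, add_mul, mul_one, one_mul, hI]
  abel

end CliffMap

end CfsgLib.SpinCover
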