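import Cfsg.Agent.Lib.SpinCover.CellsB
import Cfsg.Agent.Lib.SpinCover.Kernel

/-!
The kernel of a perfect central extension of the odd-dimensional orthogonal group has at most two
elements.
-/

set_option autoImplicit false
set_option linter.unusedSectionVars false

namespace CfsgLib.SpinCover

open Matrix CfsgLib.ChevClassical CfsgLib.SLCover HypForm
open scoped commutatorElement

variable {ι : Type} [Fintype ι] [DecidableEq ι] {F : Type*} [Field F] [Fintype F]
variable {H : HypForm ι F} {E : Type*} [Group E] [Finite E]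
variable {ρ : E →* GL ι F} {z : ι} (B : BPre H ρ z)
include B

namespace BPre

theorem kernelB_base {b : ι} (hb : H.SOK z b) {g : E} (hg : g ∈ gB H ρ z {b, H.bar b})
    (h1 : ρ g = 1) : g = 1 ∨ g = hS H ρ z b (-1) := by
  obtain ⟨φ, f1, f2, fv⟩ := B.exists_sl2S hb
  obtain ⟨n1, n2, n3⟩ := sok_ne hb
  have hgen : gB H ρ z {b, H.bar b} ≤ φ.range := by
    refine (Subgroup.closure_le _).2 ?_
    rintro x (⟨p, q, t, hp, hq, h, rfl⟩ | ⟨p, hp, t, rfl⟩)
    · exfalso
      simp only [Finset.mem_insert, Finset.mem_singleton] at hp hq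
      obtain ⟨-, -, e1, e2⟩ := h
      rcases hp with rfl | rfl <;> rcases hq with rfl | rfl
      · exact e1 rfl
      · exact e2 (H.bar_bar _).symm
      · exact e2 rfl
      · exact e1 rfl
    · simp only [Finset.mem_insert, Finset.mem_singleton] at hp
      rcases hp with rfl | rfl
      · exact ⟨xt 0 1 t, f1 t⟩
      · exact ⟨xt 1 0 (-t), by rw [f2, neg_neg]⟩
  obtain ⟨A, rfl⟩ := hgen hg
  obtain ⟨a1, -, a3, -⟩ := fv A (Pi.single b 1)
  obtain ⟨c1, -, -, -⟩ := fv A (Pi.single (H.bar b) 1)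
  rw [h1, mulVec_glOne] at a1 a3 c1
  simp [Pi.single_eq_of_ne, n1, n2, n3, n3.symm] at a1 a3 c1
  have hdet := A.2
  rw [Matrix.det_fin_two, c1, a3] at hdet
  have h00 : A.1 0 0 * A.1 0 0 = 1 := by linear_combination -a1
  rcases mul_self_eq_one_iff.1 h00 with e | e
  · left
    have h11 : A.1 1 1 = 1 := by rw [e] at hdet; linear_combination hdet
    have : A = 1 := by
      apply Subtype.ext
      ext i j
      fin_cases i <;> fin_cases j <;> simp [e, h11, c1, a3]
    rw [this, map_one]
  · right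
    have h11 : A.1 1 1 = -1 := by rw [e] at hdet; linear_combination -hdet
    let h₂ : Matrix.SpecialLinearGroup (Fin 2) F :=
      (xt (0 : Fin 2) 1 (-1) * xt 1 0 (-(-1)⁻¹) * xt 0 1 (-1)) *
        (xt 0 1 (-1) * xt 1 0 (-(-1 : F)⁻¹) * xt 0 1 (-1))
    have hh2 : h₂.1 = Matrix.diagonal ![-1, (-1 : F)⁻¹] :=
      xt_weyl_mul (neg_ne_zero.2 one_ne_zero)
    have eA : A = h₂ := by
      apply Subtype.ext
      rw [hh2]
      ext i j
      fin_cases i <;> fin_cases j <;> simp [e, h11, c1, a3, inv_neg]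
    rw [eA, hS, wS]
    simp only [h₂, map_mul, f1, f2, neg_neg]

theorem kernelB_descend {b : ι} (hb : H.SOK z b) :
    ∀ n (S : Finset ι), S.card ≤ n → (∀ i ∈ S, H.bar i ∈ S ∧ H.bar i ≠ i) →
      b ∈ S → ∀ g ∈ gB H ρ z S, ρ g = 1 → g = 1 ∨ g = hS H ρ z b (-1) := by
  intro n
  induction n with
  | zero =>
    intro S hS _ ha
    rw [Nat.le_zero, Finset.card_eq_zero] at hS
    subst hS
    exact absurd ha (Finset.notMem_empty b)
  | succ n ih =>
    intro S hS hbar hbS g hg h1
    by_cases hx : ∃ x ∈ S, x ∉ ({b, H.bar b} : Finset ι)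
    · obtain ⟨x, hxS, hx⟩ := hx
      simp only [Finset.mem_insert, Finset.mem_singleton, not_or] at hx
      obtain ⟨x1, x2⟩ := hx
      set R := (S.erase x).erase (H.bar x) with hR
      have memR : ∀ {i}, i ∈ R ↔ i ≠ H.bar x ∧ i ≠ x ∧ i ∈ S := by
        intro i; simp [hR, Finset.mem_erase]
      have L : Lvl H R x := by
        refine ⟨fun i hi => ?_, (hbar x hxS).2, fun e => (memR.1 e).2.1 rfl,
          fun e => (memR.1 e).1 rfl⟩
        obtain ⟨i1, i2, i3⟩ := memR.1 hi
        exact ⟨memR.2 ⟨fun e => i2 (H.bar_inj e), fun e => i1 (by rw [← e, H.bar_bar]),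
          (hbar i i3).1⟩, (hbar i i3).2⟩
      have hbR : b ∈ R := memR.2 ⟨fun e => x2 (by rw [e, H.bar_bar]), Ne.symm x1, hbS⟩
      have hins : insert x (insert (H.bar x) R) = S := by
        rw [hR, Finset.insert_erase (Finset.mem_erase.2 ⟨(hbar x hxS).2, (hbar x hxS).1⟩),
          Finset.insert_erase hxS]
      have hg' := B.descend L hbR (hins.symm ▸ hg) h1
      refine ih R ?_ L.bars hbR g hg' h1
      have hlt : R.card < S.card := Finset.card_lt_card
        ⟨fun i hi => (memR.1 hi).2.2, fun hsub => (memR.1 (hsub hxS)).2.1 rfl⟩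
      omega
    · refine B.kernelB_base hb (Subgroup.closure_mono ?_ hg) h1
      simp only [not_exists, not_and, not_not] at hx
      rintro y (⟨p, q, t, hp, hq, hpq, rfl⟩ | ⟨p, hp, t, rfl⟩)
      · exact Or.inl ⟨p, q, t, hx p hp, hx q hq, hpq, rfl⟩
      · exact Or.inr ⟨p, hx p hp, t, rfl⟩

/-- The kernel has at most two elements. -/
theorem kernelB_le (hperf : commutator E = ⊤) (hrange : ρ.range ≤ H.elemGroup) {b : ι}
    (hb : H.SOK z b) {g : E} (h1 : ρ g = 1) : g = 1 ∨ g = hS H ρ z b (-1) := by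
  classical
  refine B.kernelB_descend hb _ (Finset.univ.filter fun i => H.bar i ≠ i) le_rfl
    (fun i hi => ?_) (by simp [hb.2]) g ?_ h1
  · have hi' := (Finset.mem_filter.1 hi).2
    exact ⟨by simp [bar_ne hi'], hi'⟩
  suffices gB H ρ z (Finset.univ.filter fun i => H.bar i ≠ i) = ⊤ by rw [this]; trivial
  set S := Finset.univ.filter fun i => H.bar i ≠ i
  have hmap : (gB H ρ z S).map ρ.rangeRestrict = ⊤ := by
    rw [eq_top_iff]
    rintro ⟨x, hx⟩ -
    have hx' := hrange hx
    have : x ∈ (gB H ρ z S).map ρ := by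
      clear hx
      induction hx' using Subgroup.closure_induction with
      | mem y hy =>
        rcases hy with ⟨p, q, hpq, t, rfl⟩ | ⟨w, p, hw, t, rfl⟩
        · exact ⟨lift H ρ p q t, Subgroup.subset_closure (Or.inl
            ⟨p, q, t, by simp [S, hpq.1], by simp [S, hpq.2.1], hpq, rfl⟩),
            B.toCover.proj hpq t⟩
        · obtain rfl : z = w := H.fix_unique _ _ B.fix hw.1
          exact ⟨slift H ρ z p t, Subgroup.subset_closure (Or.inr
            ⟨p, by simp [S, hw.2], t, rfl⟩), B.slift_proj hw t⟩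
      | one => exact one_mem _
      | mul y z _ _ hy hz => exact mul_mem hy hz
      | inv y _ hy => exact inv_mem hy
    obtain ⟨y, hy, e⟩ := this
    exact ⟨y, hy, Subtype.ext e⟩
  have := commutator_le_of_map_eq_top ρ.rangeRestrict
    (by rw [MonoidHom.ker_rangeRestrict]; exact B.central) _ hmap
  rw [hperf] at this
  exact top_le_iff.1 this

end BPre

end CfsgLib.SpinCover
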