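import Cfsg.Agent.Lib.SpinCover.Clifford
import Cfsg.Agent.Lib.ChevClassical.Forms

/-!
A matrix Clifford map for the even-dimensional split form.
-/

set_option autoImplicit false
set_option linter.unusedSectionVars false

namespace CfsgLib.SpinCover

open Matrix CfsgLib.ChevClassical

variable (F : Type*) [Field F]

/-- the action of a vector `(x, y)` on the spinors -/
def gam : (m : ℕ) → (Fin m → F) → (Fin m → F) → Matrix (Fin m → Bool) (Fin m → Bool) F
  | 0, _, _ => 0
  | _ + 1, x, y => Matrix.of fun f g =>
    if f 0 then
      if g 0 then gam _ (Fin.tail x) (Fin.tail y) (Fin.tail f) (Fin.tail g)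
      else if Fin.tail f = Fin.tail g then x 0 else 0
    else
      if g 0 then if Fin.tail f = Fin.tail g then y 0 else 0
      else -gam _ (Fin.tail x) (Fin.tail y) (Fin.tail f) (Fin.tail g)

variable {F}

theorem gam_sq : ∀ (m : ℕ) (x y : Fin m → F),
    gam F m x y * gam F m x y = (∑ i, x i * y i) • 1 := by
  intro m
  induction m with
  | zero => intro x y; ext f g; simp [gam]
  | succ m ih =>
    intro x y
    ext f g
    have h := fun a b => congrFun (congrFun (ih (Fin.tail x) (Fin.tail y)) a) b
    simp only [Matrix.mul_apply, Matrix.smul_apply, Matrix.one_apply, smul_eq_mul] at h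
    rw [Matrix.mul_apply, ← (Fin.consEquiv fun _ => Bool).sum_comp, Fintype.sum_prod_type,
      Fintype.sum_bool, Matrix.smul_apply, Matrix.one_apply, Fin.sum_univ_succ]
    rcases hf : f 0 <;> rcases hg : g 0
    all_goals
      simp only [gam, Matrix.of_apply, hf, hg, Fin.consEquiv, Equiv.coe_fn_mk, Fin.cons_zero, Fin.tail_cons,
        if_true, Bool.false_eq_true, if_false, smul_eq_mul, ite_mul, mul_ite, zero_mul, mul_zero,
        neg_mul_neg, Finset.sum_ite_eq, Finset.sum_ite_eq', Finset.mem_univ]
    · rw [h]
      have e : (f = g) ↔ Fin.tail f = Fin.tail g := by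
        refine ⟨fun e => e ▸ rfl, fun e => ?_⟩
        rw [← Fin.cons_self_tail f, ← Fin.cons_self_tail g, hf, hg, e]
      simp only [e]
      split_ifs with e1
      · simp [Fin.tail]; ring
      · simp
    · have e : f ≠ g := fun e => by rw [e, hg] at hf; exact Bool.noConfusion hf
      rw [if_neg e]
      ring
    · have e : f ≠ g := fun e => by rw [e, hg] at hf; exact Bool.noConfusion hf
      rw [if_neg e]
      ring
    · rw [h]
      have e : (f = g) ↔ Fin.tail f = Fin.tail g := by
        refine ⟨fun e => e ▸ rfl, fun e => ?_⟩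
        rw [← Fin.cons_self_tail f, ← Fin.cons_self_tail g, hf, hg, e]
      simp only [e]
      split_ifs with e1
      · simp [Fin.tail]; ring
      · simp

theorem gam_add : ∀ (m : ℕ) (x y x' y' : Fin m → F),
    gam F m (x + x') (y + y') = gam F m x y + gam F m x' y' := by
  intro m
  induction m with
  | zero => intro x y x' y'; simp [gam]
  | succ m ih =>
    intro x y x' y'
    ext f g
    have h : gam F m (Fin.tail (x + x')) (Fin.tail (y + y')) =
        gam F m (Fin.tail x) (Fin.tail y) + gam F m (Fin.tail x') (Fin.tail y') := ih _ _ _ _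
    simp only [gam, Matrix.of_apply, Matrix.add_apply, Pi.add_apply, h]
    split_ifs <;> first | abel | simp

theorem gam_smul : ∀ (m : ℕ) (c : F) (x y : Fin m → F),
    gam F m (c • x) (c • y) = c • gam F m x y := by
  intro m
  induction m with
  | zero => intro c x y; simp [gam]
  | succ m ih =>
    intro c x y
    ext f g
    have h : gam F m (Fin.tail (c • x)) (Fin.tail (c • y)) =
        c • gam F m (Fin.tail x) (Fin.tail y) := ih _ _ _
    simp only [gam, Matrix.of_apply, Matrix.smul_apply, Pi.smul_apply, h, smul_eq_mul]
    split_ifs <;> simp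

theorem gam_eq_zero : ∀ (m : ℕ) (x y : Fin m → F), gam F m x y = 0 → x = 0 ∧ y = 0 := by
  intro m
  induction m with
  | zero => intro x y _; exact ⟨Subsingleton.elim _ _, Subsingleton.elim _ _⟩
  | succ m ih =>
    intro x y h
    let T : Fin m → Bool := fun _ => true
    have e1 := congrFun (congrFun h (Fin.cons true T)) (Fin.cons false T)
    have e2 := congrFun (congrFun h (Fin.cons false T)) (Fin.cons true T)
    simp [gam] at e1 e2
    have e3 : gam F m (Fin.tail x) (Fin.tail y) = 0 := by
      ext a b
      have := congrFun (congrFun h (Fin.cons true a)) (Fin.cons true b)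
      simpa [gam] using this
    obtain ⟨hx, hy⟩ := ih _ _ e3
    constructor <;> funext i <;> refine Fin.cases ?_ (fun j => ?_) i
    · exact e1
    · exact congrFun hx j
    · exact e2
    · exact congrFun hy j

/-- The Clifford map of the plus-type form. -/
def spinor (m : ℕ) : CliffMap (plusForm F m) (Matrix (Fin m → Bool) (Fin m → Bool) F) where
  Γ :=
    { toFun := fun v => gam F m (fun i => v (.inl i)) (fun i => v (.inr i))
      map_add' := fun v w => gam_add m _ _ _ _
      map_smul' := fun c v => gam_smul m c _ _ }
  sq v := by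
    rw [Algebra.algebraMap_eq_smul_one]
    exact gam_sq m _ _
  inj := by
    intro v w h
    rw [← sub_eq_zero]
    rw [← sub_eq_zero, ← map_sub] at h
    obtain ⟨h1, h2⟩ := gam_eq_zero m _ _ h
    funext i
    rcases i with i | i
    · exact congrFun h1 i
    · exact congrFun h2 i

theorem spinor_one_ne_neg_one {m : ℕ} (h2 : (2 : F) ≠ 0) :
    (1 : Matrix (Fin m → Bool) (Fin m → Bool) F) ≠ -1 := fun e => by
  have := congrFun (congrFun e fun _ => true) fun _ => true
  simp only [Matrix.neg_apply, Matrix.one_apply_eq] at this
  exact h2 (by linear_combination this)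

end CfsgLib.SpinCover
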