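import Cfsg.Agent.Lib.SpinCover.KernelB
import Cfsg.Agent.Lib.SpinCover.Spinor
import Cfsg.Agent.Lib.SpinCover.Plus

/-!
The spin group of a form with an anisotropic basis vector, generated by long and short root
elements.
-/

set_option autoImplicit false
set_option linter.unusedSectionVars false

namespace CfsgLib.SpinCover

open Matrix CfsgLib.ChevClassical CfsgLib.SLCover HypForm
open scoped commutatorElement

variable {ι : Type} [Fintype ι] [DecidableEq ι] {F : Type*} [Field F]
variable {A : Type*} [Ring A] [Algebra F A] {H : HypForm ι F}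

namespace CliffMap

variable (K : CliffMap H A)

theorem fix_polar {z : ι} (hz : H.bar z = z) (v : ι → F) :
    K.Γ v * K.e z + K.e z * K.Γ v = algebraMap F A (2 * v z) := by
  have h0 : H.Q (Pi.single z (1 : F)) = 1 := by
    have := H.hQ₀ z 0 1 hz
    rw [zero_add, H.Q_zero] at this
    simpa using this
  have h := K.sq (v + Pi.single z 1)
  rw [H.hQ₀ _ _ _ hz, one_pow, mul_one, map_add, map_add, map_add, map_one, add_mul, mul_add,
    mul_add, K.sq v, K.sq (Pi.single z 1), h0, map_one] at h
  simp only [e]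
  linear_combination (norm := abel) h

theorem fix_sq {z : ι} (hz : H.bar z = z) : K.e z * K.e z = 1 := by
  have h0 : H.Q (Pi.single z (1 : F)) = 1 := by
    have := H.hQ₀ z 0 1 hz
    rw [zero_add, H.Q_zero] at this
    simpa using this
  rw [e, K.sq, h0, map_one]

theorem fix_anti {z a : ι} (h : H.SOK z a) : K.e a * K.e z = -(K.e z * K.e a) := by
  rw [eq_neg_iff_add_eq_zero]
  have := K.fix_polar h.1 (Pi.single a 1)
  rwa [Pi.single_eq_of_ne (sok_ne h).1, mul_zero, map_zero] at this

/-- image of a short root -/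
def sroot (z a : ι) : A := K.e z * K.e a

theorem sroot_sq {z a : ι} (h : H.SOK z a) : K.sroot z a * K.sroot z a = 0 := by
  rw [sroot, mul_assoc, ← mul_assoc (K.e a), K.fix_anti h, neg_mul, mul_assoc, K.e_sq h.2,
    mul_zero, neg_zero, mul_zero]

theorem e_sroot {z a : ι} (h : H.SOK z a) : K.e a * K.sroot z a = 0 := by
  rw [sroot, ← mul_assoc, K.fix_anti h, neg_mul, mul_assoc, K.e_sq h.2, mul_zero, neg_zero]

theorem fix_sroot {z a : ι} (h : H.SOK z a) : K.e z * K.sroot z a = K.e a := by
  rw [sroot, ← mul_assoc, K.fix_sq h.1, one_mul]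

theorem sroot_comm {z a : ι} (h : H.SOK z a) (v : ι → F) :
    K.sroot z a * K.Γ v =
      K.Γ v * K.sroot z a + v (H.bar a) • K.e z - (2 * v z) • K.e a := by
  have p1 := K.polar h.2 v
  have p2 := K.fix_polar h.1 v
  calc K.sroot z a * K.Γ v = K.e z * (K.e a * K.Γ v) := by rw [sroot, mul_assoc]
    _ = K.e z * (algebraMap F A (v (H.bar a)) - K.Γ v * K.e a) := by
        rw [eq_sub_iff_add_eq.2 ((add_comm _ _).trans p1)]
    _ = v (H.bar a) • K.e z - K.e z * K.Γ v * K.e a := by
        rw [mul_sub, ← Algebra.commutes, ← Algebra.smul_def, mul_assoc]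
    _ = v (H.bar a) • K.e z - (algebraMap F A (2 * v z) - K.Γ v * K.e z) * K.e a := by
        rw [eq_sub_iff_add_eq.2 ((add_comm _ _).trans p2)]
    _ = _ := by
        rw [sub_mul, ← Algebra.smul_def, sroot, mul_assoc]
        abel

/-- short root element of the spin group -/
def uS {z a : ι} (h : H.SOK z a) (t : F) : Aˣ where
  val := 1 + t • K.sroot z a
  inv := 1 - t • K.sroot z a
  val_inv := by
    rw [add_mul, mul_sub, mul_sub, one_mul, one_mul, mul_one, smul_mul_smul_comm, K.sroot_sq h,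
      smul_zero]
    abel
  inv_val := by
    rw [sub_mul, mul_add, mul_add, one_mul, one_mul, mul_one, smul_mul_smul_comm, K.sroot_sq h,
      smul_zero]
    abel

theorem uS_conj {z a : ι} (h : H.SOK z a) (t : F) (v : ι → F) :
    (K.uS h t : A) * K.Γ v = K.Γ ((opS h t : Matrix ι ι F) *ᵥ v) * (K.uS h t : A) := by
  rw [opS_mulVec, sMap_apply, map_add, map_add, K.e_smul, K.e_smul]
  show (1 + t • K.sroot z a) * _ = _ * (1 + t • K.sroot z a)
  simp only [mul_add, add_mul, one_mul, mul_one, smul_mul_assoc, mul_smul_comm, K.e_sroot h,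
    K.fix_sroot h, K.sroot_comm h, smul_add, smul_sub, smul_zero, smul_smul, sub_smul, neg_smul, sub_mul, neg_mul, smul_neg, neg_zero, sub_zero, add_zero]
  have e2 : t * (2 * v z) = 2 * t * v z := by ring
  have e3 : t * (t * v (H.bar a)) = t ^ 2 * v (H.bar a) := by ring
  simp only [e2, e3]
  abel

/-- the odd spin group with its action -/
def spinB : Subgroup (Aˣ × GL ι F) :=
  Subgroup.closure ({p | ∃ (a b : ι) (h : H.LOK a b) (t : F), p = (K.u h t, opL h t)} ∪
    {p | ∃ (z a : ι) (h : H.SOK z a) (t : F), p = (K.uS h t, opS h t)})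

theorem mem_spinB {a b : ι} (h : H.LOK a b) (t : F) : (K.u h t, opL h t) ∈ K.spinB :=
  Subgroup.subset_closure (Or.inl ⟨a, b, h, t, rfl⟩)

theorem mem_spinBS {z a : ι} (h : H.SOK z a) (t : F) : (K.uS h t, opS h t) ∈ K.spinB :=
  Subgroup.subset_closure (Or.inr ⟨z, a, h, t, rfl⟩)

/-- the action of the odd spin group -/
def actB : K.spinB →* GL ι F := (MonoidHom.snd Aˣ (GL ι F)).comp K.spinB.subtype

/-- the value in the algebra -/
def valB : K.spinB →* Aˣ := (MonoidHom.fst Aˣ (GL ι F)).comp K.spinB.subtype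

theorem spinB_conj : ∀ p ∈ K.spinB, ∀ v : ι → F,
    (p.1 : A) * K.Γ v = K.Γ ((p.2 : Matrix ι ι F) *ᵥ v) * (p.1 : A) := by
  intro p hp
  induction hp using Subgroup.closure_induction with
  | mem x hx =>
    rcases hx with ⟨a, b, h, t, rfl⟩ | ⟨z, a, h, t, rfl⟩
    exacts [K.u_conj h t, K.uS_conj h t]
  | one => intro v; simp
  | mul x y _ _ hx hy =>
    intro v
    simp only [Prod.fst_mul, Prod.snd_mul, Units.val_mul, ← mulVec_mulVec]
    rw [mul_assoc, hy, ← mul_assoc, hx, mul_assoc]
  | inv x _ hx =>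
    intro v
    have := hx (((x.2⁻¹ : GL ι F) : Matrix ι ι F) *ᵥ v)
    rw [mulVec_mulVec, ← Units.val_mul, mul_inv_cancel, Units.val_one, one_mulVec] at this
    simp only [Prod.fst_inv, Prod.snd_inv]
    rw [Units.inv_mul_eq_iff_eq_mul, ← mul_assoc, this, mul_assoc, Units.mul_inv, mul_one]

theorem actB_ker : K.actB.ker ≤ Subgroup.center K.spinB := by
  rintro ⟨⟨g, M⟩, hg⟩ hk
  have hM : M = 1 := hk
  subst hM
  rw [Subgroup.mem_center_iff]
  rintro ⟨p, hp⟩
  apply Subtype.ext
  show p * (g, 1) = (g, 1) * p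
  have hv : ∀ v, Commute (g : A) (K.Γ v) := fun v => by
    have := K.spinB_conj _ hg v
    simp only [Units.val_one, one_mulVec] at this
    exact this
  refine Prod.ext ?_ (by simp)
  show p.1 * g = g * p.1
  induction hp using Subgroup.closure_induction with
  | mem x hx =>
    apply Units.ext
    rcases hx with ⟨a, b, h, t, rfl⟩ | ⟨z, a, h, t, rfl⟩
    all_goals
      exact ((Commute.one_right (g : A)).add_right
        (((hv _).mul_right (hv _)).smul_right t)).eq.symm
  | one => simp
  | mul x y _ _ hx hy => exact ((Commute.mul_left hx hy : Commute (x.1 * y.1) g)).eq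
  | inv x _ hx => exact (Commute.inv_left hx : Commute x.1⁻¹ g).eq

theorem actB_range_ge {a b : ι} (h : H.LOK a b) (t : F) : opL h t ∈ K.actB.range :=
  ⟨⟨_, K.mem_spinB h t⟩, rfl⟩

theorem actB_range_geS {z a : ι} (h : H.SOK z a) (t : F) : opS h t ∈ K.actB.range :=
  ⟨⟨_, K.mem_spinBS h t⟩, rfl⟩

theorem actB_range_le : K.actB.range ≤ H.elemGroup := by
  rintro x ⟨⟨p, hp⟩, rfl⟩
  show p.2 ∈ _
  induction hp using Subgroup.closure_induction with
  | mem y hy =>
    rcases hy with ⟨a, b, h, t, rfl⟩ | ⟨z, a, h, t, rfl⟩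
    exacts [opL_mem h t, opS_mem h t]
  | one => exact one_mem _
  | mul y z _ _ hy hz => exact mul_mem hy hz
  | inv y _ hy => exact inv_mem hy

theorem actB_range : K.actB.range = H.elemGroup := by
  refine le_antisymm K.actB_range_le ((Subgroup.closure_le _).2 ?_)
  rintro g (⟨p, q, hpq, t, rfl⟩ | ⟨z, p, hz, t, rfl⟩)
  exacts [K.actB_range_ge hpq t, K.actB_range_geS hz t]

variable [Fintype F] [Finite A] {z : ι} (B : BPre H K.actB z)
include B

theorem liftB_eq {a b : ι} (h : H.LOK a b) (t : F) :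
    lift H K.actB a b t = ⟨_, K.mem_spinB h t⟩ := by
  have C := B.toCover
  obtain ⟨c, h1, h2⟩ := C.exists_mid h
  rw [← mul_one t, C.lift_eq h h1 h2, mul_one]
  refine (C.cl_eq (a := ⟨_, K.mem_spinB h1 t⟩) (b := ⟨_, K.mem_spinB h2 1⟩) rfl rfl).trans ?_
  apply Subtype.ext
  show ⁅(K.u h1 t, opL h1 t), (K.u h2 1, opL h2 1)⁆ = (K.u h t, opL h t)
  refine Prod.ext (K.u_comm h1 h2 h t) ?_
  have := congrArg K.actB ((C.comm' h1 h2 h t 1))
  rw [map_commutatorElement, C.proj h1, C.proj h2, mul_one, C.proj h] at this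
  exact this

theorem spinB_perfect (hne : ∀ a, H.bar a ≠ a → ∃ b, H.LOK a b) : commutator K.spinB = ⊤ := by
  have C := B.toCover
  rw [eq_top_iff]
  rintro ⟨p, hp⟩ -
  suffices p ∈ (commutator K.spinB).map K.spinB.subtype by
    obtain ⟨q, hq, e⟩ := this
    rwa [show (⟨p, hp⟩ : K.spinB) = q from Subtype.ext e.symm]
  induction hp using Subgroup.closure_induction with
  | mem x hx =>
    rcases hx with ⟨a, b, h, t, rfl⟩ | ⟨w, a, h, t, rfl⟩
    · obtain ⟨c, h1, h2⟩ := C.exists_mid h
      refine ⟨lift H K.actB a b t, ?_, congrArg Subtype.val (K.liftB_eq B h t)⟩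
      rw [← mul_one t, C.lift_eq h h1 h2]
      exact Subgroup.commutator_mem_commutator (Subgroup.mem_top _) (Subgroup.mem_top _)
    · obtain rfl : z = w := H.fix_unique _ _ B.fix h.1
      obtain ⟨b, hab⟩ := hne a h.2
      obtain ⟨γ, Mγ, ga, -, -, -, g5⟩ := C.hh_mono hab (neg_ne_zero.2 (one_ne_zero (α := F)))
      set g := hh H K.actB a b (-1)
      have hgz : γ z = 1 := B.diag_fix hab g5
      have hc : ∀ v, (g.1.1 : A) * K.Γ v = K.Γ ((g.1.2 : Matrix ι ι F) *ᵥ v) * (g.1.1 : A) :=
        K.spinB_conj _ g.2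
      have hez : (g.1.1 : A) * K.e z = K.e z * (g.1.1 : A) := by
        rw [e, hc, show (g.1.2 : Matrix ι ι F) *ᵥ Pi.single z 1 = Pi.single z (γ z) from
          Mγ.single z, hgz]
      have hea : (g.1.1 : A) * K.e a = -(K.e a * (g.1.1 : A)) := by
        rw [e, hc, show (g.1.2 : Matrix ι ι F) *ᵥ Pi.single a 1 = Pi.single a (γ a) from
          Mγ.single a, ga, Pi.single_neg, map_neg, neg_mul]
      set s := -t / 2
      refine ⟨⁅g, (⟨_, K.mem_spinBS h s⟩ : K.spinB)⁆,
        Subgroup.commutator_mem_commutator (Subgroup.mem_top _) (Subgroup.mem_top _), ?_⟩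
      have h2 := B.two
      show ⁅g.1, (K.uS h s, opS h s)⁆ = (K.uS h t, opS h t)
      refine Prod.ext ?_ ?_
      · show ⁅g.1.1, K.uS h s⁆ = _
        rw [commutatorElement_def, mul_inv_eq_iff_eq_mul, mul_inv_eq_iff_eq_mul]
        apply Units.ext
        simp only [Units.val_mul]
        show (g.1.1 : A) * (1 + s • K.sroot z a) =
          (1 + t • K.sroot z a) * (1 + s • K.sroot z a) * (g.1.1 : A)
        rw [mul_add (g.1.1 : A), mul_one, mul_smul_comm, sroot, ← mul_assoc, hez, mul_assoc, hea,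
          mul_neg, ← mul_assoc, ← sroot, mul_add (1 + t • K.sroot z a), mul_one,
          add_mul (1 : A), one_mul, smul_mul_smul_comm, K.sroot_sq h, smul_zero, add_zero,
          add_mul, add_mul, one_mul, smul_neg, smul_mul_assoc, smul_mul_assoc, add_assoc,
          ← add_smul, show t + s = -s by simp only [s]; field_simp; ring, neg_smul]
      · show ⁅g.1.2, opS h s⁆ = opS h t
        rw [commutatorElement_def,
          show g.1.2 * opS h s * g.1.2⁻¹ = opS h (s * γ a * γ z) from
            Mγ.conj_opS h (by rw [hgz, one_mul]) s,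
          opS_inv, opS_add, ga, hgz]
        congr 1
        simp only [s]
        field_simp
        ring
  | one => exact one_mem _
  | mul y z _ _ hy hz => exact mul_mem hy hz
  | inv y _ hy => exact inv_mem hy

theorem wlB_val {a b : ι} (h : H.LOK a b) :
    ((wl H K.actB a b (-1)).1.1 : A) = 1 + (K.root b a - K.root a b) - K.idem a b := by
  rw [idem]
  have hw : ((wl H K.actB a b (-1)).1.1 : A) =
      (1 + (-1 : F) • K.root a b) * (1 + (-(-1 : F)⁻¹) • K.root b a) *
        (1 + (-1 : F) • K.root a b) := by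
    rw [wl, K.liftB_eq B h, K.liftB_eq B (lok_comm H h)]
    rfl
  have e1 : (-(-1 : F)⁻¹) = 1 := by rw [inv_neg, inv_one, neg_neg]
  rw [hw, e1, one_smul, neg_one_smul]
  have hb := K.root_triple h
  calc (1 + -K.root a b) * (1 + K.root b a) * (1 + -K.root a b)
      = 1 + K.root b a - K.root a b - K.root a b - (K.root a b * K.root b a +
          K.root b a * K.root a b) + K.root a b * K.root b a * K.root a b
          + K.root a b * K.root a b := by
        simp only [mul_add, add_mul, one_mul, mul_one, neg_mul, mul_neg, neg_neg]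
        abel
    _ = _ := by rw [hb, K.root_sq h]; abel

theorem zElB_val {a b : ι} (h : H.LOK a b) : ((zEl H K.actB a b).1.1 : A) = -1 := by
  have sq : ∀ {c : ι} (hc : H.LOK a c),
      ((hh H K.actB a c (-1)).1.1 : A) = 1 - (2 : ℕ) • K.idem a c := by
    intro c hc
    show ((wl H K.actB a c (-1) * wl H K.actB a c (-1)).1.1 : A) = _
    rw [Subgroup.coe_mul, Prod.fst_mul, Units.val_mul, K.wlB_val B hc]
    exact K.weyl_sq hc
  have hb := lok_barRight h
  rw [zEl, Subgroup.coe_mul, Prod.fst_mul, Units.val_mul, sq h, sq hb,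
    eq_sub_iff_add_eq'.2 (K.idem_add h)]
  have hI := K.idem_sq h
  set I := K.idem a b
  simp only [two_nsmul, mul_sub, sub_mul, mul_add, add_mul, mul_one, one_mul, hI]
  abel

end CliffMap

variable (F) in
/-- the vector of the larger split space attached to a vector of the odd space -/
def oddEmb (m : ℕ) : ((Unit ⊕ (Fin m ⊕ Fin m)) → F) →ₗ[F] (Fin (m + 1) ⊕ Fin (m + 1) → F) where
  toFun v := Sum.elim (Fin.cons (v (.inl ())) fun i => v (.inr (.inl i)))
    (Fin.cons (v (.inl ())) fun i => v (.inr (.inr i)))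
  map_add' v w := by
    funext i
    rcases i with i | i <;> refine Fin.cases ?_ (fun j => ?_) i <;> simp
  map_smul' c v := by
    funext i
    rcases i with i | i <;> refine Fin.cases ?_ (fun j => ?_) i <;> simp

/-- The Clifford map of the odd-dimensional form. -/
def spinorOdd (m : ℕ) :
    CliffMap (oddForm (F := F) m) (Matrix (Fin (m + 1) → Bool) (Fin (m + 1) → Bool) F) where
  Γ := (spinor (m + 1)).Γ.comp (oddEmb F m)
  sq v := by
    rw [LinearMap.comp_apply, (spinor (m + 1)).sq]
    congr 1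
    show Cfsg.quadFormPlus (m + 1) F _ = Cfsg.quadFormOdd m F v
    simp [Cfsg.quadFormPlus, Cfsg.quadFormOdd, oddEmb, Fin.sum_univ_succ, sq]
  inj := by
    intro v w h
    have h' := (spinor (m + 1)).inj h
    funext i
    rcases i with u | i | i
    · simpa [oddEmb] using congrFun h' (.inl 0)
    · simpa [oddEmb] using congrFun h' (.inl i.succ)
    · simpa [oddEmb] using congrFun h' (.inr i.succ)

end CfsgLib.SpinCover
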