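import Cfsg.Agent.Lib.SpinCover.PlusKernel
import Cfsg.Agent.Lib.SLCover.Universal

/-!
Schur multipliers of the split even-dimensional orthogonal groups.
-/

set_option autoImplicit false
set_option linter.unusedSectionVars false

namespace CfsgLib.SpinCover

open Matrix CfsgLib.ChevClassical CfsgLib.SLCover HypForm
open scoped commutatorElement

universe u

variable {F : Type u} [Field F] [Fintype F] {m : ℕ}

theorem two_eq_zero_iff : (2 : F) = 0 ↔ Even (Fintype.card F) := by
  constructor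
  · intro h
    haveI : CharP F 2 := CharTwo.of_one_ne_zero_of_two_eq_zero one_ne_zero h
    obtain ⟨n, -, hcard⟩ := FiniteField.card F 2
    rw [hcard]
    exact (Nat.even_pow' n.ne_zero).2 even_two
  · intro he
    obtain ⟨k, hk⟩ := he
    have h := FiniteField.cast_card_eq_zero F
    rw [hk] at h
    rcases eq_or_ne (ringChar F) 2 with hc | hc
    · have := ringChar.Nat.cast_ringChar (R := F)
      rw [hc] at this
      exact_mod_cast this
    · exfalso
      obtain ⟨n, hp, hcard⟩ := FiniteField.card F (ringChar F)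
      have : Odd (Fintype.card F) := by
        rw [hcard]; exact ((hp.odd_of_ne_two hc)).pow
      rw [Nat.odd_iff] at this
      omega

theorem gcd_facts {q l : ℕ} (hq : 2 ≤ q) (hl : 1 ≤ l) :
    (Even q → Nat.gcd 4 (q ^ l - 1) = 1 ∧ Nat.gcd 2 (q ^ l - 1) = 1) ∧
    (Odd q → Nat.gcd 2 (q ^ l - 1) = 2 ∧
      (Odd l → q % 4 = 1 → Nat.gcd 4 (q ^ l - 1) = 4) ∧
      (Odd l → q % 4 = 3 → Nat.gcd 4 (q ^ l - 1) = 2)) := by
  have hpos : 1 ≤ q ^ l := Nat.one_le_pow _ _ (by omega)
  refine ⟨fun he => ?_, fun ho => ?_⟩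
  · have hev : q ^ l % 2 = 0 := Nat.even_iff.1 ((Nat.even_pow' (by omega)).2 he)
    have h1 : Nat.Coprime 2 (q ^ l - 1) := Nat.coprime_two_left.2 (Nat.odd_iff.2 (by omega))
    exact ⟨Nat.Coprime.pow_left 2 h1, h1⟩
  · have hod : q ^ l % 2 = 1 := Nat.odd_iff.1 ho.pow
    refine ⟨Nat.gcd_eq_left (by omega), fun hlo h1 => ?_, fun hlo h3 => ?_⟩
    · have : q ^ l % 4 = 1 := by rw [Nat.pow_mod, h1, one_pow, Nat.one_mod]
      exact Nat.gcd_eq_left (by omega)
    · obtain ⟨k, rfl⟩ := hlo
      have : q ^ (2 * k + 1) % 4 = 3 := by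
        rw [Nat.pow_mod, h3, pow_succ, pow_mul, Nat.mul_mod, Nat.pow_mod]
        norm_num
      obtain ⟨j, hj⟩ : ∃ j, q ^ (2 * k + 1) - 1 = 4 * j + 2 := ⟨q ^ (2 * k + 1) / 4, by omega⟩
      rw [hj, Nat.gcd_rec, show (4 * j + 2) % 4 = 2 by omega]
      decide

theorem hasMultiplier (hm : 4 ≤ m) (hne : ¬ (m = 4 ∧ Fintype.card F = 2))
    {π : SpinPlus F m →* Cfsg.POmega F (Cfsg.quadFormPlus m F)} (hπs : Function.Surjective π)
    (hπ : ∀ x, π x = 1 ↔ ∀ g : GL (Fin m ⊕ Fin m) F, g ∈ (spinor (F := F) m).act.range →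
        g * (spinor (F := F) m).act x = (spinor (F := F) m).act x * g)
    {A : Type*} [CommGroup A] (e : π.ker ≃* A) :
    Cfsg.HasSchurMultiplier (Cfsg.POmega F (Cfsg.quadFormPlus m F)) A := by
  refine hasSchurMultiplier_of_closed π hπs ?_ (spin_perfect' hm hne)
    (fun E _ _ p hs hk hp => spin_closed hm hne p hs hk hp) e
  intro x hx
  set S := spinor (F := F) m
  have hx' := (hπ x).1 hx
  rw [Subgroup.mem_center_iff]
  have hc : ∀ y, ⁅x, y⁆ ∈ Subgroup.center (SpinPlus F m) := fun y => CliffMap.act_ker S (by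
    rw [MonoidHom.mem_ker, map_commutatorElement, commutatorElement_eq_one_iff_mul_comm]
    exact (hx' _ ⟨y, rfl⟩).symm)
  let θ : SpinPlus F m →* SpinPlus F m :=
    { toFun := fun e => ⁅x, e⁆
      map_one' := by simp
      map_mul' := fun a b => by
        have := Subgroup.mem_center_iff.1 (hc b) a
        calc ⁅x, a * b⁆ = ⁅x, a⁆ * (a * ⁅x, b⁆ * a⁻¹) := by
              simp only [commutatorElement_def]; group
          _ = _ := by rw [this, mul_inv_cancel_right] }
  intro y
  have hle : commutator (SpinPlus F m) ≤ θ.ker := by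
    rw [commutator_def, Subgroup.commutator_le]
    intro a _ b _
    rw [MonoidHom.mem_ker, map_commutatorElement, commutatorElement_eq_one_iff_mul_comm]
    exact Subgroup.mem_center_iff.1 (hc b) _
  rw [spin_perfect' hm hne] at hle
  have he : ⁅x, y⁆ = 1 := hle (Subgroup.mem_top y)
  exact (commutatorElement_eq_one_iff_mul_comm.1 he).symm

theorem plus_odd_rank (hl : 5 ≤ m) (hodd : Odd m) :
    Cfsg.HasCyclicSchurMultiplier (Cfsg.POmega F (Cfsg.quadFormPlus m F))
      (Nat.gcd 4 (Fintype.card F ^ m - 1)) := by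
  have hm : 4 ≤ m := by omega
  have hne : ¬ (m = 4 ∧ Fintype.card F = 2) := fun h => by omega
  obtain ⟨π, hπs, hπ⟩ := exists_proj (F := F) hm hne
  have hq2 : 2 ≤ Fintype.card F := Fintype.one_lt_card
  obtain ⟨g1, g2⟩ := gcd_facts hq2 (show 1 ≤ m by omega)
  obtain ⟨a, b, h⟩ := exists_lok (F := F) hm hne
  suffices hs : IsCyclic π.ker ∧ Nat.card π.ker = Nat.gcd 4 (Fintype.card F ^ m - 1) by
    haveI := hs.1
    exact hasMultiplier hm hne hπs hπ (mulEquivOfCyclicCardEq (by
      rw [hs.2, Nat.card_congr Multiplicative.toAdd, Nat.card_zmod]))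
  rcases Nat.even_or_odd (Fintype.card F) with he | ho
  · rw [(g1 he).1, ker_even hm hne hπ (two_eq_zero_iff.2 he), Subgroup.card_bot]
    exact ⟨inferInstance, rfl⟩
  · have h2 : (2 : F) ≠ 0 := fun e => Nat.not_even_iff_odd.2 ho (two_eq_zero_iff.1 e)
    obtain ⟨-, g3, g4⟩ := g2 ho
    by_cases h4 : Fintype.card F % 4 = 3
    · have hcard : Nat.card π.ker = 2 := ker_two hm hne hπ h2 h fun x Mx => by
        have hr : (spinor (F := F) m).act x ∈ (spinor (F := F) m).act.range := ⟨x, rfl⟩
        rw [act_range hm hne] at hr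
        obtain ⟨g, hg, hgx⟩ := hr
        refine negOne_not_mem h4 hodd (by omega) g hg ?_
        refine Matrix.ext_iff_mulVec.2 fun v => ?_
        rw [Matrix.neg_mulVec, Matrix.one_mulVec]
        funext i
        have := Mx.apply v i
        rw [id, neg_one_mul] at this
        rw [← hgx] at this
        exact this
      haveI : Fact (Nat.Prime 2) := ⟨Nat.prime_two⟩
      exact ⟨isCyclic_of_prime_card (p := 2) hcard, hcard.trans (g4 hodd h4).symm⟩
    · have h1 : Fintype.card F % 4 = 1 := by have := Nat.odd_iff.1 ho; omega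
      obtain ⟨ω, hω, hω2⟩ := exists_quarter hm hne hodd h1 a b h
      obtain ⟨hc, hωk, -, -, -, -⟩ := ker_four hm hne hπ h2 h hω
      refine ⟨isCyclic_of_orderOf_eq_card ⟨ω, hωk⟩ ?_, hc.trans (g3 hodd h1).symm⟩
      rw [hc, ← orderOf_injective π.ker.subtype Subtype.val_injective]
      show orderOf ω = _
      haveI : Fact (Nat.Prime 2) := ⟨Nat.prime_two⟩
      rw [show (4 : ℕ) = 2 ^ (1 + 1) by norm_num]
      refine orderOf_eq_prime_pow ?_ ?_
      · rw [pow_one, sq, hω2]
        exact zEl_ne_one hm hne h h2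
      · rw [pow_succ, pow_one, pow_mul, sq, sq, hω2]
        exact (spin_cover (F := F) hm hne).zEl_sq h

theorem plus_even_rank (hm : 4 ≤ m) (heven : Even m) (hne : ¬ (m = 4 ∧ Fintype.card F = 2)) :
    Cfsg.HasSchurMultiplier (Cfsg.POmega F (Cfsg.quadFormPlus m F))
      (Multiplicative (ZMod (Nat.gcd 2 (Fintype.card F ^ m - 1)) ×
        ZMod (Nat.gcd 2 (Fintype.card F ^ m - 1)))) := by
  obtain ⟨π, hπs, hπ⟩ := exists_proj (F := F) hm hne
  have hq2 : 2 ≤ Fintype.card F := Fintype.one_lt_card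
  obtain ⟨g1, g2⟩ := gcd_facts hq2 (show 1 ≤ m by omega)
  rcases Nat.even_or_odd (Fintype.card F) with he | ho
  · rw [(g1 he).2]
    haveI : Subsingleton π.ker := by
      rw [ker_even hm hne hπ (two_eq_zero_iff.2 he)]
      infer_instance
    haveI : Unique π.ker := uniqueOfSubsingleton 1
    haveI : Unique (Multiplicative (ZMod 1 × ZMod 1)) := uniqueOfSubsingleton 1
    exact hasMultiplier hm hne hπs hπ MulEquiv.ofUnique
  · have h2 : (2 : F) ≠ 0 := fun e => Nat.not_even_iff_odd.2 ho (two_eq_zero_iff.1 e)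
    rw [(g2 ho).1]
    obtain ⟨a, b, h⟩ := exists_lok (F := F) hm hne
    obtain ⟨ω, γ, Mγ, hω2, hγ⟩ :=
      exists_even_sign (F := F) hm hne Finset.univ (by simpa using heven)
    have hω : Mono (plusForm F m) ((spinor (F := F) m).act ω) id fun _ => -1 := by
      rw [show (fun _ => (-1 : F)) = γ from funext fun i => by rw [hγ]; simp]
      exact Mγ
    obtain ⟨hc, hωk, hzk, d1, d2, hall⟩ := ker_four hm hne hπ h2 h hω
    have C := spin_cover (F := F) hm hne
    set z := zEl (plusForm F m) (spinor (F := F) m).act a b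
    have hz2 : z * z = 1 := C.zEl_sq h
    have hsq : ∀ x : π.ker, x * x = 1 := by
      intro x
      apply Subtype.ext
      have hcx : ω * z = z * ω :=
        (Subgroup.mem_center_iff.1 (CliffMap.act_ker _ (C.zEl_image h)) ω)
      rcases hall x.1 x.2 with e | e | e | e <;> simp only [Subgroup.coe_mul, Subgroup.coe_one, e]
      · exact one_mul 1
      · exact hz2
      · exact hω2
      · calc ω * z * (ω * z) = ω * (z * ω) * z := by group
          _ = (ω * ω) * (z * z) := by rw [← hcx]; group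
          _ = 1 := by rw [hω2, hz2, one_mul]
    haveI : Nontrivial π.ker := ⟨⟨ω, hωk⟩, 1, fun e => d1 (congrArg Subtype.val e)⟩
    have : IsKleinFour π.ker :=
      { card_four := hc
        exponent_two := Monoid.exponent_eq_prime_iff Nat.prime_two |>.2 fun g hg =>
          orderOf_eq_prime (by rw [sq, hsq]) hg }
    obtain ⟨e⟩ := IsKleinFour.nonempty_mulEquiv (G₁ := π.ker)
      (G₂ := Multiplicative (ZMod 2 × ZMod 2))
    exact hasMultiplier hm hne hπs hπ e

end CfsgLib.SpinCover
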