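import Cfsg.Agent.Lib.SpinCover.OddClifford
import Cfsg.Agent.Lib.SpinCover.PlusMultiplier

/-!
Schur multipliers of the odd-dimensional orthogonal groups in odd characteristic.
-/

set_option autoImplicit false
set_option linter.unusedSectionVars false

namespace CfsgLib.SpinCover

open Matrix CfsgLib.ChevClassical CfsgLib.SLCover HypForm
open scoped commutatorElement

universe u

variable {F : Type u} [Field F] [Fintype F] {m : ℕ}

/-- index of the anisotropic vector -/
abbrev zPt (m : ℕ) : Unit ⊕ (Fin m ⊕ Fin m) := .inl ()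

/-- index of the pair -/
def pairIx (i₀ : Fin m) : Unit ⊕ (Fin m ⊕ Fin m) → Fin m :=
  Sum.elim (fun _ => i₀) (Sum.elim id id)

theorem odd_fix : (oddForm (F := F) m).bar (zPt m) = zPt m := rfl

theorem odd_bar_ne (i : Fin m ⊕ Fin m) : (oddForm (F := F) m).bar (.inr i) ≠ .inr i := by
  rcases i with j | j <;> simp [oddForm]

theorem odd_third (hm : 3 ≤ m) (a b : Unit ⊕ (Fin m ⊕ Fin m)) :
    ∃ e, (oddForm (F := F) m).bar e ≠ e ∧ e ≠ a ∧ e ≠ (oddForm (F := F) m).bar a ∧ e ≠ b ∧
      e ≠ (oddForm (F := F) m).bar b := by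
  obtain ⟨i, h1, h2⟩ := exists_third (ι := Fin m) (by simpa using hm)
    (pairIx ⟨0, by omega⟩ a) (pairIx ⟨0, by omega⟩ b)
  refine ⟨.inr (.inl i), odd_bar_ne _, ?_⟩
  rcases a with a | a | a <;> rcases b with b | b | b <;> simp_all [oddForm, pairIx]

theorem odd_fourth (hm : 4 ≤ m) (a b c : Unit ⊕ (Fin m ⊕ Fin m)) :
    ∃ e, (oddForm (F := F) m).bar e ≠ e ∧ e ≠ a ∧ e ≠ (oddForm (F := F) m).bar a ∧ e ≠ b ∧
      e ≠ (oddForm (F := F) m).bar b ∧ e ≠ c ∧ e ≠ (oddForm (F := F) m).bar c := by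
  obtain ⟨i, hi⟩ : ∃ i, i ∉ ({pairIx ⟨0, by omega⟩ a, pairIx ⟨0, by omega⟩ b,
      pairIx ⟨0, by omega⟩ c} : Finset (Fin m)) := by
    by_contra hcon
    push Not at hcon
    have h1 := Finset.card_le_card (s := Finset.univ) fun x _ => hcon x
    have h2 := Finset.card_le_three (a := pairIx ⟨0, by omega⟩ a) (b := pairIx ⟨0, by omega⟩ b)
      (c := pairIx (m := m) ⟨0, by omega⟩ c)
    rw [Finset.card_univ, Fintype.card_fin] at h1
    omega
  simp only [Finset.mem_insert, Finset.mem_singleton, not_or] at hi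
  refine ⟨.inr (.inl i), odd_bar_ne _, ?_⟩
  rcases a with a | a | a <;> rcases b with b | b | b <;> rcases c with c | c | c <;>
    simp_all [oddForm, pairIx]

theorem odd_ext (hm : 3 ≤ m) (ho : Odd (Fintype.card F)) (P : Finset (Unit ⊕ (Fin m ⊕ Fin m)))
    (hP : Ori (oddForm (F := F) m) P) :
    ∃ P', Ori (oddForm (F := F) m) P' ∧ P ⊆ P' ∧ Admissible P' F := by
  classical
  let f : Fin m → Unit ⊕ (Fin m ⊕ Fin m) := fun i =>
    if .inr (.inr i) ∈ P then .inr (.inr i) else .inr (.inl i)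
  have hf : Function.Injective f := by
    intro i j e
    simp only [f] at e
    split_ifs at e <;> simpa using e
  refine ⟨Finset.univ.image f, ?_, ?_, ?_⟩
  · intro x hx hx'
    simp only [Finset.mem_image, Finset.mem_univ, true_and] at hx hx'
    obtain ⟨i, rfl⟩ := hx
    obtain ⟨j, hj⟩ := hx'
    simp only [f, oddForm] at hj
    split_ifs at hj with h1 h2 h2 <;> simp at hj <;> subst hj <;> contradiction
  · intro x hx
    simp only [Finset.mem_image, Finset.mem_univ, true_and]
    rcases x with u | i | i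
    · exact absurd rfl (hP.ne hx)
    · refine ⟨i, if_neg fun h => hP _ hx ?_⟩
      simpa [oddForm] using h
    · exact ⟨i, if_pos hx⟩
  · have hc : Fintype.card ↥(Finset.univ.image f) = m := by
      rw [Fintype.card_coe, Finset.card_image_of_injective _ hf]; simp
    rw [Nat.odd_iff] at ho
    exact ⟨by omega, fun h => by omega, fun h => by omega⟩

theorem odd_bpre {E : Type*} [Group E] [Finite E] {ρ : E →* GL (Unit ⊕ (Fin m ⊕ Fin m)) F}
    (hm : 3 ≤ m) (ho : Odd (Fintype.card F)) (hne : ¬ (m = 3 ∧ Fintype.card F = 3))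
    (hc : ρ.ker ≤ Subgroup.center E)
    (hmem : ∀ (a b : Unit ⊕ (Fin m ⊕ Fin m)) (h : (oddForm (F := F) m).LOK a b) (t : F),
      opL h t ∈ ρ.range)
    (hmemS : ∀ (a : Unit ⊕ (Fin m ⊕ Fin m)) (h : (oddForm (F := F) m).SOK (zPt m) a) (t : F),
      opS h t ∈ ρ.range) :
    BPre (oddForm (F := F) m) ρ (zPt m) where
  central := hc
  mem := hmem
  ext := fun P hP => by
    obtain ⟨P', h1, h2, A⟩ := odd_ext hm ho P hP
    exact ⟨P', h1, h2, Sected.of_admissible A hc hmem⟩
  third := odd_third hm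
  fix := odd_fix
  two := fun e => Nat.not_even_iff_odd.2 ho (two_eq_zero_iff.1 e)
  memS := hmemS
  sep := by
    by_cases h4 : 4 ≤ m
    · exact Or.inl (odd_fourth h4)
    · right
      have h2 : 2 ≤ Fintype.card F := Fintype.one_lt_card
      rw [Nat.odd_iff] at ho
      obtain ⟨k, hk0, hk⟩ := exists_sq_ne_one (F := F) (by omega)
      exact ⟨k, hk0, fun e => hk (by rw [sq, e])⟩

/-- the Schur cover -/
abbrev SpinOdd (F : Type u) [Field F] (m : ℕ) : Type _ := (spinorOdd (F := F) m).spinB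

variable (hm : 3 ≤ m) (ho : Odd (Fintype.card F)) (hne : ¬ (m = 3 ∧ Fintype.card F = 3))
include hm ho hne

theorem spinOdd_bpre : BPre (oddForm (F := F) m) (spinorOdd (F := F) m).actB (zPt m) :=
  odd_bpre hm ho hne (CliffMap.actB_ker _) (fun _ _ h t => CliffMap.actB_range_ge _ h t)
    fun _ h t => CliffMap.actB_range_geS _ h t

theorem exists_lok_odd : ∃ a b, (oddForm (F := F) m).LOK a b :=
  ⟨.inr (.inl ⟨0, by omega⟩), .inr (.inl ⟨1, by omega⟩), odd_bar_ne _, odd_bar_ne _, by simp,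
    by simp [oddForm]⟩

theorem spinOdd_perfect : commutator (SpinOdd F m) = ⊤ :=
  CliffMap.spinB_perfect _ (spinOdd_bpre hm ho hne) fun a ha => by
    obtain ⟨e, he, h1, h2, -, -⟩ := odd_third (F := F) hm a a
    exact ⟨e, ha, he, h1.symm, fun f => h2 (by rw [f, (oddForm (F := F) m).bar_bar])⟩

theorem actB_range_eq : (spinorOdd (F := F) m).actB.range =
    (commutator ↥(oddForm (F := F) m).orth).map (oddForm (F := F) m).orth.subtype := by
  set S := spinorOdd (F := F) m
  have C := (spinOdd_bpre hm ho hne).toCover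
  obtain ⟨a, b, h⟩ := exists_lok_odd (F := F) hm ho hne
  have hle : S.actB.range ≤ (oddForm (F := F) m).elemGroup := CliffMap.actB_range_le _
  apply le_antisymm
  · rw [MonoidHom.range_eq_map, ← spinOdd_perfect hm ho hne, commutator_def,
      Subgroup.map_commutator, ← MonoidHom.range_eq_map, commutator_def, Subgroup.map_commutator,
      ← MonoidHom.range_eq_map, Subgroup.range_subtype]
    exact Subgroup.commutator_mono (hle.trans elemGroup_le_orth) (hle.trans elemGroup_le_orth)
  · have h1 := commutator_orth_le (pairSwap h.1) (fun u hu => C.diag_sq h hle u hu)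
    rintro x ⟨y, hy, rfl⟩
    have hy' : (y : GL (Unit ⊕ (Fin m ⊕ Fin m)) F) ∈ (oddForm (F := F) m).elemGroup := h1 hy
    rw [CliffMap.actB_range]
    exact hy'

omit ho hne in
/-- an element commuting with the whole image acts as a scalar `±1` -/
theorem central_scalar_odd {g : GL (Unit ⊕ (Fin m ⊕ Fin m)) F}
    (hg : g ∈ (oddForm (F := F) m).orth) (two : (2 : F) ≠ 0)
    (hc : ∀ (a : Unit ⊕ (Fin m ⊕ Fin m)) (h : (oddForm (F := F) m).SOK (zPt m) a),
      opS h 1 * g = g * opS h 1) :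
    ∃ k : F, k * k = 1 ∧ ∀ i, (g : Matrix (Unit ⊕ (Fin m ⊕ Fin m)) (Unit ⊕ (Fin m ⊕ Fin m)) F) *ᵥ
      Pi.single i 1 = Pi.single i k := by
  set H := oddForm (F := F) m
  set z := zPt m
  set u := (g : Matrix (Unit ⊕ (Fin m ⊕ Fin m)) (Unit ⊕ (Fin m ⊕ Fin m)) F) *ᵥ Pi.single z 1
  have key : ∀ a, H.SOK z a → u (H.bar a) = 0 ∧
      (g : Matrix (Unit ⊕ (Fin m ⊕ Fin m)) (Unit ⊕ (Fin m ⊕ Fin m)) F) *ᵥ Pi.single a 1 =
        Pi.single a (u z) := by
    intro a h
    obtain ⟨n1, n2, n3⟩ := sok_ne h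
    set w := (g : Matrix (Unit ⊕ (Fin m ⊕ Fin m)) (Unit ⊕ (Fin m ⊕ Fin m)) F) *ᵥ Pi.single a 1
      with hw
    have e1 := congrArg (fun A : GL (Unit ⊕ (Fin m ⊕ Fin m)) F =>
      (A : Matrix (Unit ⊕ (Fin m ⊕ Fin m)) (Unit ⊕ (Fin m ⊕ Fin m)) F) *ᵥ Pi.single a 1) (hc a h)
    have e2 := congrArg (fun A : GL (Unit ⊕ (Fin m ⊕ Fin m)) F =>
      (A : Matrix (Unit ⊕ (Fin m ⊕ Fin m)) (Unit ⊕ (Fin m ⊕ Fin m)) F) *ᵥ Pi.single z 1) (hc a h)
    simp only [mulVec_glMul, opS_mulVec h, sMap_apply, Matrix.mulVec_add, Pi.single_eq_same,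
      Pi.single_eq_of_ne n1, Pi.single_eq_of_ne n2.symm, Pi.single_eq_of_ne n3, mul_zero, mul_one,
      one_mul, one_pow, neg_zero, sub_zero, Pi.single_zero, Matrix.mulVec_zero, add_zero] at e1 e2
    rw [← hw] at e1
    rw [show (Pi.single a (-2) : Unit ⊕ (Fin m ⊕ Fin m) → F) = (-2 : F) • Pi.single a 1 by
      rw [← Pi.single_smul', smul_eq_mul, mul_one], Matrix.mulVec_smul, ← hw] at e2
    have a1 := congrFun e1 z
    have a2 := congrFun e1 a
    simp [n1, n1.symm, -Matrix.mulVec_single, -Matrix.mulVec_single_one] at a1 a2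
    have wz : w z = 0 := by
      rw [a1] at a2
      exact mul_left_cancel₀ two (by linear_combination -a2)
    have b1 := congrFun e2 z
    simp [n1, n1.symm, wz, -Matrix.mulVec_single, -Matrix.mulVec_single_one] at b1
    refine ⟨b1, ?_⟩
    funext j
    have b2 := congrFun e2 j
    rw [b1] at b2
    by_cases ja : j = a
    · subst ja
      simp [n1.symm, -Matrix.mulVec_single, -Matrix.mulVec_single_one] at b2
      rw [Pi.single_eq_same]
      exact (b2.resolve_right two).symm
    · simp [Pi.single_eq_of_ne ja, -Matrix.mulVec_single, -Matrix.mulVec_single_one] at b2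
      rw [Pi.single_eq_of_ne ja]
      exact b2.resolve_left two
  have hu : u = Pi.single z (u z) := by
    funext j
    rcases j with j | j
    · simp [z]
    · have := (key (H.bar (.inr j)) ⟨odd_fix, bar_ne (odd_bar_ne j)⟩).1
      rw [H.bar_bar] at this
      rw [this, Pi.single_eq_of_ne (by simp [z])]
  refine ⟨u z, ?_, fun i => ?_⟩
  · have h0 : ∀ c : F, H.Q (Pi.single z c) = c * c := by
      intro c
      have := H.hQ₀ z 0 c odd_fix
      rw [zero_add, H.Q_zero] at this
      simpa [sq] using this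
    have := H.mem_orth.1 hg (Pi.single z 1)
    rw [show (g : Matrix (Unit ⊕ (Fin m ⊕ Fin m)) (Unit ⊕ (Fin m ⊕ Fin m)) F) *ᵥ Pi.single z 1 =
      Pi.single z (u z) from hu, h0, h0, one_mul] at this
    exact this
  · rcases i with i | i
    · exact hu
    · exact (key (.inr i) ⟨odd_fix, odd_bar_ne i⟩).2

theorem exists_proj_odd : ∃ π : SpinOdd F m →* Cfsg.POmega F (Cfsg.quadFormOdd m F),
    Function.Surjective π ∧ π.ker = (spinorOdd (F := F) m).actB.ker := by
  set S := spinorOdd (F := F) m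
  have hr := actB_range_eq (F := F) hm ho hne
  have hin : ∀ x, S.actB x ∈ (oddForm (F := F) m).orth := fun x =>
    elemGroup_le_orth (CliffMap.actB_range_le S ⟨x, rfl⟩)
  have hin' : ∀ x, (⟨S.actB x, hin x⟩ : (oddForm (F := F) m).orth) ∈ commutator ↥(oddForm (F := F) m).orth := by
    intro x
    have : S.actB x ∈ S.actB.range := ⟨x, rfl⟩
    rw [hr] at this
    obtain ⟨y, hy, e⟩ := this
    rwa [show (⟨S.actB x, hin x⟩ : (oddForm (F := F) m).orth) = y from Subtype.ext e.symm]
  let φ : SpinOdd F m →* ↥(Cfsg.Omega F (Cfsg.quadFormOdd m F)) :=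
    (S.actB.codRestrict (oddForm (F := F) m).orth hin).codRestrict _ hin'
  have hφ : Function.Surjective φ := by
    rintro ⟨⟨g, hg⟩, hg'⟩
    obtain ⟨x, hx⟩ : g ∈ S.actB.range := hr ▸ ⟨⟨g, hg⟩, hg', rfl⟩
    exact ⟨x, Subtype.ext (Subtype.ext hx)⟩
  refine ⟨(QuotientGroup.mk' _).comp φ, (QuotientGroup.mk'_surjective _).comp hφ, ?_⟩
  ext x
  rw [MonoidHom.mem_ker, MonoidHom.mem_ker, MonoidHom.comp_apply, QuotientGroup.mk'_apply,
    QuotientGroup.eq_one_iff, Subgroup.mem_center_iff]
  constructor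
  · intro hc
    have two : (2 : F) ≠ 0 := (spinOdd_bpre hm ho hne).two
    obtain ⟨k, hk, hs⟩ := central_scalar_odd hm (hin x) two fun a h => by
      obtain ⟨y, hy⟩ := CliffMap.actB_range_geS S h (1 : F)
      rw [← hy]
      exact congrArg (fun w : ↥(Cfsg.Omega F (Cfsg.quadFormOdd m F)) => w.1.1) (hc (φ y))
    have hM : (S.actB x : Matrix (Unit ⊕ (Fin m ⊕ Fin m)) (Unit ⊕ (Fin m ⊕ Fin m)) F) = k • 1 := by
      refine Matrix.ext_of_mulVec_single fun i => ?_
      rw [hs, Matrix.smul_mulVec, Matrix.one_mulVec, ← Pi.single_smul', smul_eq_mul, mul_one]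
    have hk1 : k = 1 := by
      rcases mul_self_eq_one_iff.1 hk with e | e
      · exact e
      exfalso
      let d : SpinOdd F m →* Fˣ := Matrix.GeneralLinearGroup.det.comp S.actB
      have hd : commutator (SpinOdd F m) ≤ d.ker := Abelianization.commutator_subset_ker d
      rw [spinOdd_perfect hm ho hne] at hd
      have h1 : d x = 1 := hd (Subgroup.mem_top x)
      have h2 := congrArg Units.val h1
      simp only [d, MonoidHom.comp_apply, Matrix.GeneralLinearGroup.val_det_apply, hM,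
        Matrix.det_smul, Matrix.det_one, Units.val_one, mul_one, Fintype.card_sum, Fintype.card_unit,
        Fintype.card_fin] at h2
      rw [e, Odd.neg_one_pow ⟨m, by omega⟩] at h2
      exact two (by linear_combination -h2)
    apply Units.ext
    rw [hM, hk1, one_smul, Units.val_one]
  · intro hx z'
    obtain ⟨y, rfl⟩ := hφ z'
    refine Subtype.ext (Subtype.ext ?_)
    show S.actB y * S.actB x = S.actB x * S.actB y
    rw [hx, one_mul, mul_one]

theorem card_actB_ker : Nat.card (spinorOdd (F := F) m).actB.ker = 2 := by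
  set S := spinorOdd (F := F) m
  have B := spinOdd_bpre (F := F) hm ho hne
  obtain ⟨a, b, h⟩ := exists_lok_odd (F := F) hm ho hne
  set z := zEl (oddForm (F := F) m) S.actB a b
  have hz : S.actB z = 1 := B.toCover.zEl_image h
  have hzn : z ≠ 1 := fun e => by
    have := CliffMap.zElB_val S B h
    rw [show zEl (oddForm (F := F) m) S.actB a b = 1 from e] at this
    exact spinor_one_ne_neg_one B.two (by simpa using this)
  have key : ∀ {g : SpinOdd F m}, S.actB g = 1 → g = 1 ∨ g = hS (oddForm (F := F) m) S.actB (zPt m) a (-1) :=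
    fun hg => B.kernelB_le (spinOdd_perfect hm ho hne) (CliffMap.actB_range_le _) (B.sok h.1) hg
  have hzh := (key hz).resolve_left hzn
  rw [Nat.card_eq_two_iff]
  refine ⟨1, ⟨z, hz⟩, fun e => hzn (congrArg Subtype.val e).symm, ?_⟩
  refine Set.eq_univ_of_forall fun x => ?_
  rcases key x.2 with e | e
  · exact Or.inl (Subtype.ext e)
  · exact Or.inr (Subtype.ext (e.trans hzh.symm))

/-- closedness -/
theorem spinOdd_closed {E : Type*} [Group E] [Finite E] (p : E →* SpinOdd F m)
    (hs : Function.Surjective p) (hp : p.ker ≤ Subgroup.center E) (hperf : commutator E = ⊤) :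
    Function.Injective p := by
  set S := spinorOdd (F := F) m
  have B := spinOdd_bpre (F := F) hm ho hne
  obtain ⟨a, b, h⟩ := exists_lok_odd (F := F) hm ho hne
  have BE : BPre (oddForm (F := F) m) (S.actB.comp p) (zPt m) :=
    odd_bpre hm ho hne (comp_central p S.actB hp (CliffMap.actB_ker _) hperf)
      (fun x y hxy t => by
        obtain ⟨s, hs'⟩ := CliffMap.actB_range_ge S hxy t
        obtain ⟨e, rfl⟩ := hs s
        exact ⟨e, hs'⟩)
      (fun x hx t => by
        obtain ⟨s, hs'⟩ := CliffMap.actB_range_geS S hx t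
        obtain ⟨e, rfl⟩ := hs s
        exact ⟨e, hs'⟩)
  have hle : (S.actB.comp p).range ≤ (oddForm (F := F) m).elemGroup := by
    rintro x ⟨e, rfl⟩
    exact CliffMap.actB_range_le S ⟨_, rfl⟩
  have key : ∀ {g : E}, S.actB (p g) = 1 →
      g = 1 ∨ g = hS (oddForm (F := F) m) (S.actB.comp p) (zPt m) a (-1) :=
    fun hg => BE.kernelB_le hperf hle (BE.sok h.1) hg
  refine (injective_iff_map_eq_one p).2 fun g hg => ?_
  rcases key (g := g) (by rw [hg, map_one]) with h1 | h1
  · exact h1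
  exfalso
  obtain ⟨y, hy⟩ := hs (zEl (oddForm (F := F) m) S.actB a b)
  have hz : zEl (oddForm (F := F) m) S.actB a b ≠ 1 := fun e => by
    have := CliffMap.zElB_val S B h
    rw [e] at this
    exact spinor_one_ne_neg_one B.two (by simpa using this)
  rcases key (g := y) (by rw [hy, B.toCover.zEl_image h]) with e | e
  · rw [e, map_one] at hy; exact hz hy.symm
  · rw [e, ← h1, hg] at hy; exact hz hy.symm

theorem odd_dim_multiplier :
    Cfsg.HasCyclicSchurMultiplier (Cfsg.POmega F (Cfsg.quadFormOdd m F)) 2 := by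
  obtain ⟨π, hπs, hπ⟩ := exists_proj_odd (F := F) hm ho hne
  have hcard : Nat.card π.ker = 2 := by rw [hπ]; exact card_actB_ker hm ho hne
  haveI : Fact (Nat.Prime 2) := ⟨Nat.prime_two⟩
  haveI : IsCyclic π.ker := isCyclic_of_prime_card (p := 2) hcard
  exact hasSchurMultiplier_of_closed π hπs (hπ.le.trans (CliffMap.actB_ker _))
    (spinOdd_perfect hm ho hne) (fun E _ _ p hs hk hp => spinOdd_closed hm ho hne p hs hk hp)
    (mulEquivOfCyclicCardEq (by rw [hcard, Nat.card_congr Multiplicative.toAdd, Nat.card_zmod]))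

end CfsgLib.SpinCover
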