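import Cfsg.Agent.Lib.SpinCover.Split

/-!
Canonical lifts of the long root elements of an orthogonal group in a central extension, and the
relations between them.
-/

set_option autoImplicit false
set_option linter.unusedSectionVars false

namespace CfsgLib.SpinCover

open Matrix CfsgLib.ChevClassical CfsgLib.SLCover HypForm
open scoped commutatorElement

variable {ι : Type} [Fintype ι] [DecidableEq ι] {F : Type*} [Field F]
variable {H : HypForm ι F}

/-- the action of a monomial element on basis vectors -/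
structure Mono (H : HypForm ι F) (g : GL ι F) (π : ι → ι) (γ : ι → F) : Prop where
  inj : Function.Injective π
  bar : ∀ i, π (H.bar i) = H.bar (π i)
  single : ∀ i, (g : Matrix ι ι F) *ᵥ Pi.single i 1 = Pi.single (π i) (γ i)
  ne_zero : ∀ i, γ i ≠ 0
  unit : ∀ i, H.bar i ≠ i → γ i * γ (H.bar i) = 1

theorem Mono.apply {g : GL ι F} {π : ι → ι} {γ : ι → F} (M : Mono H g π γ) (v : ι → F) (i : ι) :
    ((g : Matrix ι ι F) *ᵥ v) (π i) = γ i * v i := by
  have hv : v = ∑ j, v j • Pi.single j (1 : F) := by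
    funext x
    simp [Finset.sum_apply, Pi.single_apply]
  conv_lhs => rw [hv]
  rw [Matrix.mulVec_sum, Finset.sum_apply, Finset.sum_eq_single i]
  · rw [Matrix.mulVec_smul, M.single, Pi.smul_apply, Pi.single_eq_same, smul_eq_mul, mul_comm]
  · intro j _ hj
    rw [Matrix.mulVec_smul, M.single, Pi.smul_apply, Pi.single_eq_of_ne fun e => hj (M.inj e.symm),
      smul_zero]
  · simp

theorem Mono.mulVec_single {g : GL ι F} {π : ι → ι} {γ : ι → F} (M : Mono H g π γ) (i : ι) (c : F) :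
    (g : Matrix ι ι F) *ᵥ Pi.single i c = Pi.single (π i) (γ i * c) := by
  rw [show (Pi.single i c : ι → F) = c • Pi.single i 1 by rw [← Pi.single_smul', smul_eq_mul, mul_one],
    Matrix.mulVec_smul, M.single, ← Pi.single_smul', smul_eq_mul, mul_comm]

theorem Mono.lok {g : GL ι F} {π : ι → ι} {γ : ι → F} (M : Mono H g π γ) {a b : ι}
    (h : H.LOK a b) : H.LOK (π a) (π b) :=
  ⟨fun e => h.1 (M.inj ((M.bar a).trans e)), fun e => h.2.1 (M.inj ((M.bar b).trans e)),
    fun e => h.2.2.1 (M.inj e), fun e => h.2.2.2 (M.inj (e.trans (M.bar b).symm))⟩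

theorem Mono.conj_opL {g : GL ι F} {π : ι → ι} {γ : ι → F} (M : Mono H g π γ) {a b : ι}
    (h : H.LOK a b) (t : F) : g * opL h t * g⁻¹ = opL (M.lok h) (t * γ a / γ b) := by
  refine conj_eq_of fun v => ?_
  rw [opL_mulVec, opL_mulVec, lMap_apply, lMap_apply, Matrix.mulVec_add, Matrix.mulVec_add,
    M.mulVec_single, M.mulVec_single, ← M.bar a, ← M.bar b, M.apply, M.apply]
  have hb := M.ne_zero b
  have e1 : γ a * (t * v b) = t * γ a / γ b * (γ b * v b) := by field_simp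
  have e2 : γ (H.bar b) * -(t * v (H.bar a)) = -(t * γ a / γ b * (γ (H.bar a) * v (H.bar a))) := by
    field_simp
    linear_combination (-(t * v (H.bar a))) * M.unit b h.2.1 + t * v (H.bar a) * M.unit a h.1
  rw [e1, e2]

variable (H) in
theorem lok_comm {a b : ι} (h : H.LOK a b) : H.LOK b a :=
  ⟨h.2.1, h.1, h.2.2.1.symm, fun e => h.2.2.2 (by rw [e, H.bar_bar])⟩

theorem lok_barRight {a b : ι} (h : H.LOK a b) : H.LOK a (H.bar b) :=
  ⟨h.1, bar_ne h.2.1, h.2.2.2, by rw [H.bar_bar]; exact h.2.2.1⟩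

theorem lok_barLeft {a b : ι} (h : H.LOK a b) : H.LOK (H.bar a) b :=
  lok_comm H (lok_barRight (lok_comm H h))

theorem ori_insert {P : Finset ι} {x : ι} (hP : Ori H P) (hx : ∀ p ∈ P, x ≠ H.bar p)
    (hne : H.bar x ≠ x) : Ori H (insert x P) := by
  intro i hi hi'
  rw [Finset.mem_insert] at hi hi'
  rcases hi with rfl | hi
  · rcases hi' with e | hi'
    · exact hne e
    · exact hx _ hi' (H.bar_bar i).symm
  · rcases hi' with e | hi'
    · exact hx i hi e.symm
    · exact hP i hi hi'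

theorem ori_single {x : ι} (hne : H.bar x ≠ x) : Ori H ({x} : Finset ι) := fun i hi => by
  rw [Finset.mem_singleton] at hi ⊢
  subst hi
  exact hne

theorem ori_triple {a b c : ι} (hab : H.LOK a b) (hac : H.LOK a c) (hcb : H.LOK c b) :
    Ori H {a, b, c} :=
  ori_insert (ori_insert (ori_single hac.2.1)
    (by simp only [Finset.mem_singleton, forall_eq]; exact (lok_comm H hcb).2.2.2) hab.2.1)
    (by simp only [Finset.mem_insert, Finset.mem_singleton, forall_eq_or_imp, forall_eq]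
        exact ⟨hab.2.2.2, hac.2.2.2⟩) hab.1

theorem opL_commute_bar {a b : ι} (h : H.LOK a b) (t u : F) :
    Commute (opL h t) (opL (lok_barRight h) u) := by
  refine glExt fun v => ?_
  simp only [mulVec_glMul, opL_mulVec, lMap_apply, H.bar_bar, Pi.add_apply]
  obtain ⟨h1, h2, h3, h4⟩ := h
  have h5 : H.bar a ≠ H.bar b := fun e => h3 (H.bar_inj e)
  have h6 : H.bar a ≠ b := fun e => h4 (by rw [← e, H.bar_bar])
  simp only [Pi.single_eq_of_ne h2.symm, Pi.single_eq_of_ne h2, Pi.single_eq_of_ne h3.symm,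
    Pi.single_eq_of_ne h4.symm, Pi.single_eq_of_ne h1, Pi.single_eq_of_ne h5, Pi.single_eq_of_ne h6,
    Pi.single_eq_same, add_zero]
  simp only [mul_add, neg_add, Pi.single_add, mul_neg, neg_neg, mul_zero, neg_zero, Pi.single_zero,
    add_zero]
  rw [show t * (u * v (H.bar a)) = u * (t * v (H.bar a)) by ring]
  abel

variable [Fintype F] {E : Type*} [Group E] [Finite E]

/-- a coordinate set over which the block group lifts -/
structure Sected (H : HypForm ι F) (ρ : E →* GL ι F) (P : Finset ι) : Prop where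
  three : 3 ≤ Fintype.card P
  sec : ∀ hP : Ori H P, ∃ s : Matrix.SpecialLinearGroup P F →* E, ∀ g, ρ (s g) = blk hP g

theorem Sected.of_admissible {ρ : E →* GL ι F} {P : Finset ι} (A : Admissible P F)
    (hc : ρ.ker ≤ Subgroup.center E) (hmem : ∀ (a b : ι) (h : H.LOK a b) (t : F), opL h t ∈ ρ.range) :
    Sected H ρ P :=
  ⟨A.three, fun hP => exists_blockLift hP A ρ hc hmem⟩

/-- A central extension of a group containing the long root elements, in large enough dimension. -/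
structure PreCover (H : HypForm ι F) (ρ : E →* GL ι F) : Prop where
  central : ρ.ker ≤ Subgroup.center E
  mem : ∀ (a b : ι) (h : H.LOK a b) (t : F), opL h t ∈ ρ.range
  ext : ∀ P : Finset ι, Ori H P → ∃ P', Ori H P' ∧ P ⊆ P' ∧ Sected H ρ P'
  third : ∀ a b : ι, ∃ e, H.bar e ≠ e ∧ e ≠ a ∧ e ≠ H.bar a ∧ e ≠ b ∧ e ≠ H.bar b

/-- commutator of chosen lifts -/
noncomputable def cl (ρ : E →* GL ι F) (x y : GL ι F) : E :=
  ⁅Function.invFun ρ x, Function.invFun ρ y⁆

variable (H) in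
/-- canonical lift of a long root element -/
noncomputable def lift (ρ : E →* GL ι F) (a b : ι) (t : F) : E :=
  open scoped Classical in
  if h : ∃ c, H.LOK a c ∧ H.LOK c b then
    cl ρ (opL h.choose_spec.1 t) (opL h.choose_spec.2 1)
  else 1

/-- A `PreCover` in which the lift through an index equals the lift through its partner. -/
structure Cover (H : HypForm ι F) (ρ : E →* GL ι F) : Prop extends PreCover H ρ where
  flip : ∀ {a b c : ι} (_ : H.LOK a b) (h1 : H.LOK a c) (h2 : H.LOK c b) (k1 : H.LOK a (H.bar c))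
    (k2 : H.LOK (H.bar c) b) (t : F),
    cl ρ (opL h1 t) (opL h2 1) = cl ρ (opL k1 t) (opL k2 1)

variable {ρ : E →* GL ι F}

namespace PreCover

variable (C : PreCover H ρ)
include C

theorem comm_congr {a a' b b' : E} (ha : ρ a = ρ a') (hb : ρ b = ρ b') :
    ⁅a, b⁆ = ⁅a', b'⁆ := by
  obtain ⟨k, hk, rfl⟩ : ∃ k ∈ Subgroup.center E, a = k * a' :=
    ⟨a * a'⁻¹, C.central (by simp [MonoidHom.mem_ker, ha]), by group⟩
  obtain ⟨m, hm, rfl⟩ : ∃ m ∈ Subgroup.center E, b = m * b' :=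
    ⟨b * b'⁻¹, C.central (by simp [MonoidHom.mem_ker, hb]), by group⟩
  simp only [commutatorElement_def, _root_.mul_inv_rev]
  calc k * a' * (m * b') * (a'⁻¹ * k⁻¹) * (b'⁻¹ * m⁻¹)
      = k * (a' * m) * b' * a'⁻¹ * (k⁻¹ * b'⁻¹) * m⁻¹ := by group
    _ = k * (m * a') * b' * a'⁻¹ * (b'⁻¹ * k⁻¹) * m⁻¹ := by
        rw [Subgroup.mem_center_iff.1 hm a', Subgroup.mem_center_iff.1 (inv_mem hk) b'⁻¹]
    _ = k * (m * (a' * b' * a'⁻¹ * b'⁻¹)) * k⁻¹ * m⁻¹ := by group
    _ = (m * (a' * b' * a'⁻¹ * b'⁻¹)) * k * k⁻¹ * m⁻¹ := by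
        rw [← Subgroup.mem_center_iff.1 hk (m * (a' * b' * a'⁻¹ * b'⁻¹))]
    _ = (a' * b' * a'⁻¹ * b'⁻¹) * m * k * k⁻¹ * m⁻¹ := by
        rw [Subgroup.mem_center_iff.1 hm (a' * b' * a'⁻¹ * b'⁻¹)]
    _ = a' * b' * a'⁻¹ * b'⁻¹ := by group

theorem cl_eq {x y : GL ι F} {a b : E} (ha : ρ a = x) (hb : ρ b = y) : cl ρ x y = ⁅a, b⁆ :=
  C.comm_congr ((Function.invFun_eq (f := ρ) ⟨a, ha⟩).trans ha.symm)
    ((Function.invFun_eq (f := ρ) ⟨b, hb⟩).trans hb.symm)

theorem exists_sec {P : Finset ι} (hP : Ori H P) (A : Sected H ρ P) :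
    ∃ s : Matrix.SpecialLinearGroup P F →* E, ∀ g, ρ (s g) = blk hP g :=
  A.sec hP

theorem sec_cl {P : Finset ι} {hP : Ori H P} {s : Matrix.SpecialLinearGroup P F →* E}
    (hs : ∀ g, ρ (s g) = blk hP g) {a b c : P} (hab : a ≠ b) (hac : a ≠ c) (hcb : c ≠ b)
    (h1 : H.LOK a.1 c.1) (h2 : H.LOK c.1 b.1) (t u : F) :
    cl ρ (opL h1 t) (opL h2 u) = s (xt a b (t * u)) := by
  rw [C.cl_eq (a := s (xt a c t)) (b := s (xt c b u)) (by rw [hs, blk_xt hP hac])
    (by rw [hs, blk_xt hP hcb]), ← map_commutatorElement, xt_comm' hac hcb hab]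

theorem cl_indep_near {a b c d : ι} (hab : H.LOK a b) (h1 : H.LOK a c) (h2 : H.LOK c b)
    (k1 : H.LOK a d) (k2 : H.LOK d b) (hd : d ≠ H.bar c) {t u t' u' : F} (e : t * u = t' * u') :
    cl ρ (opL h1 t) (opL h2 u) = cl ρ (opL k1 t') (opL k2 u') := by
  obtain ⟨P, hP, hsub, A⟩ := C.ext (insert d {a, b, c}) (ori_insert (ori_triple hab h1 h2)
    (by simp only [Finset.mem_insert, Finset.mem_singleton, forall_eq_or_imp, forall_eq]
        exact ⟨(lok_comm H k1).2.2.2, k2.2.2.2, hd⟩) k1.2.1)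
  obtain ⟨s, hs⟩ := C.exists_sec hP A
  have ma : a ∈ P := hsub (by simp)
  have mb : b ∈ P := hsub (by simp)
  have mc : c ∈ P := hsub (by simp)
  have md : d ∈ P := hsub (by simp)
  rw [C.sec_cl hs (a := ⟨a, ma⟩) (b := ⟨b, mb⟩) (c := ⟨c, mc⟩)
      (fun e => hab.2.2.1 (congrArg Subtype.val e)) (fun e => h1.2.2.1 (congrArg Subtype.val e))
      (fun e => h2.2.2.1 (congrArg Subtype.val e)) h1 h2,
    C.sec_cl hs (a := ⟨a, ma⟩) (b := ⟨b, mb⟩) (c := ⟨d, md⟩)
      (fun e => hab.2.2.1 (congrArg Subtype.val e)) (fun e => k1.2.2.1 (congrArg Subtype.val e))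
      (fun e => k2.2.2.1 (congrArg Subtype.val e)) k1 k2, e]

theorem exists_mid {a b : ι} (hab : H.LOK a b) : ∃ c, H.LOK a c ∧ H.LOK c b := by
  obtain ⟨f, hf, fa, fa', fb, fb'⟩ := C.third a b
  exact ⟨f, ⟨hab.1, hf, fa.symm, fun e => fa' (by rw [e, H.bar_bar])⟩, ⟨hf, hab.2.1, fb, fb'⟩⟩

end PreCover

/-- With a fourth index the lift through an index equals the lift through its partner. -/
theorem PreCover.toCover (C : PreCover H ρ)
    (fourth : ∀ a b c : ι, ∃ e, H.bar e ≠ e ∧ e ≠ a ∧ e ≠ H.bar a ∧ e ≠ b ∧ e ≠ H.bar b ∧ e ≠ c ∧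
      e ≠ H.bar c) : Cover H ρ := by
  refine ⟨C, fun {a b c} hab h1 h2 k1 k2 t => ?_⟩
  obtain ⟨f, hf, fa, fa', fb, fb', fc, fc'⟩ := fourth a b c
  have l1 : H.LOK a f := ⟨hab.1, hf, fa.symm, fun e => fa' (by rw [e, H.bar_bar])⟩
  have l2 : H.LOK f b := ⟨hf, hab.2.1, fb, fb'⟩
  rw [C.cl_indep_near hab h1 h2 l1 l2 fc' rfl,
    C.cl_indep_near hab l1 l2 k1 k2 (fun e => fc (H.bar_inj e).symm) rfl]

variable (C : Cover H ρ)
include C

namespace Cover

theorem comm_congr {a a' b b' : E} (ha : ρ a = ρ a') (hb : ρ b = ρ b') : ⁅a, b⁆ = ⁅a', b'⁆ :=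
  C.toPreCover.comm_congr ha hb

theorem cl_eq {x y : GL ι F} {a b : E} (ha : ρ a = x) (hb : ρ b = y) : cl ρ x y = ⁅a, b⁆ :=
  C.toPreCover.cl_eq ha hb

theorem exists_sec {P : Finset ι} (hP : Ori H P) (A : Sected H ρ P) :
    ∃ s : Matrix.SpecialLinearGroup P F →* E, ∀ g, ρ (s g) = blk hP g :=
  C.toPreCover.exists_sec hP A

theorem sec_cl {P : Finset ι} {hP : Ori H P} {s : Matrix.SpecialLinearGroup P F →* E}
    (hs : ∀ g, ρ (s g) = blk hP g) {a b c : P} (hab : a ≠ b) (hac : a ≠ c) (hcb : c ≠ b)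
    (h1 : H.LOK a.1 c.1) (h2 : H.LOK c.1 b.1) (t u : F) :
    cl ρ (opL h1 t) (opL h2 u) = s (xt a b (t * u)) :=
  C.toPreCover.sec_cl hs hab hac hcb h1 h2 t u

theorem exists_mid {a b : ι} (hab : H.LOK a b) : ∃ c, H.LOK a c ∧ H.LOK c b :=
  C.toPreCover.exists_mid hab

theorem cl_indep {a b c d : ι} (hab : H.LOK a b) (h1 : H.LOK a c) (h2 : H.LOK c b)
    (k1 : H.LOK a d) (k2 : H.LOK d b) {t u t' u' : F} (e : t * u = t' * u') :
    cl ρ (opL h1 t) (opL h2 u) = cl ρ (opL k1 t') (opL k2 u') := by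
  have hcc : c ≠ H.bar c := h2.1.symm
  by_cases hd : d = H.bar c
  · subst hd
    rw [C.toPreCover.cl_indep_near hab h1 h2 h1 h2 hcc (t' := t * u) (u' := 1) (mul_one _).symm,
      C.flip hab h1 h2 k1 k2,
      C.toPreCover.cl_indep_near hab k1 k2 k1 k2 (bar_ne h2.1).symm
        ((mul_one _).trans e)]
  · exact C.toPreCover.cl_indep_near hab h1 h2 k1 k2 hd e

theorem lift_eq {a b c : ι} (hab : H.LOK a b) (h1 : H.LOK a c) (h2 : H.LOK c b) (t u : F) :
    lift H ρ a b (t * u) = cl ρ (opL h1 t) (opL h2 u) := by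
  have hex : ∃ c, H.LOK a c ∧ H.LOK c b := ⟨c, h1, h2⟩
  rw [lift, dif_pos hex]
  exact C.cl_indep hab _ _ h1 h2 (mul_one _)

theorem sec_lift {P : Finset ι} {hP : Ori H P} {s : Matrix.SpecialLinearGroup P F →* E}
    (hs : ∀ g, ρ (s g) = blk hP g) (A : Sected H ρ P) {a b : P} (hab : a ≠ b) (t : F) :
    s (xt a b t) = lift H ρ a.1 b.1 t := by
  obtain ⟨c, hca, hcb⟩ := exists_third A.three a b
  have h1 := hP.lok (F := F) a.2 c.2 fun e => hca (Subtype.ext e).symm
  have h2 := hP.lok (F := F) c.2 b.2 fun e => hcb (Subtype.ext e)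
  rw [← mul_one t, C.lift_eq (hP.lok a.2 b.2 fun e => hab (Subtype.ext e)) h1 h2,
    C.sec_cl hs hab (Ne.symm hca) hcb]

theorem proj {a b : ι} (h : H.LOK a b) (t : F) : ρ (lift H ρ a b t) = opL h t := by
  obtain ⟨c, h1, h2⟩ := C.exists_mid h
  obtain ⟨P, hP, hsub, A⟩ := C.ext _ (ori_triple h h1 h2)
  obtain ⟨s, hs⟩ := C.exists_sec hP A
  have hne : (⟨a, hsub (by simp)⟩ : P) ≠ ⟨b, hsub (by simp)⟩ :=
    fun e => h.2.2.1 (congrArg Subtype.val e)
  have := C.sec_lift hs A hne t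
  rw [← this, hs, blk_xt hP hne]

theorem lift_add {a b : ι} (h : H.LOK a b) (t u : F) :
    lift H ρ a b (t + u) = lift H ρ a b t * lift H ρ a b u := by
  obtain ⟨c, h1, h2⟩ := C.exists_mid h
  obtain ⟨P, hP, hsub, A⟩ := C.ext _ (ori_triple h h1 h2)
  obtain ⟨s, hs⟩ := C.exists_sec hP A
  have hne : (⟨a, hsub (by simp)⟩ : P) ≠ ⟨b, hsub (by simp)⟩ :=
    fun e => h.2.2.1 (congrArg Subtype.val e)
  rw [← C.sec_lift hs A hne t, ← C.sec_lift hs A hne u, ← map_mul, ← xt_add hne,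
    C.sec_lift hs A hne]

theorem lift_zero {a b : ι} (h : H.LOK a b) : lift H ρ a b 0 = 1 := by
  have := C.lift_add h 0 0
  rw [add_zero] at this
  exact left_eq_mul.1 this

theorem lift_neg {a b : ι} (h : H.LOK a b) (t : F) : lift H ρ a b (-t) = (lift H ρ a b t)⁻¹ := by
  symm
  apply inv_eq_of_mul_eq_one_right
  rw [← C.lift_add h, add_neg_cancel, C.lift_zero h]

theorem lift_symm {a b : ι} (h : H.LOK a b) (t : F) :
    lift H ρ (H.bar b) (H.bar a) t = lift H ρ a b (-t) := by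
  obtain ⟨c, h1, h2⟩ := C.exists_mid h
  have k1 : H.LOK (H.bar b) (H.bar c) := LOK.symm H h2
  have k2 : H.LOK (H.bar c) (H.bar a) := LOK.symm H h1
  have e : lift H ρ a b t = lift H ρ a b (-1 * -t) := by rw [neg_mul_neg, one_mul]
  rw [← mul_one t, C.lift_eq (LOK.symm H h) k1 k2, mul_one, C.lift_neg h, e, C.lift_eq h h1 h2,
    opL_symm h2, opL_symm h1, cl, cl, commutatorElement_inv]

theorem comm {a b c : ι} (hab : H.LOK a b) (hbc : H.LOK b c) (hac : H.LOK a c) (t u : F) :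
    lift H ρ a b t * lift H ρ b c u =
      lift H ρ a c (t * u) * lift H ρ b c u * lift H ρ a b t := by
  obtain ⟨P, hP, hsub, A⟩ := C.ext _ (ori_triple hac hab hbc)
  obtain ⟨s, hs⟩ := C.exists_sec hP A
  have ma : a ∈ P := hsub (by simp)
  have mb : b ∈ P := hsub (by simp)
  have mc : c ∈ P := hsub (by simp)
  have n1 : (⟨a, ma⟩ : P) ≠ ⟨b, mb⟩ := fun e => hab.2.2.1 (congrArg Subtype.val e)
  have n2 : (⟨b, mb⟩ : P) ≠ ⟨c, mc⟩ := fun e => hbc.2.2.1 (congrArg Subtype.val e)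
  have n3 : (⟨a, ma⟩ : P) ≠ ⟨c, mc⟩ := fun e => hac.2.2.1 (congrArg Subtype.val e)
  rw [← C.sec_lift hs A n1, ← C.sec_lift hs A n2, ← C.sec_lift hs A n3, ← map_mul, ← map_mul,
    ← map_mul, SLCover.xt_comm n1 n2 n3]

theorem comm' {a b c : ι} (hab : H.LOK a b) (hbc : H.LOK b c) (hac : H.LOK a c) (t u : F) :
    ⁅lift H ρ a b t, lift H ρ b c u⁆ = lift H ρ a c (t * u) := by
  rw [commutatorElement_def, C.comm hab hbc hac]
  group

/-- two roots whose sum is neither a root nor zero nor twice a basis weight -/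
theorem commute {a b c d : ι} (hab : H.LOK a b) (hcd : H.LOK c d) (h1 : b ≠ c)
    (h2 : b ≠ H.bar d) (h3 : a ≠ d) (h4 : a ≠ H.bar c) (t u : F) :
    Commute (lift H ρ a b t) (lift H ρ c d u) := by
  have gen : ∀ {c d : ι}, H.LOK c d → b ≠ c → a ≠ d → c ≠ H.bar a → c ≠ H.bar b →
      d ≠ H.bar a → d ≠ H.bar b → ∀ u : F, Commute (lift H ρ a b t) (lift H ρ c d u) := by
    intro c d hcd h1 h3 e1 e2 e3 e4 u
    have o : Ori H {c, d, a, b} := ori_insert (ori_insert (ori_insert (ori_single hab.2.1)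
      (by simp only [Finset.mem_singleton, forall_eq]; exact hab.2.2.2) hab.1)
      (by simp only [Finset.mem_insert, Finset.mem_singleton, forall_eq_or_imp, forall_eq]
          exact ⟨e3, e4⟩) hcd.2.1)
      (by simp only [Finset.mem_insert, Finset.mem_singleton, forall_eq_or_imp, forall_eq]
          exact ⟨hcd.2.2.2, e1, e2⟩) hcd.1
    obtain ⟨P, hP, hsub, A⟩ := C.ext _ o
    obtain ⟨s, hs⟩ := C.exists_sec hP A
    have n1 : (⟨a, hsub (by simp)⟩ : P) ≠ ⟨b, hsub (by simp)⟩ :=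
      fun e => hab.2.2.1 (congrArg Subtype.val e)
    have n2 : (⟨c, hsub (by simp)⟩ : P) ≠ ⟨d, hsub (by simp)⟩ :=
      fun e => hcd.2.2.1 (congrArg Subtype.val e)
    rw [← C.sec_lift hs A n1, ← C.sec_lift hs A n2]
    exact (xt_commute n1 n2 (fun e => h1 (congrArg Subtype.val e))
      (fun e => h3 (congrArg Subtype.val e)) t u).map s
  have flip : lift H ρ c d u = lift H ρ (H.bar d) (H.bar c) (-u) := by
    rw [C.lift_symm hcd, neg_neg]
  by_cases hc : c = H.bar b
  · by_cases hd : d = H.bar a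
    · subst hc hd
      rw [C.lift_symm hab]
      show _ * _ = _ * _
      rw [← C.lift_add hab, ← C.lift_add hab, add_comm]
    rw [flip]
    subst hc
    rw [H.bar_bar]
    refine gen (by have := LOK.symm H hcd; rwa [H.bar_bar] at this) h2 hab.2.2.1
      (fun e => h3 (H.bar_inj e).symm) hcd.2.2.2.symm
      (fun e => hab.2.2.2 (by rw [e, H.bar_bar])) hab.2.1.symm _
  by_cases hd : d = H.bar a
  · rw [flip]
    subst hd
    rw [H.bar_bar]
    refine gen (by have := LOK.symm H hcd; rwa [H.bar_bar] at this) hab.2.2.1.symm h4 hab.1.symm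
      hab.2.2.2 ?_ ?_ _
    · intro e
      have := hcd.2.2.2
      rw [H.bar_bar] at this
      exact this (H.bar_inj e)
    · exact fun e => h1 (H.bar_inj e).symm
  · refine gen hcd h1 h3 (fun e => h4 (by rw [e, H.bar_bar])) hc hd
      (fun e => h2 (by rw [e, H.bar_bar])) u

/-- the two long roots whose sum is twice a basis weight commute -/
theorem commute_bar {a b : ι} (hab : H.LOK a b) (t u : F) :
    Commute (lift H ρ a b t) (lift H ρ a (H.bar b) u) := by
  obtain ⟨c, hc, fa, fa', fb, fb'⟩ := C.third a b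
  have hca : H.LOK c a := ⟨hc, hab.1, fa, fa'⟩
  have hac := lok_comm H hca
  have hcb : H.LOK c b := ⟨hc, hab.2.1, fb, fb'⟩
  have hcb' := lok_barRight hcb
  have hab' := lok_barRight hab
  set g := lift H ρ a c 1
  set x := lift H ρ c b t
  set y := lift H ρ c (H.bar b) u
  set A := lift H ρ a b t
  set B := lift H ρ a (H.bar b) u
  have cen : ∀ {a : ι} (h : H.LOK a b),
      ⁅lift H ρ a b t, lift H ρ a (H.bar b) u⁆ ∈ Subgroup.center E := fun h => by
    apply C.central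
    rw [MonoidHom.mem_ker, map_commutatorElement, C.proj h, C.proj (lok_barRight h),
      commutatorElement_eq_one_iff_commute]
    exact opL_commute_bar h t u
  have gx : g * x * g⁻¹ = A * x := by
    rw [mul_inv_eq_iff_eq_mul, C.comm hac hcb hab, one_mul]
  have gy : g * y * g⁻¹ = B * y := by
    rw [mul_inv_eq_iff_eq_mul, C.comm hac hcb' hab', one_mul]
  have kx : ⁅x, B⁆ = lift H ρ c (H.bar a) (-(t * u)) := by
    have hB : B = lift H ρ b (H.bar a) (-u) := by
      have := C.lift_symm hab' (-u)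
      rw [H.bar_bar, neg_neg] at this
      exact this.symm
    have hba : H.LOK b (H.bar a) := lok_barRight (lok_comm H hab)
    rw [hB, C.comm' hcb hba (lok_barRight hca), mul_neg]
  have ky : ⁅A, y⁆ = lift H ρ c (H.bar a) (t * u) := by
    have hy : y = lift H ρ b (H.bar c) (-u) := by
      have := C.lift_symm hcb' (-u)
      rw [H.bar_bar, neg_neg] at this
      exact this.symm
    have hbc : H.LOK b (H.bar c) := lok_barRight (lok_comm H hcb)
    rw [hy, C.comm' hab hbc (lok_barRight hac), mul_neg]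
    have := C.lift_symm (lok_barRight hac) (t * u)
    rw [H.bar_bar] at this
    exact this.symm
  have cA : Commute A (lift H ρ c (H.bar a) (-(t * u))) :=
    C.commute hab (lok_barRight hca) fb.symm (by rw [H.bar_bar]; exact hab.2.2.1.symm)
      hab.1.symm (fun e => fa' (by rw [e, H.bar_bar])) _ _
  have cB : Commute B (lift H ρ c (H.bar a) (t * u)) :=
    C.commute hab' (lok_barRight hca) fb'.symm (by rw [H.bar_bar]; exact hab.2.2.2.symm)
      hab.1.symm (fun e => fa' (by rw [e, H.bar_bar])) _ _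
  set z := ⁅x, y⁆
  set z' := ⁅A, B⁆
  have hz := Subgroup.mem_center_iff.1 (cen hcb)
  have hz' := Subgroup.mem_center_iff.1 (cen hab)
  have e1 : ⁅A * x, B * y⁆ = z := by
    rw [← gx, ← gy, ← conjugate_commutatorElement]
    show g * z * g⁻¹ = z
    rw [hz g, mul_inv_cancel_right]
  have e2 : ⁅A * x, B * y⁆ = (A * (⁅x, B⁆ * (B * z * B⁻¹)) * A⁻¹) * (z' * (B * ⁅A, y⁆ * B⁻¹)) := by
    simp only [z, z', commutatorElement_def]; group
  have e3 : B * z * B⁻¹ = z := by rw [hz B, mul_inv_cancel_right]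
  have e4 : B * ⁅A, y⁆ * B⁻¹ = ⁅A, y⁆ := by rw [ky, cB.eq]; group
  set K := lift H ρ c (H.bar a) (t * u)
  have hK : lift H ρ c (H.bar a) (-(t * u)) = K⁻¹ := C.lift_neg (lok_barRight hca) _
  rw [e1, e3, e4, kx, ky, hK] at e2
  have cA' : A * (K⁻¹ * z) * A⁻¹ = K⁻¹ * z := by
    have : Commute A (K⁻¹ * z) := (hK ▸ cA).mul_right (hz A)
    rw [this.eq]; group
  rw [cA'] at e2
  have h5 : z' = 1 := by
    have e5 : z = z * z' := by
      calc z = K⁻¹ * z * (z' * K) := e2
        _ = K⁻¹ * (z * z') * K := by group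
        _ = (z * z') * K⁻¹ * K := by
          rw [Subgroup.mem_center_iff.1 (mul_mem (cen hcb) (cen hab)) K⁻¹]
        _ = z * z' := by group
    exact left_eq_mul.1 e5
  exact commutatorElement_eq_one_iff_commute.1 h5

/-- elements with monomial image permute the lifts -/
theorem conj_lift {g : E} {π : ι → ι} {γ : ι → F} (M : Mono H (ρ g) π γ) {a b : ι}
    (h : H.LOK a b) (t : F) :
    g * lift H ρ a b t * g⁻¹ = lift H ρ (π a) (π b) (t * γ a / γ b) := by
  obtain ⟨c, h1, h2⟩ := C.exists_mid h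
  obtain ⟨x, hx⟩ := C.mem a c h1 t
  obtain ⟨y, hy⟩ := C.mem c b h2 1
  have e : t * γ a / γ b = t * γ a / γ c * (1 * γ c / γ b) := by
    have := M.ne_zero c
    field_simp
  rw [e, C.lift_eq (M.lok h) (M.lok h1) (M.lok h2), ← mul_one t, C.lift_eq h h1 h2, mul_one,
    C.cl_eq hx hy, conjugate_commutatorElement]
  refine (C.cl_eq ?_ ?_).symm
  · rw [map_mul, map_mul, map_inv, hx, M.conj_opL h1]
  · rw [map_mul, map_mul, map_inv, hy, M.conj_opL h2]

end Cover

end CfsgLib.SpinCover
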