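import Cfsg.Agent.Lib.SpinCover.Weyl

/-!
Lifts of the short root elements in a central extension of an odd-dimensional orthogonal group, and
their relations. All central discrepancies are killed by torus elements scaling one variable.
-/

set_option autoImplicit false
set_option linter.unusedSectionVars false

namespace CfsgLib.SpinCover

open Matrix CfsgLib.ChevClassical CfsgLib.SLCover HypForm
open scoped commutatorElement

/-- a central additive function invariant under a non-trivial scaling is trivial -/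
theorem kill {F G : Type*} [Field F] [Group G] (β : F → G)
    (hadd : ∀ t u, β (t + u) = β t * β u) {k : F} (hk : k ≠ 1) (hinv : ∀ t, β (k * t) = β t)
    (t : F) : β t = 1 := by
  have e := hinv (t / (k - 1))
  rw [show k * (t / (k - 1)) = t + t / (k - 1) by
    field_simp [sub_ne_zero.2 hk]
    ring, hadd] at e
  exact mul_eq_right.1 e

variable {ι : Type} [Fintype ι] [DecidableEq ι] {F : Type*} [Field F]
variable {H : HypForm ι F}

theorem sok_of {z : ι} (hz : H.bar z = z) {a : ι} (ha : H.bar a ≠ a) : H.SOK z a := ⟨hz, ha⟩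

theorem Mono.fix {g : GL ι F} {π : ι → ι} {γ : ι → F} (M : Mono H g π γ) {z : ι} (hz : H.bar z = z) :
    π z = z :=
  H.fix_unique _ _ (by rw [← M.bar, hz]) hz

theorem Mono.sok {g : GL ι F} {π : ι → ι} {γ : ι → F} (M : Mono H g π γ) {z a : ι}
    (h : H.SOK z a) : H.SOK z (π a) :=
  ⟨h.1, fun e => h.2 (M.inj ((M.bar a).trans e))⟩

theorem Mono.conj_opS {g : GL ι F} {π : ι → ι} {γ : ι → F} (M : Mono H g π γ) {z a : ι}
    (h : H.SOK z a) (hz2 : γ z * γ z = 1) (t : F) :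
    g * opS h t * g⁻¹ = opS (M.sok h) (t * γ a * γ z) := by
  refine conj_eq_of fun v => ?_
  have hvz : ((g : Matrix ι ι F) *ᵥ v) z = γ z * v z := by
    conv_lhs => rw [← M.fix h.1]
    rw [M.apply]
  rw [opS_mulVec, opS_mulVec, sMap_apply, sMap_apply, Matrix.mulVec_add, Matrix.mulVec_add,
    M.mulVec_single, M.mulVec_single, M.fix h.1, ← M.bar a, M.apply, hvz]
  have hu := M.unit a h.2
  have e1 : γ z * (t * v (H.bar a)) = t * γ a * γ z * (γ (H.bar a) * v (H.bar a)) := by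
    linear_combination (-(t * γ z * v (H.bar a))) * hu
  have e2 : γ a * (-(2 * t * v z) - t ^ 2 * v (H.bar a)) =
      -(2 * (t * γ a * γ z) * (γ z * v z)) -
        (t * γ a * γ z) ^ 2 * (γ (H.bar a) * v (H.bar a)) := by
    linear_combination (t ^ 2 * γ a * γ z ^ 2 * v (H.bar a)) * hu +
      (2 * t * γ a * v z + t ^ 2 * γ a * v (H.bar a)) * hz2
  rw [e1, e2]

theorem sok_ne {z a : ι} (h : H.SOK z a) :
    z ≠ a ∧ z ≠ H.bar a ∧ H.bar a ≠ a :=
  ⟨(SOK.ne h).1, (SOK.ne h).2, h.2⟩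

/-- product formula for two short root elements -/
theorem opS_mul_opS {z a d : ι} (ha : H.SOK z a) (hd : H.SOK z d) (h : H.LOK d (H.bar a))
    (s x : F) : opS ha s * opS hd x = opL h (2 * x * s) * opS hd x * opS ha s := by
  obtain ⟨a1, a2, a3⟩ := sok_ne ha
  obtain ⟨d1, d2, d3⟩ := sok_ne hd
  have h3 := h.2.2.1
  have h4 := h.2.2.2
  rw [H.bar_bar] at h4
  have h5 : H.bar d ≠ H.bar a := fun e => h4 (H.bar_inj e)
  have h6 : H.bar d ≠ a := fun e => h3 (by rw [← e, H.bar_bar])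
  have h7 : H.bar a ≠ d := h3.symm
  refine glExt fun v => ?_
  simp only [mulVec_glMul, opS_mulVec, opL_mulVec, sMap_apply, lMap_apply, H.bar_bar,
    Pi.add_apply, Pi.single_eq_same, Pi.single_eq_of_ne a1, Pi.single_eq_of_ne a2,
    Pi.single_eq_of_ne d1, Pi.single_eq_of_ne d2, Pi.single_eq_of_ne a2.symm,
    Pi.single_eq_of_ne d2.symm, Pi.single_eq_of_ne a3, Pi.single_eq_of_ne d3,
    Pi.single_eq_of_ne h5, Pi.single_eq_of_ne h5.symm, Pi.single_eq_of_ne h6,
    Pi.single_eq_of_ne h7, add_zero]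
  funext i
  simp only [Pi.add_apply, Pi.single_apply]
  split_ifs <;> ring

/-- conjugate of a short root element by a long one -/
theorem opL_conj_opS {z a d : ι} (ha : H.SOK z a) (hd : H.SOK z d) (hR : H.LOK d a)
    (hL : H.LOK a (H.bar d)) (x y : F) :
    opL hR y * opS ha x * (opL hR y)⁻¹ = opL hL (x ^ 2 * y) * opS ha x * opS hd (x * y) := by
  obtain ⟨a1, a2, a3⟩ := sok_ne ha
  obtain ⟨d1, d2, d3⟩ := sok_ne hd
  have h3 := hR.2.2.1
  have h4 := hR.2.2.2
  have h5 : H.bar d ≠ H.bar a := fun e => h3 (H.bar_inj e)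
  have h6 : H.bar d ≠ a := fun e => h4 (by rw [← e, H.bar_bar])
  have h7 : H.bar a ≠ d := h4.symm
  refine conj_eq_of fun v => ?_
  simp only [mulVec_glMul, opS_mulVec, opL_mulVec, sMap_apply, lMap_apply, H.bar_bar,
    Pi.add_apply, Pi.single_eq_same, Pi.single_eq_of_ne a1, Pi.single_eq_of_ne a2,
    Pi.single_eq_of_ne d1, Pi.single_eq_of_ne d2, Pi.single_eq_of_ne a1.symm,
    Pi.single_eq_of_ne a2.symm, Pi.single_eq_of_ne d2.symm, Pi.single_eq_of_ne a3,
    Pi.single_eq_of_ne a3.symm, Pi.single_eq_of_ne d1.symm, Pi.single_eq_of_ne d3,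
    Pi.single_eq_of_ne d3.symm, Pi.single_eq_of_ne h5, Pi.single_eq_of_ne h5.symm,
    Pi.single_eq_of_ne h6, Pi.single_eq_of_ne h6.symm, Pi.single_eq_of_ne h7,
    Pi.single_eq_of_ne h7.symm, Pi.single_eq_of_ne h3, Pi.single_eq_of_ne h3.symm, add_zero]
  funext i
  simp only [Pi.add_apply, Pi.single_apply]
  split_ifs <;> ring

variable [Fintype F] {E : Type*} [Group E] [Finite E] {ρ : E →* GL ι F}

/-- hypotheses on a central extension of an odd-dimensional orthogonal group -/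
structure BPre (H : HypForm ι F) (ρ : E →* GL ι F) (z : ι) : Prop extends PreCover H ρ where
  fix : H.bar z = z
  two : (2 : F) ≠ 0
  memS : ∀ (a : ι) (h : H.SOK z a) (t : F), opS h t ∈ ρ.range
  sep : (∀ a b c : ι, ∃ e, H.bar e ≠ e ∧ e ≠ a ∧ e ≠ H.bar a ∧ e ≠ b ∧ e ≠ H.bar b ∧ e ≠ c ∧
      e ≠ H.bar c) ∨ ∃ k : F, k ≠ 0 ∧ k * k ≠ 1

namespace PreCover

variable (C : PreCover H ρ)
include C

/-- torus elements without canonical lifts -/
theorem exists_diag {x y : ι} (h : H.LOK x y) {k : F} (hk : k ≠ 0) :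
    ∃ (g : E) (γ : ι → F), Mono H (ρ g) id γ ∧ γ x = k ∧ γ y = k⁻¹ ∧ γ (H.bar x) = k⁻¹ ∧
      γ (H.bar y) = k ∧ ∀ i, i ≠ x → i ≠ y → i ≠ H.bar x → i ≠ H.bar y → γ i = 1 := by
  have h' := lok_comm H h
  have hn : (-1 : F) ≠ 0 := neg_ne_zero.2 one_ne_zero
  have mem : ∀ t : F, opL h t * opL h' (-t⁻¹) * opL h t ∈ ρ.range := fun t =>
    mul_mem (mul_mem (C.mem _ _ h t) (C.mem _ _ h' _)) (C.mem _ _ h t)
  obtain ⟨g, hg⟩ := mul_mem (mem k) (mem (-1))
  have M := (weyl_mono h hk).mul (weyl_mono h hn)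
  have P := wPerm_self h
  have Cf := wCoef_self h k
  have Cn := wCoef_self h (-1 : F)
  have hid : ∀ i, (wPerm H x y ∘ wPerm H x y) i = i := by
    intro i
    rcases five_cases (H := H) x y i with rfl | rfl | rfl | rfl | ⟨e1, e2, e3, e4⟩
    all_goals first
      | (simp only [Function.comp_apply, P.1, P.2.1, P.2.2.1, P.2.2.2]; done)
      | simp only [Function.comp_apply, wPerm_other e1 e2 e3 e4]
  refine ⟨g, _, ⟨Function.injective_id, fun i => rfl, fun i => ?_, M.ne_zero, M.unit⟩,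
    ?_, ?_, ?_, ?_, ?_⟩
  · rw [hg, M.single, hid]; rfl
  · simp [P.1, Cf.2.1, Cn.1]
  · simp [P.2.1, Cf.1, Cn.2.1]
  · simp [P.2.2.1, Cf.2.2.2, Cn.2.2.1]
  · simp [P.2.2.2, Cf.2.2.1, Cn.2.2.2]
  · intro i e1 e2 e3 e4
    simp [wPerm_other e1 e2 e3 e4, wCoef_other _ e1 e2 e3 e4]

/-- a family of elements commutes with a further element when a torus element separates them -/
theorem comm_kill (f : F → E) (hadd : ∀ t u, ρ (f (t + u)) = ρ (f t) * ρ (f u)) (y : E)
    (hcomm : ∀ t, Commute (ρ (f t)) (ρ y)) (g : E) {k : F} (hk : k ≠ 1)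
    (hg1 : ∀ t, ρ g * ρ (f t) * (ρ g)⁻¹ = ρ (f (k * t))) (hg2 : ρ g * ρ y * (ρ g)⁻¹ = ρ y)
    (t : F) : Commute (f t) y := by
  have hcen : ∀ t, ⁅f t, y⁆ ∈ Subgroup.center E := fun t => C.central (by
    rw [MonoidHom.mem_ker, map_commutatorElement, commutatorElement_eq_one_iff_commute]
    exact hcomm t)
  rw [← commutatorElement_eq_one_iff_commute]
  refine kill (fun t => ⁅f t, y⁆) (fun t u => ?_) hk (fun t => ?_) t
  · rw [C.comm_congr (a' := f t * f u) (b' := y) (by rw [map_mul, hadd]) rfl]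
    calc ⁅f t * f u, y⁆ = f t * ⁅f u, y⁆ * (f t)⁻¹ * ⁅f t, y⁆ := by
          simp only [commutatorElement_def]; group
      _ = ⁅f u, y⁆ * ⁅f t, y⁆ := by
          rw [Subgroup.mem_center_iff.1 (hcen u) (f t), mul_inv_cancel_right]
      _ = _ := (Subgroup.mem_center_iff.1 (hcen u) _).symm
  · calc ⁅f (k * t), y⁆ = ⁅g * f t * g⁻¹, g * y * g⁻¹⁆ :=
          C.comm_congr (by rw [map_mul, map_mul, map_inv, hg1])
            (by rw [map_mul, map_mul, map_inv, hg2])
      _ = g * ⁅f t, y⁆ * g⁻¹ := (conjugate_commutatorElement _ _ _).symm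
      _ = _ := by rw [Subgroup.mem_center_iff.1 (hcen t) g, mul_inv_cancel_right]

end PreCover

namespace BPre

variable {z : ι} (B : BPre H ρ z)
include B

theorem sok {a : ι} (ha : H.bar a ≠ a) : H.SOK z a := sok_of B.fix ha

theorem z_ne {a : ι} (ha : H.bar a ≠ a) : z ≠ a ∧ z ≠ H.bar a := SOK.ne (B.sok ha)

/-- torus element fixing `z` -/
theorem diag_fix {x y : ι} (h : H.LOK x y) {γ : ι → F}
    (hoth : ∀ i, i ≠ x → i ≠ y → i ≠ H.bar x → i ≠ H.bar y → γ i = 1) : γ z = 1 :=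
  hoth z (B.z_ne h.1).1 (B.z_ne h.2.1).1 (B.z_ne h.1).2 (B.z_ne h.2.1).2

theorem opS_long_commute {z' a b c : ι} (hz : z' = z) (hc : H.SOK z' c) (h : H.LOK a b)
    (h1 : b ≠ c) (h2 : a ≠ H.bar c) (s t : F) : Commute (opS hc s) (opL h t) := by
  subst hz
  obtain ⟨c1, c2, c3⟩ := sok_ne hc
  obtain ⟨a1, a2⟩ := B.z_ne h.1
  obtain ⟨b1, b2⟩ := B.z_ne h.2.1
  have h3 : c ≠ H.bar a := fun e => h2 (by rw [e, H.bar_bar])
  have h5 : H.bar c ≠ H.bar b := fun e => h1 (H.bar_inj e).symm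
  refine glExt fun v => ?_
  simp only [mulVec_glMul, opS_mulVec, opL_mulVec, sMap_apply, lMap_apply,
    Pi.add_apply, Pi.single_eq_of_ne h2.symm, Pi.single_eq_of_ne h5, Pi.single_eq_of_ne a1,
    Pi.single_eq_of_ne b2, Pi.single_eq_of_ne b1.symm, Pi.single_eq_of_ne a2.symm,
    Pi.single_eq_of_ne h1, Pi.single_eq_of_ne h3.symm, add_zero]
  abel

/-- The lift through an index equals the lift through its partner. -/
theorem flip_of_sep {a b c : ι} (hab : H.LOK a b) (h1 : H.LOK a c) (h2 : H.LOK c b)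
    (k1 : H.LOK a (H.bar c)) (k2 : H.LOK (H.bar c) b) (t : F) {k : F} (hk0 : k ≠ 0)
    (hk : k * k ≠ 1) : cl ρ (opL h1 t) (opL h2 1) = cl ρ (opL k1 t) (opL k2 1) := by
  obtain ⟨P, hP, hsub, A⟩ := B.ext _ (ori_triple hab h1 h2)
  obtain ⟨s, hs⟩ := B.toPreCover.exists_sec hP A
  have n1 : (⟨a, hsub (by simp)⟩ : P) ≠ ⟨b, hsub (by simp)⟩ :=
    fun e => hab.2.2.1 (congrArg Subtype.val e)
  have n2 : (⟨a, hsub (by simp)⟩ : P) ≠ ⟨c, hsub (by simp)⟩ :=
    fun e => h1.2.2.1 (congrArg Subtype.val e)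
  have n3 : (⟨c, hsub (by simp)⟩ : P) ≠ ⟨b, hsub (by simp)⟩ :=
    fun e => h2.2.2.1 (congrArg Subtype.val e)
  let f : F → E := fun t => s (xt ⟨a, hsub (by simp)⟩ ⟨b, hsub (by simp)⟩ t)
  have fproj : ∀ t, ρ (f t) = opL hab t := fun t => by rw [hs, blk_xt hP n1]
  have fcl : ∀ t u, cl ρ (opL h1 t) (opL h2 u) = f (t * u) :=
    fun t u => B.toPreCover.sec_cl hs n1 n2 n3 h1 h2 t u
  obtain ⟨g, γ, Mγ, ga, gb, gab, gbb, goth⟩ := B.toPreCover.exists_diag hab hk0
  have gz := B.diag_fix hab goth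
  have hcfix : ∀ {c' : ι}, (c' = c ∨ c' = H.bar c) → ∀ x : F, ∀ y : E,
      ∀ hc' : H.SOK z c', ρ y = opS hc' x → ∀ t, Commute (f t) y := by
    intro c' hcc x y hc' hy t
    have hca : c' ≠ a := by
      rcases hcc with rfl | rfl
      exacts [h1.2.2.1.symm, k1.2.2.1.symm]
    have hcb : c' ≠ b := by
      rcases hcc with rfl | rfl
      exacts [h2.2.2.1, k2.2.2.1]
    have hca' : c' ≠ H.bar a := by
      rcases hcc with rfl | rfl
      exacts [(lok_comm H h1).2.2.2, (lok_comm H k1).2.2.2]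
    have hcb' : c' ≠ H.bar b := by
      rcases hcc with rfl | rfl
      exacts [h2.2.2.2, k2.2.2.2]
    refine B.toPreCover.comm_kill f (fun t u => ?_) y (fun t => ?_) g hk (fun t => ?_) ?_ t
    · rw [fproj, fproj, fproj, opL_add]
    · rw [fproj, hy]
      exact (B.opS_long_commute rfl hc' hab hcb.symm
        (fun e => hca' (by rw [e, H.bar_bar])) x t).symm
    · rw [fproj, fproj, Mγ.conj_opL hab, ga, gb]
      show opL hab (t * k / k⁻¹) = _
      rw [div_inv_eq_mul, mul_assoc, mul_comm]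
    · rw [hy, Mγ.conj_opS hc' (by rw [gz, one_mul]), gz]
      simp only [goth c' hca hcb hca' hcb', mul_one, id_eq]
  have hc : H.SOK z c := B.sok h1.2.1
  have hc' : H.SOK z (H.bar c) := B.sok k1.2.1
  obtain ⟨p, hp⟩ := B.memS c hc 1
  obtain ⟨p', hp'⟩ := B.memS _ hc' 1
  have hW : Commute (f t) (p * p' * p) :=
    ((hcfix (Or.inl rfl) 1 p hc hp t).mul_right (hcfix (Or.inr rfl) 1 p' hc' hp' t)).mul_right
      (hcfix (Or.inl rfl) 1 p hc hp t)
  obtain ⟨c1, c2, c3⟩ := sok_ne hc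
  let π : ι → ι := fun i => if i = c then H.bar c else if i = H.bar c then c else i
  let δ : ι → F := fun i => if i = c ∨ i = H.bar c ∨ i = z then -1 else 1
  have pa : π a = a := by
    simp [π, h1.2.2.1, k1.2.2.1]
  have pb : π b = b := by
    simp [π, h2.2.2.1.symm, k2.2.2.1.symm]
  have pc : π c = H.bar c := by simp [π]
  have da : δ a = 1 := by simp [δ, h1.2.2.1, k1.2.2.1, (B.z_ne hab.1).1.symm]
  have db : δ b = 1 := by simp [δ, h2.2.2.1.symm, k2.2.2.1.symm, (B.z_ne hab.2.1).1.symm]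
  have dc : δ c = -1 := by simp [δ]
  have MW : Mono H (ρ (p * p' * p)) π δ := by
    refine ⟨Function.Involutive.injective fun i => ?_, fun i => ?_, fun i => ?_, fun i => ?_,
      fun i hi => ?_⟩
    · by_cases i1 : i = c
      · subst i1; simp [π, c3]
      by_cases i2 : i = H.bar c
      · subst i2; simp [π, c3]
      simp [π, i1, i2]
    · by_cases i1 : i = c
      · subst i1; simp [π, c3, H.bar_bar]
      by_cases i2 : i = H.bar c
      · subst i2; simp [π, c3, H.bar_bar]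
      have j1 : H.bar i ≠ c := fun e => i2 (by rw [← e, H.bar_bar])
      have j2 : H.bar i ≠ H.bar c := fun e => i1 (H.bar_inj e)
      simp [π, i1, i2, j1, j2]
    · rw [map_mul, map_mul, hp, hp', mulVec_glMul, mulVec_glMul]
      simp only [opS_mulVec, sMap_apply, H.bar_bar, Pi.add_apply, Pi.single_eq_same,
        Pi.single_eq_of_ne c1, Pi.single_eq_of_ne c2, Pi.single_eq_of_ne c1.symm,
        Pi.single_eq_of_ne c2.symm, Pi.single_eq_of_ne c3, Pi.single_eq_of_ne c3.symm, add_zero]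
      funext j
      simp only [π, δ, Pi.add_apply, Pi.single_apply]
      by_cases i1 : i = c
      · subst i1
        by_cases j1 : j = i
        · subst j1; simp [c1, c2, c1.symm, c2.symm, c3, c3.symm]; try ring
        by_cases j2 : j = H.bar i
        · subst j2; simp [c1, c2, c1.symm, c2.symm, c3, c3.symm]; try ring
        by_cases j3 : j = z
        · subst j3; simp [c1, c2, c1.symm, c2.symm, c3, c3.symm]; try ring
        simp [j1, j2, j3, c1, c2, c1.symm, c2.symm, c3, c3.symm]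
      by_cases i2 : i = H.bar c
      · subst i2
        by_cases j1 : j = c
        · subst j1; simp [c1, c2, c1.symm, c2.symm, c3, c3.symm]; try ring
        by_cases j2 : j = H.bar c
        · subst j2; simp [c1, c2, c1.symm, c2.symm, c3, c3.symm]; try ring
        by_cases j3 : j = z
        · subst j3; simp [c1, c2, c1.symm, c2.symm, c3, c3.symm]; try ring
        simp [j1, j2, j3, c1, c2, c1.symm, c2.symm, c3, c3.symm]
      by_cases i3 : i = z
      · subst i3
        by_cases j1 : j = c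
        · subst j1; simp [c1, c2, c1.symm, c2.symm, c3, c3.symm]; try ring
        by_cases j2 : j = H.bar c
        · subst j2; simp [c1, c2, c1.symm, c2.symm, c3, c3.symm]; try ring
        by_cases j3 : j = i
        · subst j3; simp [c1, c2, c1.symm, c2.symm, c3, c3.symm]; try ring
        simp [j1, j2, j3, c1, c2, c1.symm, c2.symm]
      simp [i1, i2, i3, Ne.symm i1, Ne.symm i2, Ne.symm i3]
    · simp only [δ]; split_ifs <;> simp
    · by_cases i1 : i = c
      · subst i1; simp [δ]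
      by_cases i2 : i = H.bar c
      · subst i2; simp [δ, H.bar_bar]
      have i3 : i ≠ z := fun e => hi (by rw [e, B.fix])
      have j1 : H.bar i ≠ c := fun e => i2 (by rw [← e, H.bar_bar])
      have j2 : H.bar i ≠ H.bar c := fun e => i1 (H.bar_inj e)
      have j3 : H.bar i ≠ z := fun e => i3 (H.bar_inj (e.trans B.fix.symm))
      simp [δ, i1, i2, i3, j1, j2, j3]
  obtain ⟨x, hx⟩ := B.mem _ _ h1 t
  obtain ⟨y, hy⟩ := B.mem _ _ h2 1
  have e1 : cl ρ (opL h1 t) (opL h2 1) = cl ρ (opL k1 (-t)) (opL k2 (-1)) := by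
    set w := p * p' * p
    have hcm : w * cl ρ (opL h1 t) (opL h2 1) * w⁻¹ = cl ρ (opL h1 t) (opL h2 1) := by
      rw [fcl, mul_one, ← hW.eq, mul_inv_cancel_right]
    have hx' : ρ (w * x * w⁻¹) = opL k1 (-t) := by
      rw [map_mul, map_mul, map_inv, hx, MW.conj_opL h1, da, dc]
      simp only [pa, pc, div_neg, div_one, mul_one]
    have hy' : ρ (w * y * w⁻¹) = opL k2 (-1) := by
      rw [map_mul, map_mul, map_inv, hy, MW.conj_opL h2, db, dc]
      simp only [pb, pc, div_one, one_mul]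
    rw [B.toPreCover.cl_eq hx' hy', ← conjugate_commutatorElement, ← B.toPreCover.cl_eq hx hy, hcm]
  rw [e1]
  exact B.toPreCover.cl_indep_near hab k1 k2 k1 k2 (bar_ne h2.1).symm (neg_mul_neg t 1)

theorem toCover : Cover H ρ := by
  rcases B.sep with h4 | ⟨k, hk0, hk⟩
  · exact B.toPreCover.toCover h4
  · exact ⟨B.toPreCover, fun hab h1 h2 k1 k2 t => B.flip_of_sep hab h1 h2 k1 k2 t hk0 hk⟩

/-- a torus element separating a short root from a long root not involving it -/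
theorem exists_sep {a b c : ι} (h : H.LOK b c) (ha : H.bar a ≠ a) (ab : a ≠ b) (ab' : a ≠ H.bar b)
    (ac : a ≠ c) (ac' : a ≠ H.bar c) :
    ∃ (g : E) (γ : ι → F), Mono H (ρ g) id γ ∧ γ z = 1 ∧
      ((γ a = 1 ∧ γ b / γ c ≠ 1) ∨ (γ a ≠ 1 ∧ γ b / γ c = 1)) := by
  rcases B.sep with h4 | ⟨k, hk0, hk⟩
  · obtain ⟨e, he, ea, ea', eb, eb', ec, ec'⟩ := h4 a b c
    have hae : H.LOK a e := ⟨ha, he, ea.symm, fun x => ea' (by rw [x, H.bar_bar])⟩
    obtain ⟨g, γ, M, g1, -, -, -, g5⟩ :=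
      B.toPreCover.exists_diag hae (neg_ne_zero.2 (one_ne_zero (α := F)))
    have hba : ∀ {x : ι}, a ≠ H.bar x → x ≠ H.bar a := fun h e => h (by rw [e, H.bar_bar])
    have hbe : ∀ {x : ι}, e ≠ H.bar x → x ≠ H.bar e := fun h f => h (by rw [f, H.bar_bar])
    refine ⟨g, γ, M, B.diag_fix hae g5, Or.inr ⟨fun f => B.two ?_, ?_⟩⟩
    · rw [g1] at f; linear_combination -f
    · rw [g5 b ab.symm eb.symm (hba ab') (hbe eb'), g5 c ac.symm ec.symm (hba ac') (hbe ec'),
        div_one]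
  · obtain ⟨g, γ, M, g1, g2, -, -, g5⟩ := B.toPreCover.exists_diag h hk0
    refine ⟨g, γ, M, B.diag_fix h g5, Or.inl ⟨g5 a ab ac ab' ac', ?_⟩⟩
    rw [g1, g2, div_inv_eq_mul]
    exact hk

end BPre

variable (H) in
/-- canonical lift of a short root element -/
noncomputable def slift (ρ : E →* GL ι F) (z a : ι) (t : F) : E :=
  open scoped Classical in
  if h : (∃ b, H.LOK a b) ∧ H.SOK z a then
    ⁅hh H ρ a h.1.choose (-1), Function.invFun ρ (opS h.2 (-(t / 2)))⁆
  else 1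

namespace BPre

variable {z : ι} (B : BPre H ρ z)
include B

/-- a chosen preimage -/
theorem sigma_spec {a : ι} (ha : H.SOK z a) (t : F) :
    ρ (Function.invFun ρ (opS ha t)) = opS ha t :=
  Function.invFun_eq (f := ρ) (B.memS a ha t)

theorem exists_flip {a b : ι} (h : H.LOK a b) :
    ∃ γ, Mono H (ρ (hh H ρ a b (-1))) id γ ∧ γ a = -1 ∧ γ b = -1 ∧ γ (H.bar b) = -1 ∧ γ z = 1 ∧
      ∀ i, i ≠ a → i ≠ b → i ≠ H.bar a → i ≠ H.bar b → γ i = 1 := by
  obtain ⟨γ, M, u1, u2, u3, u4, u5⟩ := B.toCover.hh_mono h (neg_ne_zero.2 (one_ne_zero (α := F)))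
  exact ⟨γ, M, u1, by rw [u2, inv_neg, inv_one], u4, B.diag_fix h u5, u5⟩

theorem lok_third (a : ι) (ha : H.bar a ≠ a) (b : ι) :
    ∃ e, H.LOK a e ∧ e ≠ b ∧ e ≠ H.bar b := by
  obtain ⟨e, he, h1, h2, h3, h4⟩ := B.third a b
  exact ⟨e, ⟨ha, he, h1.symm, fun f => h2 (by rw [f, H.bar_bar])⟩, h3, h4⟩

theorem sigma_long {a d : ι} (h : H.LOK a d) (ha : H.SOK z a) (s y : F) :
    Commute (Function.invFun ρ (opS ha s)) (lift H ρ a d y) := by
  obtain ⟨γ, M, ga, gd, -, gz, -⟩ := B.exists_flip h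
  refine B.toPreCover.comm_kill (fun s => Function.invFun ρ (opS ha s))
    (fun t u => by simp only [B.sigma_spec]; rw [opS_add]) _ (fun t => ?_)
    (hh H ρ a d (-1)) (k := (-1 : F)) (fun e => B.two (by linear_combination -e)) (fun t => ?_) ?_ s
  · rw [B.sigma_spec, B.toCover.proj h]
    exact B.opS_long_commute rfl ha h h.2.2.1.symm h.1.symm t y
  · simp only [B.sigma_spec]
    rw [M.conj_opS ha (by rw [gz, one_mul]), ga, gz]
    simp only [mul_one, neg_one_mul, mul_neg_one, id_eq]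
  · rw [B.toCover.proj h, M.conj_opL h, ga, gd, mul_div_assoc, div_self (neg_ne_zero.2 one_ne_zero),
      mul_one]

end BPre

end CfsgLib.SpinCover
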