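import Cfsg.Agent.Lib.SpinCover.Short

/-!
Relations between lifted short and long root elements.
-/

set_option autoImplicit false
set_option linter.unusedSectionVars false

namespace CfsgLib.SpinCover

open Matrix CfsgLib.ChevClassical CfsgLib.SLCover HypForm
open scoped commutatorElement

variable {ι : Type} [Fintype ι] [DecidableEq ι] {F : Type*} [Field F]
variable {H : HypForm ι F}

theorem opS_zero' {z a : ι} (h : H.SOK z a) : opS h (0 : F) = 1 := by
  refine glExt fun v => ?_
  rw [opS_mulVec, mulVec_glOne, sMap_zero, LinearMap.id_apply]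

theorem opS_inv {z a : ι} (h : H.SOK z a) (t : F) : (opS h t)⁻¹ = opS h (-t) :=
  inv_eq_of_mul_eq_one_right (by rw [opS_add, add_neg_cancel, opS_zero'])

variable [Fintype F] {E : Type*} [Group E] [Finite E] {ρ : E →* GL ι F}

theorem PreCover.commute_congr (C : PreCover H ρ) {x x' y : E} (hx : ρ x = ρ x')
    (h : Commute x' y) : Commute x y := by
  rw [← commutatorElement_eq_one_iff_commute] at h ⊢
  rw [C.comm_congr hx rfl, h]

theorem PreCover.central_of_eq (C : PreCover H ρ) {x y : E} (h : ρ x = ρ y) :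
    y⁻¹ * x ∈ Subgroup.center E :=
  C.central (by rw [MonoidHom.mem_ker, map_mul, map_inv, h, inv_mul_cancel])

namespace BPre

variable {z : ι} (B : BPre H ρ z)
include B

theorem lok_bar {a d : ι} (h : H.LOK a d) : H.LOK d (H.bar a) := lok_barRight (lok_comm H h)

theorem sigma_commute {a : ι} (ha : H.SOK z a) (s u : F) :
    Commute (Function.invFun ρ (opS ha s)) (Function.invFun ρ (opS ha u)) := by
  obtain ⟨d, h, -, -⟩ := B.lok_third a ha.2 a
  have hd : H.SOK z d := B.sok h.2.1
  have hL := B.lok_bar h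
  set X := Function.invFun ρ (opS ha s)
  set D := Function.invFun ρ (opS hd u)
  set R := lift H ρ a d 1
  set L := lift H ρ d (H.bar a) (u ^ 2)
  set L2 := lift H ρ d (H.bar a) (2 * u * s)
  have hW : ρ (D⁻¹ * L⁻¹ * (R * D * R⁻¹)) = ρ (Function.invFun ρ (opS ha u)) := by
    simp only [D, R, L, map_mul, map_inv, B.sigma_spec, B.toCover.proj h, B.toCover.proj hL]
    rw [opL_conj_opS hd ha h hL, mul_one, mul_one]
    group
  refine (B.toPreCover.commute_congr hW.symm ?_).symm
  obtain ⟨c, hc, hXD⟩ : ∃ c ∈ Subgroup.center E, X * D * X⁻¹ = L2 * D * c := by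
    refine ⟨(L2 * D)⁻¹ * (X * D * X⁻¹), B.toPreCover.central_of_eq ?_, by group⟩
    simp only [X, D, L2, map_mul, map_inv, B.sigma_spec, B.toCover.proj hL]
    rw [mul_inv_eq_iff_eq_mul, opS_mul_opS ha hd hL]
  have h1 : Commute X R := B.sigma_long h ha s 1
  have h2 : Commute X L := by
    have e : L = lift H ρ a (H.bar d) (-(u ^ 2)) := by
      have := B.toCover.lift_symm (lok_barRight h) (u ^ 2)
      rwa [H.bar_bar] at this
    rw [e]
    exact B.sigma_long (lok_barRight h) ha s _
  have h3 : Commute L2 L := by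
    show _ = _
    simp only [L, L2]
    rw [← B.toCover.lift_add hL, ← B.toCover.lift_add hL, add_comm]
  have h4 : Commute L2 R := by
    have e : L2 = lift H ρ a (H.bar d) (-(2 * u * s)) := by
      have := B.toCover.lift_symm (lok_barRight h) (2 * u * s)
      rwa [H.bar_bar] at this
    rw [e]
    exact (B.toCover.commute_bar h 1 _).symm
  show _ = _
  have key : X * (D⁻¹ * L⁻¹ * (R * D * R⁻¹)) * X⁻¹ = D⁻¹ * L⁻¹ * (R * D * R⁻¹) := by
    have hc' := Subgroup.mem_center_iff.1 hc
    calc X * (D⁻¹ * L⁻¹ * (R * D * R⁻¹)) * X⁻¹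
        = (X * D * X⁻¹)⁻¹ * (X * L⁻¹) * X⁻¹ * ((X * R) * D * (R⁻¹ * X⁻¹)) := by group
      _ = (X * D * X⁻¹)⁻¹ * (L⁻¹ * X) * X⁻¹ * ((R * X) * D * (X⁻¹ * R⁻¹)) := by
          rw [h2.inv_right.eq, h1.eq, show R⁻¹ * X⁻¹ = X⁻¹ * R⁻¹ from (h1.inv_inv.eq).symm]
      _ = (X * D * X⁻¹)⁻¹ * L⁻¹ * (R * (X * D * X⁻¹) * R⁻¹) := by group
      _ = c⁻¹ * (D⁻¹ * (L2⁻¹ * L⁻¹) * R * L2 * D) * (c * R⁻¹) := by rw [hXD]; group
      _ = c⁻¹ * (D⁻¹ * (L⁻¹ * L2⁻¹) * R * L2 * D) * (R⁻¹ * c) := by
          rw [h3.inv_inv.eq, hc' R⁻¹]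
      _ = c⁻¹ * (D⁻¹ * L⁻¹ * (L2⁻¹ * (R * L2)) * D * R⁻¹ * c) := by group
      _ = c⁻¹ * (D⁻¹ * L⁻¹ * R * D * R⁻¹ * c) := by rw [← h4.eq]; group
      _ = c⁻¹ * c * (D⁻¹ * L⁻¹ * (R * D * R⁻¹)) := by
          rw [hc' (D⁻¹ * L⁻¹ * R * D * R⁻¹)]; group
      _ = _ := by group
  exact ((mul_inv_eq_iff_eq_mul).1 key).symm

theorem slift_proj {a : ι} (ha : H.SOK z a) (t : F) : ρ (slift H ρ z a t) = opS ha t := by
  obtain ⟨b, hb, -, -⟩ := B.lok_third a ha.2 a
  have hex : (∃ b, H.LOK a b) ∧ H.SOK z a := ⟨⟨b, hb⟩, ha⟩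
  obtain ⟨γ, M, ga, -, -, gz, -⟩ := B.exists_flip hex.1.choose_spec
  rw [slift, dif_pos hex, map_commutatorElement, commutatorElement_def, B.sigma_spec,
    M.conj_opS hex.2 (by rw [gz, one_mul]), ga, gz]
  simp only [id_eq, mul_one, mul_neg_one, neg_neg]
  rw [opS_inv, neg_neg, opS_add]
  congr 1
  field_simp [B.two]
  ring

theorem slift_commute {a : ι} (ha : H.SOK z a) (s u : F) :
    Commute (slift H ρ z a s) (slift H ρ z a u) :=
  B.toPreCover.commute_congr (x' := Function.invFun ρ (opS ha s))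
    (by rw [B.slift_proj ha, B.sigma_spec])
    (B.toPreCover.commute_congr (x' := Function.invFun ρ (opS ha u))
      (by rw [B.slift_proj ha, B.sigma_spec]) (B.sigma_commute ha u s)).symm

theorem slift_add {a : ι} (ha : H.SOK z a) (t u : F) :
    slift H ρ z a (t + u) = slift H ρ z a t * slift H ρ z a u := by
  obtain ⟨b, hb, -, -⟩ := B.lok_third a ha.2 a
  have hex : (∃ b, H.LOK a b) ∧ H.SOK z a := ⟨⟨b, hb⟩, ha⟩
  have hp := fun s : F => B.slift_proj ha s
  simp only [slift, dif_pos hex] at hp ⊢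
  set g := hh H ρ a hex.1.choose (-1)
  set x := Function.invFun ρ (opS ha (-(t / 2)))
  set y := Function.invFun ρ (opS ha (-(u / 2)))
  have hxy : Commute x ⁅g, y⁆ := (B.toPreCover.commute_congr (x' := Function.invFun ρ (opS ha u))
    (by rw [hp u, B.sigma_spec]) (B.sigma_commute ha u (-(t / 2)))).symm
  rw [B.toPreCover.comm_congr (a' := g) (b' := x * y) rfl (by
    simp only [x, y, map_mul, B.sigma_spec]; rw [opS_add]; congr 1; ring)]
  calc ⁅g, x * y⁆ = ⁅g, x⁆ * (x * ⁅g, y⁆ * x⁻¹) := by simp only [commutatorElement_def]; group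
    _ = _ := by rw [hxy.eq, mul_inv_cancel_right]

theorem slift_zero {a : ι} (ha : H.SOK z a) : slift H ρ z a 0 = 1 := by
  have := B.slift_add ha 0 0
  rw [add_zero] at this
  exact left_eq_mul.1 this

theorem slift_neg {a : ι} (ha : H.SOK z a) (t : F) :
    slift H ρ z a (-t) = (slift H ρ z a t)⁻¹ := by
  symm
  apply inv_eq_of_mul_eq_one_right
  rw [← B.slift_add ha, add_neg_cancel, B.slift_zero ha]

/-- conjugation by elements with diagonal image -/
theorem slift_diag {g : E} {γ : ι → F} (M : Mono H (ρ g) id γ) {a : ι} (ha : H.SOK z a)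
    (hz : γ z * γ z = 1) (t : F) :
    g * slift H ρ z a t * g⁻¹ = slift H ρ z a (t * γ a * γ z) := by
  obtain ⟨b, hb, -, -⟩ := B.lok_third a ha.2 a
  have hex : (∃ b, H.LOK a b) ∧ H.SOK z a := ⟨⟨b, hb⟩, ha⟩
  obtain ⟨δ, N, -⟩ := B.exists_flip hex.1.choose_spec
  simp only [slift, dif_pos hex]
  rw [conjugate_commutatorElement]
  refine B.toPreCover.comm_congr ?_ ?_
  · rw [map_mul, map_mul, map_inv, mul_inv_eq_iff_eq_mul]
    exact (M.mul N).ext_single (N.mul M) (fun _ => rfl) fun i => mul_comm _ _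
  · rw [map_mul, map_mul, map_inv, B.sigma_spec, M.conj_opS ha hz, B.sigma_spec]
    simp only [id_eq]
    congr 1
    ring

/-- an additive lift of a short root equivariant under a sign change is the canonical one -/
theorem slift_unique {a : ι} (ha : H.SOK z a) (f : F → E) (hadd : ∀ t u, f (t + u) = f t * f u)
    (hproj : ∀ t, ρ (f t) = opS ha t) {G : E} {γ : ι → F} (M : Mono H (ρ G) id γ) (ga : γ a = -1)
    (gz : γ z = 1) (hequi : ∀ t, G * f t * G⁻¹ = f (-t)) (t : F) : f t = slift H ρ z a t := by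
  have hcen : ∀ t, f t * (slift H ρ z a t)⁻¹ ∈ Subgroup.center E := fun t => B.central (by
    rw [MonoidHom.mem_ker, map_mul, map_inv, hproj, B.slift_proj ha, mul_inv_cancel])
  refine mul_inv_eq_one.1 (kill (fun t => f t * (slift H ρ z a t)⁻¹) (fun t u => ?_)
    (k := (-1 : F)) (fun e => B.two (by linear_combination -e)) (fun t => ?_) t)
  · rw [hadd, B.slift_add ha, _root_.mul_inv_rev,
      show f t * f u * ((slift H ρ z a u)⁻¹ * (slift H ρ z a t)⁻¹) =
        f t * (f u * (slift H ρ z a u)⁻¹) * (slift H ρ z a t)⁻¹ by group,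
      Subgroup.mem_center_iff.1 (hcen u) (f t), mul_assoc,
      ← Subgroup.mem_center_iff.1 (hcen u) (f t * (slift H ρ z a t)⁻¹)]
  · calc f (-1 * t) * (slift H ρ z a (-1 * t))⁻¹
        = (G * f t * G⁻¹) * (G * slift H ρ z a t * G⁻¹)⁻¹ := by
          rw [hequi, B.slift_diag M ha (by rw [gz, one_mul]), ga, gz, mul_one, mul_neg_one, neg_one_mul]
      _ = G * (f t * (slift H ρ z a t)⁻¹) * G⁻¹ := by group
      _ = _ := by rw [Subgroup.mem_center_iff.1 (hcen t) G, mul_inv_cancel_right]

/-- elements with monomial image permute the short lifts -/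
theorem conj_slift {g : E} {π : ι → ι} {γ : ι → F} (M : Mono H (ρ g) π γ) {a : ι}
    (ha : H.SOK z a) (hz : γ z * γ z = 1) (t : F) :
    g * slift H ρ z a t * g⁻¹ = slift H ρ z (π a) (t * γ a * γ z) := by
  have hk : γ a * γ z ≠ 0 := mul_ne_zero (M.ne_zero a) (M.ne_zero z)
  have hb' := M.sok ha
  obtain ⟨e, he, -, -⟩ := B.lok_third (π a) hb'.2 a
  obtain ⟨δ, N, da, -, -, dz, -⟩ := B.exists_flip he
  set G := hh H ρ (π a) e (-1)
  have hG' : Mono H (ρ (g⁻¹ * G * g)) id fun i => δ (π i) := by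
    refine ⟨Function.injective_id, fun _ => rfl, fun i => ?_, fun i => N.ne_zero _, fun i hi => ?_⟩
    · refine glMulVec_injective (ρ g) ?_
      show (ρ g : Matrix ι ι F) *ᵥ _ = (ρ g : Matrix ι ι F) *ᵥ _
      rw [← mulVec_glMul, ← map_mul, show g * (g⁻¹ * G * g) = G * g by group, map_mul, mulVec_glMul,
        M.single, N.mulVec_single, M.mulVec_single, mul_comm]
      rfl
    · rw [M.bar]
      exact N.unit _ fun e => hi (M.inj ((M.bar i).trans e))
  have key := B.slift_unique hb' (fun u => g * slift H ρ z a (u / (γ a * γ z)) * g⁻¹)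
    (fun u v => by rw [add_div, B.slift_add ha]; group)
    (fun u => by
      rw [map_mul, map_mul, map_inv, B.slift_proj ha, M.conj_opS ha hz]
      congr 1
      field_simp [M.ne_zero a, M.ne_zero z]) N da dz
    (fun u => by
      calc G * (g * slift H ρ z a (u / (γ a * γ z)) * g⁻¹) * G⁻¹
          = g * ((g⁻¹ * G * g) * slift H ρ z a (u / (γ a * γ z)) * (g⁻¹ * G * g)⁻¹) * g⁻¹ := by
            group
        _ = _ := by
          rw [B.slift_diag hG' ha (by rw [M.fix B.fix, dz, one_mul]), M.fix B.fix, dz, da, mul_one,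
            mul_neg_one, neg_div])
    (t * γ a * γ z)
  have e1 : t * γ a * γ z / (γ a * γ z) = t := by rw [mul_assoc, mul_div_assoc, div_self hk, mul_one]
  rwa [e1] at key

/-- short and long roots with no sum -/
theorem slift_long {a d : ι} (ha : H.SOK z a) (h : H.LOK a d) (s y : F) :
    Commute (slift H ρ z a s) (lift H ρ a d y) :=
  B.toPreCover.commute_congr (x' := Function.invFun ρ (opS ha s))
    (by rw [B.slift_proj ha, B.sigma_spec]) (B.sigma_long h ha s y)

theorem slift_long' {a d : ι} (ha : H.SOK z a) (h : H.LOK d (H.bar a)) (s y : F) :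
    Commute (slift H ρ z a s) (lift H ρ d (H.bar a) y) := by
  have h' : H.LOK a (H.bar d) := by
    have := LOK.symm H h
    rwa [H.bar_bar] at this
  have := B.toCover.lift_symm h' y
  rw [H.bar_bar] at this
  rw [this]
  exact B.slift_long ha h' s _

/-- short and long roots with no index in common -/
theorem slift_disjoint {a b c : ι} (ha : H.SOK z a) (h : H.LOK b c) (ab : a ≠ b)
    (ab' : a ≠ H.bar b) (ac : a ≠ c) (ac' : a ≠ H.bar c) (s y : F) :
    Commute (slift H ρ z a s) (lift H ρ b c y) := by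
  have himg : ∀ s y, Commute (ρ (slift H ρ z a s)) (ρ (lift H ρ b c y)) := fun s y => by
    rw [B.slift_proj ha, B.toCover.proj h]
    exact B.opS_long_commute rfl ha h ac.symm (fun e => ab' (by rw [e, H.bar_bar])) s y
  obtain ⟨g, γ, M, gz, hor⟩ := B.exists_sep h ha.2 ab ab' ac ac'
  rcases hor with ⟨g1, g2⟩ | ⟨g1, g2⟩
  · refine (B.toPreCover.comm_kill (fun y => lift H ρ b c y)
      (fun t u => by rw [B.toCover.lift_add h, map_mul]) _ (fun t => (himg s t).symm) g g2
      (fun t => ?_) ?_ y).symm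
    · rw [B.toCover.proj h, M.conj_opL h, B.toCover.proj h, mul_div_assoc, mul_comm t]
    · rw [B.slift_proj ha, M.conj_opS ha (by rw [gz, one_mul]), g1, gz, mul_one, mul_one]
  · refine B.toPreCover.comm_kill (fun s => slift H ρ z a s)
      (fun t u => by rw [B.slift_add ha, map_mul]) _ (fun t => himg t y) g g1 (fun t => ?_) ?_ s
    · rw [B.slift_proj ha, M.conj_opS ha (by rw [gz, one_mul]), B.slift_proj ha, gz, mul_one,
        mul_comm t]
    · rw [B.toCover.proj h, M.conj_opL h, mul_div_assoc, g2, mul_one]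

/-- two different short roots -/
theorem slift_short {a d : ι} (ha : H.SOK z a) (hd : H.SOK z d) (h : H.LOK d (H.bar a)) (s x : F) :
    slift H ρ z a s * slift H ρ z d x =
      lift H ρ d (H.bar a) (2 * x * s) * slift H ρ z d x * slift H ρ z a s := by
  obtain ⟨e, he, ea, ea'⟩ := B.lok_third d hd.2 a
  obtain ⟨γ, M, gd, -, -, gz, g5⟩ := B.exists_flip he
  have had : a ≠ d := fun e => h.2.2.2 (by rw [e, H.bar_bar])
  have had' : a ≠ H.bar d := fun e => h.2.2.1 (by rw [e, H.bar_bar])
  have ga : γ a = 1 := g5 a had ea.symm had' fun f => ea' (by rw [f, H.bar_bar])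
  have ga' : γ (H.bar a) = 1 := by
    have := M.unit a ha.2
    rwa [ga, one_mul] at this
  set S := slift H ρ z a s with hS
  set P := fun x : F => lift H ρ d (H.bar a) (2 * x * s) * slift H ρ z d x * S with hP
  have hcen : ∀ x, (P x)⁻¹ * (S * slift H ρ z d x) ∈ Subgroup.center E := fun x =>
    B.toPreCover.central_of_eq (by
      simp only [P, S, map_mul, B.slift_proj ha, B.slift_proj hd, B.toCover.proj h]
      exact opS_mul_opS ha hd h s x)
  have key := kill (fun x => (P x)⁻¹ * (S * slift H ρ z d x)) (fun x x' => ?_) (k := (-1 : F))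
    (fun e => B.two (by linear_combination -e)) (fun x => ?_) x
  · exact (inv_mul_eq_one.1 key).symm
  · have hc : Commute (slift H ρ z d x) (lift H ρ d (H.bar a) (2 * x' * s)) := B.slift_long hd h _ _
    obtain ⟨b, hb, eb⟩ : ∃ b ∈ Subgroup.center E, S * slift H ρ z d x = P x * b :=
      ⟨_, hcen x, by group⟩
    obtain ⟨b', hb', eb'⟩ : ∃ b ∈ Subgroup.center E, S * slift H ρ z d x' = P x' * b :=
      ⟨_, hcen x', by group⟩
    have hbc := Subgroup.mem_center_iff.1 hb
    have e2 : S * slift H ρ z d (x + x') = P (x + x') * (b * b') := by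
      calc S * slift H ρ z d (x + x') = (S * slift H ρ z d x) * slift H ρ z d x' := by
            rw [B.slift_add hd, mul_assoc]
        _ = P x * slift H ρ z d x' * b := by rw [eb, mul_assoc, ← hbc, ← mul_assoc]
        _ = lift H ρ d (H.bar a) (2 * x * s) * slift H ρ z d x * (S * slift H ρ z d x') * b := by
            simp only [P, mul_assoc]
        _ = lift H ρ d (H.bar a) (2 * x * s) *
              (slift H ρ z d x * lift H ρ d (H.bar a) (2 * x' * s)) * slift H ρ z d x' * S *
              (b' * b) := by rw [eb']; simp only [P, mul_assoc]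
        _ = (lift H ρ d (H.bar a) (2 * x * s) * lift H ρ d (H.bar a) (2 * x' * s)) *
              (slift H ρ z d x * slift H ρ z d x') * S * (b * b') := by
            rw [hc.eq, hbc b']; simp only [mul_assoc]
        _ = _ := by
            rw [← B.slift_add hd, ← B.toCover.lift_add h]
            simp only [P]
            congr 4
            ring
    show (P (x + x'))⁻¹ * (S * slift H ρ z d (x + x')) =
      (P x)⁻¹ * (S * slift H ρ z d x) * ((P x')⁻¹ * (S * slift H ρ z d x'))
    rw [e2, eb, eb', inv_mul_cancel_left, inv_mul_cancel_left, inv_mul_cancel_left]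
  · set g := hh H ρ d e (-1)
    have cS : g * S * g⁻¹ = S := by
      rw [hS, B.slift_diag M ha (by rw [gz, one_mul]), ga, gz, mul_one, mul_one]
    have cD : g * slift H ρ z d x * g⁻¹ = slift H ρ z d (-x) := by
      rw [B.slift_diag M hd (by rw [gz, one_mul]), gd, gz, mul_one, mul_neg_one]
    have cP : g * P x * g⁻¹ = P (-x) := by
      calc g * P x * g⁻¹ = (g * lift H ρ d (H.bar a) (2 * x * s) * g⁻¹) *
            (g * slift H ρ z d x * g⁻¹) * (g * S * g⁻¹) := by simp only [P]; group
        _ = _ := by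
          rw [cS, cD, B.toCover.conj_lift M h, gd, ga']
          simp only [P, id_eq, div_one, mul_one, mul_neg_one, neg_mul, mul_neg]
    show (P (-1 * x))⁻¹ * (S * slift H ρ z d (-1 * x)) = _
    rw [neg_one_mul, ← cP, ← cD]
    calc (g * P x * g⁻¹)⁻¹ * (S * (g * slift H ρ z d x * g⁻¹))
        = (g * P x * g⁻¹)⁻¹ * ((g * S * g⁻¹) * (g * slift H ρ z d x * g⁻¹)) := by rw [cS]
      _ = g * ((P x)⁻¹ * (S * slift H ρ z d x)) * g⁻¹ := by group
      _ = _ := by rw [Subgroup.mem_center_iff.1 (hcen x) g, mul_inv_cancel_right]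

/-- conjugate of a short lift by a long one -/
theorem lift_conj_slift {a d : ι} (ha : H.SOK z a) (hd : H.SOK z d) (hR : H.LOK d a) (x y : F) :
    lift H ρ d a y * slift H ρ z a x * (lift H ρ d a y)⁻¹ =
      lift H ρ a (H.bar d) (x ^ 2 * y) * slift H ρ z a x * slift H ρ z d (x * y) := by
  have hL := B.lok_bar hR
  obtain ⟨e, he, ea, ea'⟩ := B.lok_third d hd.2 a
  obtain ⟨γ, M, gd, -, -, gz, g5⟩ := B.exists_flip he
  have ga : γ a = 1 := g5 a hR.2.2.1.symm ea.symm
    (fun f => hR.2.2.2 (by rw [f, H.bar_bar])) fun f => ea' (by rw [f, H.bar_bar])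
  have gd' : γ (H.bar d) = -1 := by
    have := M.unit d hd.2
    rw [gd] at this
    linear_combination -this
  set S := slift H ρ z a x with hS
  set P := fun y : F => lift H ρ a (H.bar d) (x ^ 2 * y) * S * slift H ρ z d (x * y) with hP
  have hcen : ∀ y, (P y)⁻¹ * (lift H ρ d a y * S * (lift H ρ d a y)⁻¹) ∈ Subgroup.center E :=
    fun y => B.toPreCover.central_of_eq (by
      simp only [P, S, map_mul, map_inv, B.slift_proj ha, B.slift_proj hd, B.toCover.proj hR,
        B.toCover.proj hL]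
      exact opL_conj_opS ha hd hR hL x y)
  have key := kill (fun y => (P y)⁻¹ * (lift H ρ d a y * S * (lift H ρ d a y)⁻¹)) (fun y y' => ?_)
    (k := (-1 : F)) (fun e => B.two (by linear_combination -e)) (fun y => ?_) y
  · exact (inv_mul_eq_one.1 key).symm
  · set R := lift H ρ d a y
    set R' := lift H ρ d a y'
    set L' := lift H ρ a (H.bar d) (x ^ 2 * y')
    set D' := slift H ρ z d (x * y')
    have c1 : Commute R L' := by
      have e1 : L' = lift H ρ d (H.bar a) (-(x ^ 2 * y')) := by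
        have := B.toCover.lift_symm (lok_barRight hR) (x ^ 2 * y')
        rw [H.bar_bar] at this
        exact this
      rw [e1]
      exact B.toCover.commute_bar hR y _
    have c2 : Commute R D' := (B.slift_long hd hR _ _).symm
    obtain ⟨b, hb, eb⟩ : ∃ b ∈ Subgroup.center E, R * S * R⁻¹ = P y * b :=
      ⟨_, hcen y, (mul_inv_cancel_left _ _).symm⟩
    obtain ⟨b', hb', eb'⟩ : ∃ b ∈ Subgroup.center E, R' * S * R'⁻¹ = P y' * b :=
      ⟨_, hcen y', (mul_inv_cancel_left _ _).symm⟩
    have hbc := Subgroup.mem_center_iff.1 hb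
    have hbc' := Subgroup.mem_center_iff.1 hb'
    have e2 : lift H ρ d a (y + y') * S * (lift H ρ d a (y + y'))⁻¹ = P (y + y') * (b * b') := by
      calc lift H ρ d a (y + y') * S * (lift H ρ d a (y + y'))⁻¹
          = R * (R' * S * R'⁻¹) * R⁻¹ := by
            rw [B.toCover.lift_add hR, _root_.mul_inv_rev]
            simp only [R, R', mul_assoc]
        _ = R * (L' * S * D' * b') * R⁻¹ := by rw [eb']
        _ = (R * L') * S * (D' * R⁻¹) * b' := by
            calc R * (L' * S * D' * b') * R⁻¹ = R * L' * S * D' * (b' * R⁻¹) := by group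
              _ = _ := by rw [← hbc' R⁻¹]; group
        _ = (L' * R) * S * (R⁻¹ * D') * b' := by rw [c1.eq, c2.inv_left.eq]
        _ = L' * (R * S * R⁻¹) * D' * b' := by group
        _ = L' * lift H ρ a (H.bar d) (x ^ 2 * y) * S * slift H ρ z d (x * y) * (b * D') * b' := by
            rw [eb]; simp only [P, mul_assoc]
        _ = (L' * lift H ρ a (H.bar d) (x ^ 2 * y)) * S * (slift H ρ z d (x * y) * D') * (b * b') := by
            rw [← hbc D']; simp only [mul_assoc]
        _ = _ := by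
            simp only [L', D', P]
            rw [← B.slift_add hd, ← B.toCover.lift_add hL, ← mul_add, ← mul_add, add_comm y' y]
    show (P (y + y'))⁻¹ * (lift H ρ d a (y + y') * S * (lift H ρ d a (y + y'))⁻¹) =
      (P y)⁻¹ * (R * S * R⁻¹) * ((P y')⁻¹ * (R' * S * R'⁻¹))
    rw [e2, eb, eb', inv_mul_cancel_left, inv_mul_cancel_left, inv_mul_cancel_left]
  · set g := hh H ρ d e (-1)
    have cS : g * S * g⁻¹ = S := by
      rw [hS, B.slift_diag M ha (by rw [gz, one_mul]), ga, gz, mul_one, mul_one]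
    have cR : g * lift H ρ d a y * g⁻¹ = lift H ρ d a (-y) := by
      rw [B.toCover.conj_lift M hR, gd, ga, div_one, mul_neg_one]
      rfl
    have cP : g * P y * g⁻¹ = P (-y) := by
      calc g * P y * g⁻¹ = (g * lift H ρ a (H.bar d) (x ^ 2 * y) * g⁻¹) * (g * S * g⁻¹) *
            (g * slift H ρ z d (x * y) * g⁻¹) := by simp only [P]; group
        _ = _ := by
          rw [cS, B.slift_diag M hd (by rw [gz, one_mul]), gd, gz, B.toCover.conj_lift M hL, ga,
            gd', div_neg, div_one, mul_one, mul_one, mul_neg_one]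
          simp only [P, id_eq, mul_neg]
    show (P (-1 * y))⁻¹ * (lift H ρ d a (-1 * y) * S * (lift H ρ d a (-1 * y))⁻¹) = _
    rw [neg_one_mul, ← cP, ← cR]
    calc (g * P y * g⁻¹)⁻¹ * ((g * lift H ρ d a y * g⁻¹) * S * (g * lift H ρ d a y * g⁻¹)⁻¹)
        = (g * P y * g⁻¹)⁻¹ *
          ((g * lift H ρ d a y * g⁻¹) * (g * S * g⁻¹) * (g * lift H ρ d a y * g⁻¹)⁻¹) := by rw [cS]
      _ = g * ((P y)⁻¹ * (lift H ρ d a y * S * (lift H ρ d a y)⁻¹)) * g⁻¹ := by group
      _ = _ := by rw [Subgroup.mem_center_iff.1 (hcen y) g, mul_inv_cancel_right]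

end BPre

end CfsgLib.SpinCover
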