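import Cfsg.Agent.Lib.SpinCover.ShortRel

/-!
The lifted group of a short root and its negative is a quotient of SL(2).
-/

set_option autoImplicit false
set_option linter.unusedSectionVars false

namespace CfsgLib.SpinCover

open Matrix CfsgLib.ChevClassical CfsgLib.SLCover HypForm
open scoped commutatorElement

variable {F : Type*} [Field F] [Fintype F]

/-- A central extension of SL(2) generated by additive root lifts, normalised by its Weyl and torus
elements, is trivial. -/
theorem sl2_injective {D : Type*} [Group D] [Finite D]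
    (f : D →* Matrix.SpecialLinearGroup (Fin 2) F) (hsurj : Function.Surjective f)
    (hcen : f.ker ≤ Subgroup.center D) (x y : F → D) (fx : ∀ t, f (x t) = xt 0 1 t)
    (fy : ∀ t, f (y t) = xt 1 0 t) (addx : ∀ t u, x (t + u) = x t * x u)
    (gen : Subgroup.closure {g | ∃ t, g = x t ∨ g = y t} = ⊤)
    (weyl : ∀ s, (x 1 * y (-1) * x 1) * y s * (x 1 * y (-1) * x 1)⁻¹ = x (-s))
    (torus : ∀ a : F, a ≠ 0 → ∀ t,
      ((x a * y (-a⁻¹) * x a) * (x (-1) * y (-(-1 : F)⁻¹) * x (-1))) * x t *
        ((x a * y (-a⁻¹) * x a) * (x (-1) * y (-(-1 : F)⁻¹) * x (-1)))⁻¹ = x (a ^ 2 * t)) :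
    Function.Injective f := by
  classical
  have x0 : x 0 = 1 := by
    have := addx 0 0
    rw [add_zero] at this
    exact left_eq_mul.1 this
  have xinv : ∀ t, (x t)⁻¹ = x (-t) := fun t => by
    apply inv_eq_of_mul_eq_one_right
    rw [← addx, add_neg_cancel, x0]
  let φ : D →* Abelianization D := Abelianization.of
  have hφ : ∀ z : D, z ∈ commutator D ↔ φ z = 1 := fun z => by
    rw [← Abelianization.ker_of D]; rfl
  have decomp : ∀ g : D, ∃ t, φ g = φ (x t) := by
    intro g
    have hg : g ∈ Subgroup.closure {g | ∃ t, g = x t ∨ g = y t} := gen ▸ Subgroup.mem_top g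
    induction hg using Subgroup.closure_induction with
    | mem z hz =>
      obtain ⟨t, rfl | rfl⟩ := hz
      · exact ⟨t, rfl⟩
      · refine ⟨-t, ?_⟩
        rw [← weyl t]
        simp only [map_mul, map_inv]
        rw [mul_comm (φ (x 1) * φ (y (-1)) * φ (x 1)) (φ (y t)), mul_inv_cancel_right]
    | one => exact ⟨0, by rw [x0]⟩
    | mul a b _ _ iha ihb =>
      obtain ⟨t, ht⟩ := iha
      obtain ⟨u, hu⟩ := ihb
      exact ⟨t + u, by rw [addx, map_mul, map_mul, ht, hu]⟩
    | inv a _ iha =>
      obtain ⟨t, ht⟩ := iha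
      exact ⟨-t, by rw [← xinv, map_inv, map_inv, ht]⟩
  have hcomm : f.ker ≤ commutator D := by
    intro g hg
    obtain ⟨t, ht⟩ := decomp g
    by_cases h4 : 4 ≤ Fintype.card F
    · obtain ⟨a, ha, ha2⟩ := exists_sq_ne_one (F := F) h4
      rw [hφ, ht]
      have e := congrArg φ (torus a ha (t / (a ^ 2 - 1)))
      simp only [map_mul, map_inv] at e
      rw [mul_comm _ (φ (x (t / (a ^ 2 - 1)))), mul_inv_cancel_right,
        show a ^ 2 * (t / (a ^ 2 - 1)) = t + t / (a ^ 2 - 1) by
          field_simp [sub_ne_zero.2 ha2]; ring, addx, map_mul] at e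
      exact left_eq_mul.1 (e.trans (mul_comm _ _))
    · by_cases ht0 : t = 0
      · subst ht0
        rw [x0, map_one] at ht
        exact (hφ g).2 ht
      · exfalso
        have h1 : g * (x t)⁻¹ ∈ commutator D := by rw [hφ, map_mul, map_inv, ht, mul_inv_cancel]
        have := Subgroup.mem_map_of_mem f h1
        rw [map_mul, MonoidHom.mem_ker.1 hg, one_mul, map_inv, fx] at this
        apply transvection_not_mem_commutator (F := F) (by omega) ht0
        rw [← xt_eq]
        refine (inv_mem_iff).1 ?_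
        exact (Subgroup.map_commutator (⊤ : Subgroup D) ⊤ f).le.trans
          (Subgroup.commutator_mono le_top le_top) this
  refine CfsgLib.SchurSL2.injective_of_upper_preimage_comm f hsurj hcen hcomm fun a b ha hb => ?_
  have form : ∀ a : D, CfsgLib.SchurSL2.IsUpperUni (f a) →
      ∃ t, ∃ z ∈ Subgroup.center D, a = x t * z := by
    intro a ha
    obtain ⟨h00, h10⟩ := ha
    refine ⟨(f a).1 0 1, (x ((f a).1 0 1))⁻¹ * a, hcen ?_, by group⟩
    rw [MonoidHom.mem_ker, map_mul, map_inv, fx, inv_mul_eq_one]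
    apply Subtype.ext
    have hd := (f a).2
    rw [Matrix.det_fin_two, h00, h10] at hd
    ext i j
    fin_cases i <;> fin_cases j <;>
      simp_all [xt_eq, Matrix.SpecialLinearGroup.transvection_coe, Matrix.one_apply, Matrix.single]
  obtain ⟨t, z, hz, ea⟩ := form a ha
  obtain ⟨u, z', hz', eb⟩ := form b hb
  have hxx : Commute (x t) (x u) := by
    show _ = _
    rw [← addx, ← addx, add_comm]
  rw [ea, eb]
  exact ((hxx.mul_right (Subgroup.mem_center_iff.1 hz' _)).mul_left
    (Subgroup.mem_center_iff.1 hz _).symm).eq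

variable {ι : Type} [Fintype ι] [DecidableEq ι] {H : HypForm ι F}
variable {E : Type*} [Group E] [Finite E] {ρ : E →* GL ι F}

variable (H) in
/-- lifted short Weyl element -/
noncomputable def wS (ρ : E →* GL ι F) (z b : ι) (t : F) : E :=
  slift H ρ z b t * slift H ρ z (H.bar b) t⁻¹ * slift H ρ z b t

variable (H) in
/-- lifted short torus element -/
noncomputable def hS (ρ : E →* GL ι F) (z b : ι) (t : F) : E :=
  wS H ρ z b t * wS H ρ z b (-1)

namespace BPre

variable {z : ι} (B : BPre H ρ z)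
include B

/-- SL2 of a short root and the coordinates of its action -/
theorem exists_sl2S {b : ι} (hb : H.SOK z b) :
    ∃ φ : Matrix.SpecialLinearGroup (Fin 2) F →* E,
      (∀ t, φ (xt 0 1 t) = slift H ρ z b t) ∧ (∀ t, φ (xt 1 0 t) = slift H ρ z (H.bar b) (-t)) ∧
      (∀ A v, ((ρ (φ A) : Matrix ι ι F) *ᵥ v) b =
          A.1 0 0 ^ 2 * v b - 2 * A.1 0 0 * A.1 0 1 * v z - A.1 0 1 ^ 2 * v (H.bar b) ∧
        ((ρ (φ A) : Matrix ι ι F) *ᵥ v) z =
          -(A.1 0 0 * A.1 1 0) * v b + (A.1 0 0 * A.1 1 1 + A.1 0 1 * A.1 1 0) * v z +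
            A.1 0 1 * A.1 1 1 * v (H.bar b) ∧
        ((ρ (φ A) : Matrix ι ι F) *ᵥ v) (H.bar b) =
          -(A.1 1 0 ^ 2) * v b + 2 * A.1 1 0 * A.1 1 1 * v z + A.1 1 1 ^ 2 * v (H.bar b) ∧
        ∀ i, i ≠ b → i ≠ z → i ≠ H.bar b → ((ρ (φ A) : Matrix ι ι F) *ᵥ v) i = v i) := by
  classical
  have hb' : H.SOK z (H.bar b) := B.sok (bar_ne hb.2)
  obtain ⟨n1, n2, n3⟩ := sok_ne hb
  let px : F → E × Matrix.SpecialLinearGroup (Fin 2) F := fun t => (slift H ρ z b t, xt 0 1 t)
  let py : F → E × Matrix.SpecialLinearGroup (Fin 2) F :=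
    fun t => (slift H ρ z (H.bar b) (-t), xt 1 0 t)
  let D : Subgroup (E × Matrix.SpecialLinearGroup (Fin 2) F) :=
    Subgroup.closure {g | ∃ t, g = px t ∨ g = py t}
  let P : E × Matrix.SpecialLinearGroup (Fin 2) F → Prop := fun g => ∀ v,
    ((ρ g.1 : Matrix ι ι F) *ᵥ v) b =
        g.2.1 0 0 ^ 2 * v b - 2 * g.2.1 0 0 * g.2.1 0 1 * v z - g.2.1 0 1 ^ 2 * v (H.bar b) ∧
      ((ρ g.1 : Matrix ι ι F) *ᵥ v) z =
        -(g.2.1 0 0 * g.2.1 1 0) * v b + (g.2.1 0 0 * g.2.1 1 1 + g.2.1 0 1 * g.2.1 1 0) * v z +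
          g.2.1 0 1 * g.2.1 1 1 * v (H.bar b) ∧
      ((ρ g.1 : Matrix ι ι F) *ᵥ v) (H.bar b) =
        -(g.2.1 1 0 ^ 2) * v b + 2 * g.2.1 1 0 * g.2.1 1 1 * v z + g.2.1 1 1 ^ 2 * v (H.bar b) ∧
      ∀ i, i ≠ b → i ≠ z → i ≠ H.bar b → ((ρ g.1 : Matrix ι ι F) *ᵥ v) i = v i
  have hpxy : ∀ t, P (px t) ∧ P (py t) := by
    intro t
    constructor <;> intro v <;> refine ⟨?_, ?_, ?_, fun i i1 i2 i3 => ?_⟩
    all_goals
      simp only [px, py, B.slift_proj hb, B.slift_proj hb', opS_mulVec, sMap_apply, Pi.add_apply,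
        Pi.single_apply, xt_apply (zero_ne_one (α := Fin 2)), xt_apply (one_ne_zero (α := Fin 2)),
        H.bar_bar]
      simp [n1, n2, n3, n1.symm, n2.symm, n3.symm, *]
    all_goals ring
  have hD : ∀ g ∈ D, P g := by
    intro g hg
    induction hg using Subgroup.closure_induction'' with
    | mem x hx =>
      obtain ⟨t, rfl | rfl⟩ := hx
      exacts [(hpxy t).1, (hpxy t).2]
    | inv_mem x hx =>
      obtain ⟨t, rfl | rfl⟩ := hx
      · rw [show (px t)⁻¹ = px (-t) from Prod.ext (B.slift_neg hb t).symm (xt_inv zero_ne_one t)]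
        exact (hpxy _).1
      · rw [show (py t)⁻¹ = py (-t) from Prod.ext
          (by show (slift H ρ z (H.bar b) (-t))⁻¹ = slift H ρ z (H.bar b) (- -t)
              rw [B.slift_neg hb' (-t)])
          (xt_inv one_ne_zero t)]
        exact (hpxy _).2
    | one =>
      intro v
      simp [Matrix.one_apply]
    | mul g g' _ _ hg hg' =>
      intro v
      obtain ⟨a1, a2, a3, a4⟩ := hg ((ρ g'.1 : Matrix ι ι F) *ᵥ v)
      obtain ⟨b1, b2, b3, b4⟩ := hg' v
      simp only [Prod.fst_mul, Prod.snd_mul, map_mul, mulVec_glMul]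
      rw [show (g.2 * g'.2).1 = g.2.1 * g'.2.1 from rfl]
      simp only [Matrix.mul_apply, Fin.sum_univ_two]
      have d1 := g.2.2
      rw [Matrix.det_fin_two] at d1
      refine ⟨?_, ?_, ?_, fun i i1 i2 i3 => (a4 i i1 i2 i3).trans (b4 i i1 i2 i3)⟩
      · rw [a1, b1, b2, b3]; ring
      · rw [a2, b1, b2, b3]; ring
      · rw [a3, b1, b2, b3]; ring
  let f : D →* Matrix.SpecialLinearGroup (Fin 2) F := (MonoidHom.snd E _).comp D.subtype
  let x : F → D := fun t => ⟨px t, Subgroup.subset_closure ⟨t, Or.inl rfl⟩⟩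
  let y : F → D := fun t => ⟨py t, Subgroup.subset_closure ⟨t, Or.inr rfl⟩⟩
  have hsurj : Function.Surjective f := by
    rw [← MonoidHom.range_eq_top]
    refine CfsgLib.Linear.SL_eq_top_of_transvection_mem _ fun a c hac t => ?_
    fin_cases a <;> fin_cases c <;> (try exact absurd rfl hac)
    · exact ⟨x t, xt_eq zero_ne_one t⟩
    · exact ⟨y t, xt_eq one_ne_zero t⟩
  have hcen : f.ker ≤ Subgroup.center D := by
    rintro ⟨⟨e, A⟩, hg⟩ hk
    have hA : A = 1 := hk
    subst hA
    have he : e ∈ Subgroup.center E := B.central (by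
      rw [MonoidHom.mem_ker]
      refine glExt fun v => ?_
      obtain ⟨a1, a2, a3, a4⟩ := hD _ hg v
      rw [mulVec_glOne]
      funext i
      by_cases i1 : i = b
      · subst i1; simpa [Matrix.one_apply] using a1
      by_cases i2 : i = z
      · subst i2; simpa [Matrix.one_apply] using a2
      by_cases i3 : i = H.bar b
      · subst i3; simpa [Matrix.one_apply] using a3
      exact a4 i i1 i2 i3)
    rw [Subgroup.mem_center_iff]
    rintro ⟨⟨e', A'⟩, hg'⟩
    apply Subtype.ext
    exact Prod.ext (Subgroup.mem_center_iff.1 he e') (by simp)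
  have hgen : Subgroup.closure {g | ∃ t, g = x t ∨ g = y t} = ⊤ := by
    rw [eq_top_iff]
    rintro ⟨g, hg⟩ -
    induction hg using Subgroup.closure_induction with
    | mem g hg =>
      obtain ⟨t, rfl | rfl⟩ := hg
      exacts [Subgroup.subset_closure ⟨t, Or.inl rfl⟩, Subgroup.subset_closure ⟨t, Or.inr rfl⟩]
    | one => exact one_mem _
    | mul g g' _ _ hg hg' => exact mul_mem hg hg'
    | inv g _ hg => exact inv_mem hg
  have hadd : ∀ t u, x (t + u) = x t * x u := fun t u =>
    Subtype.ext (Prod.ext (B.slift_add hb t u) (xt_add zero_ne_one t u))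
  have hinj : Function.Injective f := by
    refine sl2_injective f hsurj hcen x y (fun t => rfl) (fun t => rfl) hadd hgen (fun s => ?_)
      (fun a ha t => ?_)
    · set W := x 1 * y (-1) * x 1
      have hW2 : (f W).1 = !![0, 1; -1, 0] := by
        show ((xt (0 : Fin 2) 1 (1 : F)) * xt 1 0 (-1) * xt 0 1 1).1 = _
        ext i j
        fin_cases i <;> fin_cases j <;>
          simp [xt_eq, Matrix.SpecialLinearGroup.transvection_coe,
            Matrix.SpecialLinearGroup.coe_mul, Matrix.mul_apply, Fin.sum_univ_two, Matrix.one_apply,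
            Matrix.single]
      have M : Mono H (ρ W.1.1)
          (fun i => if i = b then H.bar b else if i = H.bar b then b else i)
          (fun i => if i = b ∨ i = H.bar b ∨ i = z then -1 else 1) := by
        refine ⟨Function.Involutive.injective fun i => ?_, fun i => ?_, fun i => ?_, fun i => ?_,
          fun i hi => ?_⟩
        · by_cases i1 : i = b
          · subst i1; simp [n3]
          by_cases i2 : i = H.bar b
          · subst i2; simp [n3]
          simp [i1, i2]
        · by_cases i1 : i = b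
          · subst i1; simp [n3, H.bar_bar]
          by_cases i2 : i = H.bar b
          · subst i2; simp [n3, H.bar_bar]
          have j1 : H.bar i ≠ b := fun e => i2 (by rw [← e, H.bar_bar])
          have j2 : H.bar i ≠ H.bar b := fun e => i1 (H.bar_inj e)
          simp [i1, i2, j1, j2]
        · obtain ⟨a1, a2, a3, a4⟩ := hD _ W.2 (Pi.single i 1)
          rw [show W.1.2.1 = !![0, 1; -1, 0] from hW2] at a1 a2 a3
          simp [-Matrix.mulVec_single, -Matrix.mulVec_single_one] at a1 a2 a3
          funext j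
          by_cases j1 : j = b
          · subst j1; rw [a1]
            by_cases i1 : i = H.bar j
            · subst i1; simp [n3]
            by_cases i2 : i = j
            · subst i2; simp [n3, n3.symm]
            simp [i1, i2, Ne.symm i1, Ne.symm i2]
          by_cases j2 : j = z
          · subst j2; rw [a2]
            by_cases i1 : i = j
            · subst i1; simp [n1, n2]
            by_cases i2 : i = b
            · subst i2; simp [n1, n2]
            by_cases i3 : i = H.bar b
            · subst i3; simp [n1, n2, n3, n2.symm]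
            simp [i1, i2, i3, Ne.symm i1]
          by_cases j3 : j = H.bar b
          · subst j3; rw [a3]
            by_cases i1 : i = b
            · subst i1; simp
            by_cases i2 : i = H.bar b
            · subst i2; simp [n3, n3.symm]
            simp [i1, i2, Ne.symm i1, Ne.symm i2]
          rw [a4 j j1 j2 j3]
          by_cases i1 : i = b
          · subst i1; simp [j1, j3]
          by_cases i2 : i = H.bar b
          · subst i2; simp [j1, j3, n3]
          by_cases i3 : i = z
          · subst i3; simp [j2, i1, i2]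
          simp [i1, i2, i3]
        · show (if i = b ∨ i = H.bar b ∨ i = z then (-1 : F) else 1) ≠ 0
          split_ifs <;> simp
        · by_cases i1 : i = b
          · subst i1; simp
          by_cases i2 : i = H.bar b
          · subst i2; simp [H.bar_bar]
          have i3 : i ≠ z := fun e => hi (by rw [e, B.fix])
          have j1 : H.bar i ≠ b := fun e => i2 (by rw [← e, H.bar_bar])
          have j2 : H.bar i ≠ H.bar b := fun e => i1 (H.bar_inj e)
          have j3 : H.bar i ≠ z := fun e => i3 (H.bar_inj (e.trans B.fix.symm))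
          simp [i1, i2, i3, j1, j2, j3]
      refine Subtype.ext (Prod.ext ?_ ?_)
      · show W.1.1 * slift H ρ z (H.bar b) (-s) * W.1.1⁻¹ = slift H ρ z b (-s)
        rw [B.conj_slift M hb' (by simp)]
        simp [n3]
      · show (f W) * xt 1 0 s * (f W)⁻¹ = xt 0 1 (-s)
        rw [mul_inv_eq_iff_eq_mul]
        apply Subtype.ext
        show (f W).1 * (xt (1 : Fin 2) 0 s).1 = (xt (0 : Fin 2) 1 (-s)).1 * (f W).1
        rw [hW2]
        ext i j
        fin_cases i <;> fin_cases j <;>
          simp [xt_eq, Matrix.SpecialLinearGroup.transvection_coe, Matrix.mul_apply,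
            Fin.sum_univ_two, Matrix.one_apply, Matrix.single]
    · set T := (x a * y (-a⁻¹) * x a) * (x (-1) * y (-(-1 : F)⁻¹) * x (-1))
      have hT2 : (f T).1 = Matrix.diagonal ![a, a⁻¹] := xt_weyl_mul ha
      have M : Mono H (ρ T.1.1) id
          (fun i => if i = b then a ^ 2 else if i = H.bar b then (a⁻¹) ^ 2 else 1) := by
        refine ⟨Function.injective_id, fun _ => rfl, fun i => ?_, fun i => ?_, fun i hi => ?_⟩
        · obtain ⟨a1, a2, a3, a4⟩ := hD _ T.2 (Pi.single i 1)
          rw [show T.1.2.1 = Matrix.diagonal ![a, a⁻¹] from hT2] at a1 a2 a3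
          simp [Matrix.diagonal, ha, -Matrix.mulVec_single, -Matrix.mulVec_single_one] at a1 a2 a3
          funext j
          by_cases j1 : j = b
          · subst j1; rw [a1]
            by_cases i1 : i = j
            · subst i1; simp
            simp [i1, Ne.symm i1]
          by_cases j2 : j = z
          · subst j2; rw [a2]
            by_cases i1 : i = j
            · subst i1; simp [n1, n2]
            simp [i1, Ne.symm i1]
          by_cases j3 : j = H.bar b
          · subst j3; rw [a3]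
            by_cases i1 : i = H.bar b
            · subst i1; simp [n3, inv_pow]
            simp [i1, Ne.symm i1]
          rw [a4 j j1 j2 j3]
          by_cases i1 : i = j
          · subst i1; simp [j1, j3]
          simp [i1, Ne.symm i1]
        · show (if i = b then a ^ 2 else if i = H.bar b then (a⁻¹) ^ 2 else 1) ≠ 0
          split_ifs <;> simp [ha]
        · by_cases i1 : i = b
          · subst i1; simp [n3, ha]
          by_cases i2 : i = H.bar b
          · subst i2; simp [H.bar_bar, n3, ha]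
          have j1 : H.bar i ≠ b := fun e => i2 (by rw [← e, H.bar_bar])
          have j2 : H.bar i ≠ H.bar b := fun e => i1 (H.bar_inj e)
          simp [i1, i2, j1, j2]
      refine Subtype.ext (Prod.ext ?_ ?_)
      · show T.1.1 * slift H ρ z b t * T.1.1⁻¹ = slift H ρ z b (a ^ 2 * t)
        rw [B.slift_diag M hb (by simp [n1, n2])]
        simp [n1, n2]
        rw [mul_comm]
      · show (f T) * xt 0 1 t * (f T)⁻¹ = xt 0 1 (a ^ 2 * t)
        rw [mul_inv_eq_iff_eq_mul]
        apply Subtype.ext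
        show (f T).1 * (xt (0 : Fin 2) 1 t).1 = (xt (0 : Fin 2) 1 (a ^ 2 * t)).1 * (f T).1
        rw [hT2]
        ext i j
        fin_cases i <;> fin_cases j <;>
          simp [xt_eq, Matrix.SpecialLinearGroup.transvection_coe, Matrix.mul_apply,
            Fin.sum_univ_two, Matrix.one_apply, Matrix.single, Matrix.diagonal]
        field_simp
  let eqv : D ≃* Matrix.SpecialLinearGroup (Fin 2) F := MulEquiv.ofBijective f ⟨hinj, hsurj⟩
  let φ : Matrix.SpecialLinearGroup (Fin 2) F →* E :=
    ((MonoidHom.fst E _).comp D.subtype).comp eqv.symm.toMonoidHom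
  have hφx : ∀ t, φ (xt 0 1 t) = slift H ρ z b t := fun t => by
    show (eqv.symm (f (x t))).1.1 = _
    rw [show eqv.symm (f (x t)) = x t from eqv.symm_apply_apply (x t)]
  have hφy : ∀ t, φ (xt 1 0 t) = slift H ρ z (H.bar b) (-t) := fun t => by
    show (eqv.symm (f (y t))).1.1 = _
    rw [show eqv.symm (f (y t)) = y t from eqv.symm_apply_apply (y t)]
  refine ⟨φ, hφx, hφy, fun A v => ?_⟩
  have h1 := hD _ (eqv.symm A).2 v
  rw [show (eqv.symm A).1.2 = A from eqv.apply_symm_apply A] at h1
  exact h1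

theorem wS_neg {b : ι} (hb : H.SOK z b) (t : F) : wS H ρ z b (-t) = (wS H ρ z b t)⁻¹ := by
  rw [wS, wS, inv_neg, B.slift_neg hb, B.slift_neg (B.sok (bar_ne hb.2))]
  group

theorem wS_eq_hS {b : ι} (hb : H.SOK z b) (t : F) :
    wS H ρ z b t = hS H ρ z b t * wS H ρ z b 1 := by
  rw [hS, B.wS_neg hb, inv_mul_cancel_right]

/-- the rank one identity -/
theorem rank_oneS {b : ι} (hb : H.SOK z b) (t s : F) (h : 1 - t * s ≠ 0) :
    slift H ρ z b t * slift H ρ z (H.bar b) s =
      slift H ρ z (H.bar b) (s / (1 - t * s)) * hS H ρ z b (1 - t * s) *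
        slift H ρ z b (t / (1 - t * s)) := by
  obtain ⟨φ, f1, f2, -⟩ := B.exists_sl2S hb
  have hd : hS H ρ z b (1 - t * s) = φ ((xt (0 : Fin 2) 1 (1 - t * s) * xt 1 0 (-(1 - t * s)⁻¹) *
      xt 0 1 (1 - t * s)) * (xt 0 1 (-1) * xt 1 0 (-(-1 : F)⁻¹) * xt 0 1 (-1))) := by
    simp only [map_mul, f1, f2, neg_neg, hS, wS]
  have e1 : slift H ρ z (H.bar b) s = φ (xt 1 0 (-s)) := by rw [f2, neg_neg]
  have e2 : slift H ρ z (H.bar b) (s / (1 - t * s)) = φ (xt 1 0 (-s / (1 - t * s))) := by
    rw [f2, neg_div, neg_neg]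
  rw [hd, e1, e2, ← f1, ← f1, ← map_mul, ← map_mul, ← map_mul]
  congr 1
  apply Subtype.ext
  show (xt (0 : Fin 2) 1 t).1 * (xt 1 0 (-s)).1 = (xt (1 : Fin 2) 0 (-s / (1 - t * s))).1 *
    ((xt (0 : Fin 2) 1 (1 - t * s) * xt 1 0 (-(1 - t * s)⁻¹) * xt 0 1 (1 - t * s)) *
      (xt 0 1 (-1) * xt 1 0 (-(-1 : F)⁻¹) * xt 0 1 (-1))).1 * (xt 0 1 (t / (1 - t * s))).1
  rw [xt_weyl_mul h]
  have h' : 1 - s * t ≠ 0 := by rwa [mul_comm s t]
  ext i j
  fin_cases i <;> fin_cases j <;>
    simp [xt_eq, Matrix.SpecialLinearGroup.transvection_coe, Matrix.mul_apply, Fin.sum_univ_two,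
      Matrix.one_apply, Matrix.single, Matrix.diagonal] <;>
    field_simp <;> ring

theorem conj_wS {g : E} {π : ι → ι} {γ : ι → F} (M : Mono H (ρ g) π γ) {b : ι}
    (hb : H.SOK z b) (hz : γ z * γ z = 1) (t : F) :
    g * wS H ρ z b t * g⁻¹ = wS H ρ z (π b) (t * γ b * γ z) := by
  have e : t⁻¹ * γ (H.bar b) * γ z = (t * γ b * γ z)⁻¹ := by
    rw [_root_.mul_inv, _root_.mul_inv, inv_eq_of_mul_eq_one_right hz,
      inv_eq_of_mul_eq_one_right (M.unit b hb.2)]
  calc g * wS H ρ z b t * g⁻¹ = (g * slift H ρ z b t * g⁻¹) *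
        (g * slift H ρ z (H.bar b) t⁻¹ * g⁻¹) * (g * slift H ρ z b t * g⁻¹) := by rw [wS]; group
    _ = _ := by
      rw [B.conj_slift M hb hz, B.conj_slift M (B.sok (bar_ne hb.2)) hz, e, M.bar, wS]

end BPre

end CfsgLib.SpinCover
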