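import Cfsg.Agent.Lib.ChevClassical.OrthGen
import Cfsg.Agent.Lib.ChevClassical.Reduce
import Cfsg.Agent.Lib.SLCover.Main
import Cfsg.Agent.Lib.SLCover.Universal

/-!
The special linear group of a totally singular coordinate subspace inside the isometry group, and
its lifts to central extensions.
-/

set_option autoImplicit false
set_option linter.unusedSectionVars false

namespace CfsgLib.SpinCover

open Matrix CfsgLib.ChevClassical CfsgLib.SLCover
open scoped commutatorElement

variable {ι : Type} [Fintype ι] [DecidableEq ι] {F : Type*} [Field F]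
variable (H : HypForm ι F)

/-- at most one index of each pair, none paired with itself -/
def Ori (P : Finset ι) : Prop := ∀ i ∈ P, H.bar i ∉ P

variable {H} {P : Finset ι}

theorem Ori.ne (hP : Ori H P) {i : ι} (hi : i ∈ P) : H.bar i ≠ i := fun e => hP i hi (by rwa [e])

theorem Ori.lok (hP : Ori H P) {a b : ι} (ha : a ∈ P) (hb : b ∈ P) (h : a ≠ b) : H.LOK a b :=
  ⟨hP.ne ha, hP.ne hb, h, fun e => hP b hb (e ▸ ha)⟩

theorem Ori.bar_val (hP : Ori H P) (x : P) (y : P) : (H.bar x.1) ≠ y.1 := fun e =>
  hP x.1 x.2 (e ▸ y.2)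

theorem barVal_injective : Function.Injective fun x : P => H.bar x.1 := fun _ _ h =>
  Subtype.ext (H.bar_inj h)

variable (H P) in
/-- block action of a matrix on the span of `P`, contragredient on the partners -/
noncomputable def blockFun (A B : Matrix P P F) (v : ι → F) : ι → F :=
  Function.extend Subtype.val (A *ᵥ fun x : P => v x.1)
    (Function.extend (fun x : P => H.bar x.1) (Bᵀ *ᵥ fun x : P => v (H.bar x.1)) v)

theorem blockFun_val (A B : Matrix P P F) (v : ι → F) (x : P) :
    blockFun H P A B v x.1 = (A *ᵥ fun y : P => v y.1) x :=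
  Subtype.val_injective.extend_apply _ _ x

theorem blockFun_bar (hP : Ori H P) (A B : Matrix P P F) (v : ι → F) (x : P) :
    blockFun H P A B v (H.bar x.1) = (Bᵀ *ᵥ fun y : P => v (H.bar y.1)) x := by
  rw [blockFun, Function.extend_apply' _ _ _ (by rintro ⟨y, e⟩; exact hP.bar_val x y e.symm)]
  exact barVal_injective.extend_apply _ _ x

theorem blockFun_off (A B : Matrix P P F) (v : ι → F) {i : ι} (h : i ∉ P)
    (h' : H.bar i ∉ P) : blockFun H P A B v i = v i := by
  rw [blockFun, Function.extend_apply' _ _ _ (by rintro ⟨y, rfl⟩; exact h y.2),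
    Function.extend_apply' _ _ _ (by
      rintro ⟨y, rfl⟩; rw [H.bar_bar] at h'; exact h' y.2)]

theorem cases_ori (P : Finset ι) (i : ι) :
    (∃ x : P, i = x.1) ∨ (∃ x : P, i = H.bar x.1) ∨ (i ∉ P ∧ H.bar i ∉ P) := by
  by_cases h : i ∈ P
  · exact Or.inl ⟨⟨i, h⟩, rfl⟩
  by_cases h' : H.bar i ∈ P
  · exact Or.inr (Or.inl ⟨⟨_, h'⟩, (H.bar_bar i).symm⟩)
  exact Or.inr (Or.inr ⟨h, h'⟩)

variable (hP : Ori H P)

/-- the block action as a linear map -/
noncomputable def blockMap (A B : Matrix P P F) : (ι → F) →ₗ[F] (ι → F) where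
  toFun := blockFun H P A B
  map_add' v w := by
    funext i
    rcases cases_ori (H := H) P i with ⟨x, rfl⟩ | ⟨x, rfl⟩ | ⟨h, h'⟩
    · simp only [Pi.add_apply, blockFun_val]
      exact congrFun (mulVec_add A (fun y : P => v y.1) fun y : P => w y.1) x
    · simp only [Pi.add_apply, blockFun_bar hP]
      exact congrFun (mulVec_add Bᵀ (fun y : P => v (H.bar y.1)) fun y : P => w (H.bar y.1)) x
    · simp only [Pi.add_apply, blockFun_off _ _ _ h h']
  map_smul' c v := by
    funext i
    rcases cases_ori (H := H) P i with ⟨x, rfl⟩ | ⟨x, rfl⟩ | ⟨h, h'⟩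
    · simp only [Pi.smul_apply, RingHom.id_apply, blockFun_val]
      exact congrFun (mulVec_smul A c fun y : P => v y.1) x
    · simp only [Pi.smul_apply, RingHom.id_apply, blockFun_bar hP]
      exact congrFun (mulVec_smul Bᵀ c fun y : P => v (H.bar y.1)) x
    · simp only [Pi.smul_apply, RingHom.id_apply, blockFun_off _ _ _ h h']

theorem blockMap_apply (A B : Matrix P P F) (v : ι → F) :
    blockMap hP A B v = blockFun H P A B v := rfl

theorem blockMap_comp (A A' B B' : Matrix P P F) :
    (blockMap hP A B).comp (blockMap hP A' B') = blockMap hP (A * A') (B' * B) := by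
  refine LinearMap.ext fun v => ?_
  funext i
  simp only [LinearMap.comp_apply, blockMap_apply]
  rcases cases_ori (H := H) P i with ⟨x, rfl⟩ | ⟨x, rfl⟩ | ⟨h, h'⟩
  · simp only [blockFun_val, ← mulVec_mulVec]
  · simp only [blockFun_bar hP, transpose_mul, ← mulVec_mulVec]
  · simp only [blockFun_off _ _ _ h h']

theorem blockMap_one : blockMap hP (1 : Matrix P P F) 1 = LinearMap.id := by
  refine LinearMap.ext fun v => ?_
  funext i
  simp only [blockMap_apply, LinearMap.id_apply]
  rcases cases_ori (H := H) P i with ⟨x, rfl⟩ | ⟨x, rfl⟩ | ⟨h, h'⟩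
  · simp [blockFun_val]
  · simp [blockFun_bar hP]
  · simp only [blockFun_off _ _ _ h h']

/-- SL on `P` as isometries -/
noncomputable def blk : Matrix.SpecialLinearGroup P F →* GL ι F :=
  MonoidHom.toHomUnits
    { toFun := fun A => LinearMap.toMatrix' (blockMap hP A.1 (A⁻¹).1)
      map_one' := by
        simp [blockMap_one]
      map_mul' := fun A B => by
        rw [_root_.mul_inv_rev, ← LinearMap.toMatrix'_comp, blockMap_comp]
        rfl }

theorem blk_mulVec (A : Matrix.SpecialLinearGroup P F) (v : ι → F) :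
    (blk hP A : Matrix ι ι F) *ᵥ v = blockFun H P A.1 (A⁻¹).1 v :=
  LinearMap.toMatrix'_mulVec _ _

theorem blk_injective : Function.Injective (blk hP (F := F)) := by
  intro A B e
  apply Subtype.ext
  refine Matrix.ext_iff_mulVec.2 fun w => funext fun x => ?_
  have hv : (fun y : P => Function.extend Subtype.val w 0 y.1) = w :=
    funext fun y => Subtype.val_injective.extend_apply _ _ y
  have key := congrFun (congrArg
    (fun g : GL ι F => (g : Matrix ι ι F) *ᵥ Function.extend Subtype.val w 0) e) x.1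
  simpa only [blk_mulVec, blockFun_val, hv] using key

theorem transvection_mulVec {κ : Type*} [Fintype κ] [DecidableEq κ] (a b : κ) (t : F) (w : κ → F) :
    Matrix.transvection a b t *ᵥ w = w + Pi.single a (t * w b) := by
  funext x
  rw [Matrix.transvection, add_mulVec, one_mulVec, Pi.add_apply, Pi.add_apply, mulVec, dotProduct]
  by_cases e : x = a
  · subst e
    simp [Matrix.single_apply, Finset.sum_ite_eq]
  · simp [Matrix.single_apply, Ne.symm e, e]

theorem blk_xt {a b : P} (h : a ≠ b) (t : F) :
    blk hP (xt a b t) = HypForm.opL (hP.lok a.2 b.2 fun e => h (Subtype.ext e)) t := by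
  refine glExt fun v => ?_
  rw [blk_mulVec, HypForm.opL_mulVec, HypForm.lMap_apply, xt_inv h, coe_xt h, coe_xt h]
  funext i
  rcases cases_ori (H := H) P i with ⟨x, rfl⟩ | ⟨x, rfl⟩ | ⟨hi, hi'⟩
  · rw [blockFun_val, transvection_mulVec]
    have h1 : x.1 ≠ H.bar b.1 := (hP.bar_val b x).symm
    by_cases e : x = a
    · subst e
      simp [Pi.single_eq_of_ne h1]
    · simp [Pi.single_eq_of_ne h1, Pi.single_eq_of_ne e,
        Pi.single_eq_of_ne fun e' : x.1 = a.1 => e (Subtype.ext e')]
  · rw [blockFun_bar hP]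
    have e : (Matrix.transvection a b (-t))ᵀ = Matrix.transvection b a (-t) := by
      simp [Matrix.transvection]
    rw [e, transvection_mulVec]
    have h1 : H.bar x.1 ≠ a.1 := hP.bar_val x a
    by_cases e : x = b
    · subst e
      simp [Pi.single_eq_of_ne h1]
    · simp [Pi.single_eq_of_ne h1, Pi.single_eq_of_ne e,
        Pi.single_eq_of_ne fun e' : H.bar x.1 = H.bar b.1 => e (Subtype.ext (H.bar_inj e'))]
  · rw [blockFun_off _ _ _ hi hi']
    have h1 : i ≠ a.1 := fun e => hi (e ▸ a.2)
    have h2 : i ≠ H.bar b.1 := fun e => hi' (by rw [e, H.bar_bar]; exact b.2)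
    simp [Pi.single_eq_of_ne h1, Pi.single_eq_of_ne h2]

/-- A surjection onto a centrally closed perfect group with central kernel splits uniquely. -/
theorem exists_lift {K E T : Type*} [Group K] [Group E] [Finite E] [Group T] [Finite K]
    (ρ : E →* T) (hc : ρ.ker ≤ Subgroup.center E) (φ : K →* T) (hφ : φ.range ≤ ρ.range)
    (hK : commutator K = ⊤)
    (hclosed : ∀ (D : Subgroup (E × K)) (p : D →* K), Function.Surjective p →
      p.ker ≤ Subgroup.center D → commutator D = ⊤ → Function.Injective p) :
    ∃ s : K →* E, ∀ k, ρ (s k) = φ k := by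
  let R : Subgroup (E × K) := (ρ.comp (MonoidHom.fst E K)).eqLocus (φ.comp (MonoidHom.snd E K))
  let D : Subgroup (E × K) := ⁅R, R⁆
  have hDR : D ≤ R := (Subgroup.commutator_le).2 fun a ha b hb =>
    mul_mem (mul_mem (mul_mem ha hb) (inv_mem ha)) (inv_mem hb)
  have hRsurj : R.map (MonoidHom.snd E K) = ⊤ := by
    rw [eq_top_iff]
    intro k _
    obtain ⟨e, he⟩ := hφ ⟨k, rfl⟩
    exact ⟨(e, k), he, rfl⟩
  have hDsurj : D.map (MonoidHom.snd E K) = ⊤ := by
    rw [Subgroup.map_commutator, hRsurj, ← commutator_def, hK]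
  have hker : ∀ x : E × K, x ∈ R → x.2 = 1 → ∀ y : E × K, y * x = x * y := by
    rintro ⟨e, k⟩ hx hk ⟨e', k'⟩
    have hk' : k = 1 := hk
    subst hk'
    have he : e ∈ ρ.ker := by
      have : ρ e = φ 1 := hx
      rwa [map_one] at this
    exact Prod.ext (Subgroup.mem_center_iff.1 (hc he) e') (by simp)
  let p : D →* K := (MonoidHom.snd E K).comp D.subtype
  have hps : Function.Surjective p := fun k => by
    obtain ⟨x, hx, rfl⟩ : k ∈ D.map (MonoidHom.snd E K) := hDsurj ▸ Subgroup.mem_top _
    exact ⟨⟨x, hx⟩, rfl⟩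
  have hpc : p.ker ≤ Subgroup.center D := fun x hx => Subgroup.mem_center_iff.2 fun y =>
    Subtype.ext (hker x.1 (hDR x.2) hx y.1)
  have hDperf : commutator D = ⊤ := by
    -- commutators in `R` only depend on the second coordinate
    let pR : R →* K := (MonoidHom.snd E K).comp R.subtype
    have hpRc : pR.ker ≤ Subgroup.center R := fun x hx => Subgroup.mem_center_iff.2 fun y =>
      Subtype.ext (hker x.1 x.2 hx y.1)
    let D' : Subgroup R := commutator R
    have hD' : D'.map R.subtype = D := by
      rw [show D' = commutator R from rfl, commutator_def, Subgroup.map_commutator,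
        ← MonoidHom.range_eq_map, Subgroup.range_subtype]
    have h1 : (⁅D', D'⁆).map pR = ⊤ := by
      rw [Subgroup.map_commutator, ← Subgroup.map_map, hD', hDsurj, ← commutator_def, hK]
    have h2 := commutator_le_of_map_eq_top pR hpRc _ h1
    have h3 : D ≤ ⁅D, D⁆ := by
      have := Subgroup.map_mono (f := R.subtype) h2
      rwa [Subgroup.map_commutator, hD'] at this
    apply Subgroup.map_injective D.subtype_injective
    rw [commutator_def, Subgroup.map_commutator, ← MonoidHom.range_eq_map, Subgroup.range_subtype]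
    exact le_antisymm ((Subgroup.commutator_le).2 fun a ha b hb =>
      mul_mem (mul_mem (mul_mem ha hb) (inv_mem ha)) (inv_mem hb)) h3
  let eqv : D ≃* K := MulEquiv.ofBijective p ⟨hclosed D p hps hpc hDperf, hps⟩
  refine ⟨((MonoidHom.fst E K).comp D.subtype).comp eqv.symm.toMonoidHom, fun k => ?_⟩
  have h1 : ρ (eqv.symm k).1.1 = φ (eqv.symm k).1.2 := hDR (eqv.symm k).2
  show ρ (eqv.symm k).1.1 = φ k
  rw [h1]
  congr 1
  exact eqv.apply_symm_apply k

variable [Fintype F] {E : Type*} [Group E] [Finite E]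

theorem exists_blockLift (A : Admissible P F) (ρ : E →* GL ι F) (hc : ρ.ker ≤ Subgroup.center E)
    (hmem : ∀ (a b : ι) (h : H.LOK a b) (t : F), HypForm.opL h t ∈ ρ.range) :
    ∃ s : Matrix.SpecialLinearGroup P F →* E, ∀ g, ρ (s g) = blk hP g := by
  have hne : Nonempty P := Fintype.card_pos_iff.1 (by have := A.three; omega)
  refine exists_lift ρ hc (blk hP) ?_ (CfsgLib.Linear.commutator_SL_eq_top (Or.inl A.three))
    fun D p hs hk hd => injective_of_perfect p hs hk hd A
  rw [MonoidHom.range_eq_map,
    ← CfsgLib.Linear.SL_eq_top_of_transvection_mem ((ρ.range).comap (blk hP)) fun a b hab c => ?_,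
    Subgroup.map_comap_eq]
  · exact inf_le_right
  · rw [Subgroup.mem_comap, ← xt_eq hab, blk_xt hP hab]
    exact hmem _ _ _ c

end CfsgLib.SpinCover
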