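import Cfsg.Agent.Lib.SpinCover.Relations

/-!
Weyl and torus elements in a central extension of an orthogonal group.
-/

set_option autoImplicit false
set_option linter.unusedSectionVars false

namespace CfsgLib.SpinCover

open Matrix CfsgLib.ChevClassical CfsgLib.SLCover HypForm
open scoped commutatorElement

variable {ι : Type} [Fintype ι] [DecidableEq ι] {F : Type*} [Field F]
variable {H : HypForm ι F}

theorem opL_single_right {a b : ι} (h : H.LOK a b) (t c : F) :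
    (opL h t : Matrix ι ι F) *ᵥ Pi.single b c = Pi.single b c + Pi.single a (t * c) := by
  have h6 : H.bar a ≠ b := fun e => h.2.2.2 (by rw [← e, H.bar_bar])
  rw [opL_mulVec, lMap_apply]
  simp [Pi.single_eq_of_ne h6]

theorem opL_single_bar {a b : ι} (h : H.LOK a b) (t c : F) :
    (opL h t : Matrix ι ι F) *ᵥ Pi.single (H.bar a) c =
      Pi.single (H.bar a) c + Pi.single (H.bar b) (-(t * c)) := by
  have h6 : b ≠ H.bar a := fun e => h.2.2.2 (by rw [e, H.bar_bar])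
  rw [opL_mulVec, lMap_apply]
  simp [Pi.single_eq_of_ne h6]

theorem opL_single_other {a b i : ι} (h : H.LOK a b) (t c : F) (h1 : i ≠ b) (h2 : i ≠ H.bar a) :
    (opL h t : Matrix ι ι F) *ᵥ Pi.single i c = Pi.single i c :=
  (opL_fixAt h t h1 h2).single c

theorem Mono.one : Mono H (1 : GL ι F) id fun _ => 1 :=
  ⟨Function.injective_id, fun _ => rfl, fun i => by rw [mulVec_glOne]; rfl, fun _ => one_ne_zero,
    fun _ _ => one_mul _⟩

theorem Mono.mul {g g' : GL ι F} {π π' : ι → ι} {γ γ' : ι → F} (M : Mono H g π γ)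
    (M' : Mono H g' π' γ') : Mono H (g * g') (π ∘ π') fun i => γ (π' i) * γ' i := by
  refine ⟨M.inj.comp M'.inj, fun i => ?_, fun i => ?_, fun i => mul_ne_zero (M.ne_zero _) (M'.ne_zero _),
    fun i hi => ?_⟩
  · simp [M'.bar, M.bar]
  · rw [mulVec_glMul, M'.single, M.mulVec_single]; rfl
  · have h1 : H.bar (π' i) ≠ π' i := fun e => hi (M'.inj (by rw [M'.bar, e]))
    rw [M'.bar]
    linear_combination (γ' i * γ' (H.bar i)) * M.unit _ h1 + M'.unit i hi

theorem Mono.ext_single {g g' : GL ι F} {π π' : ι → ι} {γ γ' : ι → F} (M : Mono H g π γ)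
    (M' : Mono H g' π' γ') (hπ : ∀ i, π i = π' i) (hγ : ∀ i, γ i = γ' i) : g = g' := by
  refine Units.ext (Matrix.ext fun x i => ?_)
  have h1 := congrFun (M.single i) x
  have h2 := congrFun (M'.single i) x
  rw [Matrix.mulVec_single_one] at h1 h2
  simp only [Matrix.col_apply] at h1 h2
  rw [h1, h2, hπ, hγ]

variable (H) in
/-- the permutation of a Weyl element -/
def wPerm (x y i : ι) : ι :=
  if i = x then y else if i = y then x else if i = H.bar x then H.bar y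
  else if i = H.bar y then H.bar x else i

variable (H) in
/-- the coefficients of a Weyl element -/
def wCoef (x y : ι) (t : F) (i : ι) : F :=
  if i = x then -t⁻¹ else if i = y then t else if i = H.bar x then -t
  else if i = H.bar y then t⁻¹ else 1

theorem lok_ne {x y : ι} (h : H.LOK x y) :
    x ≠ y ∧ x ≠ H.bar x ∧ x ≠ H.bar y ∧ y ≠ H.bar x ∧ y ≠ H.bar y ∧ H.bar x ≠ H.bar y :=
  ⟨h.2.2.1, h.1.symm, h.2.2.2, fun e => h.2.2.2 (by rw [e, H.bar_bar]), h.2.1.symm,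
    fun e => h.2.2.1 (H.bar_inj e)⟩

theorem wPerm_self {x y : ι} (h : H.LOK x y) :
    wPerm H x y x = y ∧ wPerm H x y y = x ∧ wPerm H x y (H.bar x) = H.bar y ∧
      wPerm H x y (H.bar y) = H.bar x := by
  obtain ⟨h1, h2, h3, h4, h5, h6⟩ := lok_ne h
  simp [wPerm, h1.symm, h2.symm, h3.symm, h4.symm, h5.symm, h6.symm]

theorem wPerm_other {x y i : ι} (h1 : i ≠ x) (h2 : i ≠ y) (h3 : i ≠ H.bar x) (h4 : i ≠ H.bar y) :
    wPerm H x y i = i := by simp [wPerm, h1, h2, h3, h4]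

theorem wCoef_self {x y : ι} (h : H.LOK x y) (t : F) :
    wCoef H x y t x = -t⁻¹ ∧ wCoef H x y t y = t ∧ wCoef H x y t (H.bar x) = -t ∧
      wCoef H x y t (H.bar y) = t⁻¹ := by
  obtain ⟨h1, h2, h3, h4, h5, h6⟩ := lok_ne h
  simp [wCoef, h1.symm, h2.symm, h3.symm, h4.symm, h5.symm, h6.symm]

theorem wCoef_other {x y i : ι} (t : F) (h1 : i ≠ x) (h2 : i ≠ y) (h3 : i ≠ H.bar x)
    (h4 : i ≠ H.bar y) : wCoef H x y t i = 1 := by simp [wCoef, h1, h2, h3, h4]

theorem five_cases (x y i : ι) :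
    i = x ∨ i = y ∨ i = H.bar x ∨ i = H.bar y ∨
      (i ≠ x ∧ i ≠ y ∧ i ≠ H.bar x ∧ i ≠ H.bar y) := by tauto

theorem weyl_mono {x y : ι} (h : H.LOK x y) {t : F} (ht : t ≠ 0) :
    Mono H (opL h t * opL (lok_comm H h) (-t⁻¹) * opL h t) (wPerm H x y) (wCoef H x y t) := by
  obtain ⟨h1, h2, h3, h4, h5, h6⟩ := lok_ne h
  have P := wPerm_self h
  have Cf := wCoef_self h t
  refine ⟨?_, ?_, ?_, ?_, ?_⟩
  · refine Function.Involutive.injective fun i => ?_
    rcases five_cases (H := H) x y i with rfl | rfl | rfl | rfl | ⟨e1, e2, e3, e4⟩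
    all_goals first
      | simp only [P.1, P.2.1, P.2.2.1, P.2.2.2]
      | simp only [wPerm_other e1 e2 e3 e4]
  · intro i
    rcases five_cases (H := H) x y i with rfl | rfl | rfl | rfl | ⟨e1, e2, e3, e4⟩
    all_goals first
      | simp only [P.1, P.2.1, P.2.2.1, P.2.2.2, H.bar_bar]
      | (have f1 : H.bar i ≠ x := fun e => e3 (by rw [← e, H.bar_bar])
         have f2 : H.bar i ≠ y := fun e => e4 (by rw [← e, H.bar_bar])
         have f3 : H.bar i ≠ H.bar x := fun e => e1 (H.bar_inj e)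
         have f4 : H.bar i ≠ H.bar y := fun e => e2 (H.bar_inj e)
         simp only [wPerm_other e1 e2 e3 e4, wPerm_other f1 f2 f3 f4])
  · intro i
    simp only [mulVec_glMul]
    rcases five_cases (H := H) x y i with rfl | rfl | rfl | rfl | ⟨e1, e2, e3, e4⟩
    · rw [opL_single_other h t 1 h1 h2, opL_single_right (lok_comm H h), mulVec_add,
        opL_single_other h t 1 h1 h2, opL_single_right h, P.1, Cf.1, mul_one, mul_neg,
        mul_inv_cancel₀ ht]
      simp only [Pi.single_neg]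
      abel
    · rw [opL_single_right h, mulVec_add, opL_single_other _ _ _ h1.symm h5,
        opL_single_right (lok_comm H h), mulVec_add, mulVec_add, opL_single_right h,
        opL_single_other h _ _ h1 h2, opL_single_right h, P.2.1, Cf.2.1, mul_one, neg_mul,
        inv_mul_cancel₀ ht, mul_neg, mul_one, Pi.single_neg, Pi.single_neg]
      abel
    · rw [opL_single_bar h, mulVec_add, opL_single_other _ _ _ h2.symm h6,
        opL_single_bar (lok_comm H h), mulVec_add, mulVec_add, opL_single_bar h,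
        opL_single_other h _ _ h5.symm h6.symm, opL_single_bar h, P.2.2.1, Cf.2.2.1, mul_one]
      have e1 : -(-t⁻¹ * -t) = (-1 : F) := by field_simp
      rw [e1, mul_neg, mul_one, neg_neg, Pi.single_neg, Pi.single_neg]
      abel
    · rw [opL_single_other h t 1 h5.symm h6.symm, opL_single_bar (lok_comm H h), mulVec_add,
        opL_single_other h t 1 h5.symm h6.symm, opL_single_bar h, P.2.2.2, Cf.2.2.2]
      have e1 : -(t * -(-t⁻¹ * 1)) = (-1 : F) := by field_simp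
      rw [e1, mul_one, neg_neg, Pi.single_neg]
      abel
    · rw [opL_single_other h t 1 e2 e3, opL_single_other (lok_comm H h) _ 1 e1 e4,
        opL_single_other h t 1 e2 e3, wPerm_other e1 e2 e3 e4, wCoef_other t e1 e2 e3 e4]
  · intro i
    rcases five_cases (H := H) x y i with rfl | rfl | rfl | rfl | ⟨e1, e2, e3, e4⟩
    all_goals first
      | (simp [Cf.1, Cf.2.1, Cf.2.2.1, Cf.2.2.2, ht]; done)
      | simp [wCoef_other t e1 e2 e3 e4]
  · intro i hi
    rcases five_cases (H := H) x y i with rfl | rfl | rfl | rfl | ⟨e1, e2, e3, e4⟩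
    all_goals first
      | simp [H.bar_bar, Cf.1, Cf.2.1, Cf.2.2.1, Cf.2.2.2, ht]
      | (have f1 : H.bar i ≠ x := fun e => e3 (by rw [← e, H.bar_bar])
         have f2 : H.bar i ≠ y := fun e => e4 (by rw [← e, H.bar_bar])
         have f3 : H.bar i ≠ H.bar x := fun e => e1 (H.bar_inj e)
         have f4 : H.bar i ≠ H.bar y := fun e => e2 (H.bar_inj e)
         simp [wCoef_other t e1 e2 e3 e4, wCoef_other t f1 f2 f3 f4])

variable [Fintype F] {E : Type*} [Group E] [Finite E]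

variable (H) in
/-- lifted Weyl element -/
noncomputable def wl (ρ : E →* GL ι F) (x y : ι) (t : F) : E :=
  lift H ρ x y t * lift H ρ y x (-t⁻¹) * lift H ρ x y t

variable (H) in
/-- lifted torus element -/
noncomputable def hh (ρ : E →* GL ι F) (x y : ι) (t : F) : E :=
  wl H ρ x y t * wl H ρ x y (-1)

variable {ρ : E →* GL ι F} (C : Cover H ρ)
include C

namespace Cover

theorem wl_mono {x y : ι} (h : H.LOK x y) {t : F} (ht : t ≠ 0) :
    Mono H (ρ (wl H ρ x y t)) (wPerm H x y) (wCoef H x y t) := by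
  rw [wl, map_mul, map_mul, C.proj h, C.proj (lok_comm H h)]
  exact weyl_mono h ht

theorem wl_neg {x y : ι} (h : H.LOK x y) (t : F) :
    wl H ρ x y (-t) = (wl H ρ x y t)⁻¹ := by
  rw [wl, wl, inv_neg, C.lift_neg h, C.lift_neg (lok_comm H h)]
  group

theorem wl_eq_hh {x y : ι} (h : H.LOK x y) (t : F) :
    wl H ρ x y t = hh H ρ x y t * wl H ρ x y 1 := by
  rw [hh, C.wl_neg h, inv_mul_cancel_right]

theorem hh_one {x y : ι} (h : H.LOK x y) : hh H ρ x y 1 = 1 := by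
  rw [hh, C.wl_neg h, mul_inv_cancel]

theorem conj_wl {g : E} {π : ι → ι} {γ : ι → F} (M : Mono H (ρ g) π γ) {x y : ι}
    (h : H.LOK x y) (t : F) :
    g * wl H ρ x y t * g⁻¹ = wl H ρ (π x) (π y) (t * γ x / γ y) := by
  have e : -t⁻¹ * γ y / γ x = -(t * γ x / γ y)⁻¹ := by
    rw [inv_div, neg_mul, neg_div, mul_comm t, div_mul_eq_div_div]
    field_simp
  calc g * wl H ρ x y t * g⁻¹ = (g * lift H ρ x y t * g⁻¹) * (g * lift H ρ y x (-t⁻¹) * g⁻¹) *
        (g * lift H ρ x y t * g⁻¹) := by rw [wl]; group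
    _ = _ := by rw [C.conj_lift M h, C.conj_lift M (lok_comm H h), e, wl]

theorem conj_hh {g : E} {π : ι → ι} {γ : ι → F} (M : Mono H (ρ g) π γ) {x y : ι}
    (h : H.LOK x y) (t : F) :
    g * hh H ρ x y t * g⁻¹ =
      hh H ρ (π x) (π y) (t * γ x / γ y) * (hh H ρ (π x) (π y) (γ x / γ y))⁻¹ := by
  have h' := M.lok h
  calc g * hh H ρ x y t * g⁻¹ = (g * wl H ρ x y t * g⁻¹) * (g * wl H ρ x y (-1) * g⁻¹) := by
        rw [hh]; group
    _ = _ := by
      rw [C.conj_wl M h, C.conj_wl M h, neg_mul, one_mul, neg_div, C.wl_neg h', C.wl_eq_hh h',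
        C.wl_eq_hh h' (γ x / γ y)]
      group

theorem hh_mono {x y : ι} (h : H.LOK x y) {t : F} (ht : t ≠ 0) :
    ∃ γ, Mono H (ρ (hh H ρ x y t)) id γ ∧ γ x = t ∧ γ y = t⁻¹ ∧ γ (H.bar x) = t⁻¹ ∧ γ (H.bar y) = t ∧
      ∀ i, i ≠ x → i ≠ y → i ≠ H.bar x → i ≠ H.bar y → γ i = 1 := by
  have M := (C.wl_mono h ht).mul (C.wl_mono h (neg_ne_zero.2 (one_ne_zero (α := F))))
  have P := wPerm_self h
  have Cf := wCoef_self h t
  have Cn := wCoef_self h (-1 : F)
  have hid : ∀ i, (wPerm H x y ∘ wPerm H x y) i = i := by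
    intro i
    rcases five_cases (H := H) x y i with rfl | rfl | rfl | rfl | ⟨e1, e2, e3, e4⟩
    all_goals first
      | (simp only [Function.comp_apply, P.1, P.2.1, P.2.2.1, P.2.2.2]; done)
      | simp only [Function.comp_apply, wPerm_other e1 e2 e3 e4]
  refine ⟨_, ⟨Function.injective_id, fun i => rfl, fun i => ?_, M.ne_zero, M.unit⟩, ?_, ?_, ?_, ?_, ?_⟩
  · rw [hh, map_mul, M.single, hid]; rfl
  · simp [P.1, Cf.2.1, Cn.1]
  · simp [P.2.1, Cf.1, Cn.2.1]
  · simp [P.2.2.1, Cf.2.2.2, Cn.2.2.1]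
  · simp [P.2.2.2, Cf.2.2.1, Cn.2.2.2]
  · intro i e1 e2 e3 e4
    simp [wPerm_other e1 e2 e3 e4, wCoef_other _ e1 e2 e3 e4]

/-- SL2 of a root and the facts read off from it -/
theorem exists_sl2 {x y : ι} (h : H.LOK x y) :
    ∃ φ : Matrix.SpecialLinearGroup (Fin 2) F →* E,
      (∀ t, φ (xt 0 1 t) = lift H ρ x y t) ∧ (∀ t, φ (xt 1 0 t) = lift H ρ y x t) ∧
      (∀ A v, ((ρ (φ A) : Matrix ι ι F) *ᵥ v) x = A.1 0 0 * v x + A.1 0 1 * v y ∧
        ((ρ (φ A) : Matrix ι ι F) *ᵥ v) y = A.1 1 0 * v x + A.1 1 1 * v y ∧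
        ((ρ (φ A) : Matrix ι ι F) *ᵥ v) (H.bar x) =
          A.1 1 1 * v (H.bar x) - A.1 1 0 * v (H.bar y) ∧
        ((ρ (φ A) : Matrix ι ι F) *ᵥ v) (H.bar y) =
          -(A.1 0 1) * v (H.bar x) + A.1 0 0 * v (H.bar y) ∧
        ∀ i, i ≠ x → i ≠ y → i ≠ H.bar x → i ≠ H.bar y →
          ((ρ (φ A) : Matrix ι ι F) *ᵥ v) i = v i) := by
  obtain ⟨c, h1, h2⟩ := C.exists_mid h
  obtain ⟨P, hP, hsub, Ad⟩ := C.ext _ (ori_triple h h1 h2)
  obtain ⟨s, hs⟩ := C.exists_sec hP Ad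
  have hne : (⟨x, hsub (by simp)⟩ : P) ≠ ⟨y, hsub (by simp)⟩ :=
    fun e => h.2.2.1 (congrArg Subtype.val e)
  have f1 : ∀ t, (s.comp (emb _ _ hne)) (xt (0 : Fin 2) 1 t) = lift H ρ x y t := fun t => by
    rw [MonoidHom.comp_apply, (emb_xt hne t).1, C.sec_lift hs Ad hne]
  have f2 : ∀ t, (s.comp (emb _ _ hne)) (xt (1 : Fin 2) 0 t) = lift H ρ y x t := fun t => by
    rw [MonoidHom.comp_apply, (emb_xt hne t).2, C.sec_lift hs Ad hne.symm]
  refine ⟨s.comp (emb _ _ hne), f1, f2, ?_⟩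
  set φ := s.comp (emb _ _ hne)
  obtain ⟨g1, g2, g3, g4, g5, g6⟩ := lok_ne h
  intro A
  refine CfsgLib.Linear.SL_transvection_induction
    (fun A : Matrix.SpecialLinearGroup (Fin 2) F => ∀ v,
      ((ρ (φ A) : Matrix ι ι F) *ᵥ v) x = A.1 0 0 * v x + A.1 0 1 * v y ∧
        ((ρ (φ A) : Matrix ι ι F) *ᵥ v) y = A.1 1 0 * v x + A.1 1 1 * v y ∧
        ((ρ (φ A) : Matrix ι ι F) *ᵥ v) (H.bar x) =
          A.1 1 1 * v (H.bar x) - A.1 1 0 * v (H.bar y) ∧
        ((ρ (φ A) : Matrix ι ι F) *ᵥ v) (H.bar y) =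
          -(A.1 0 1) * v (H.bar x) + A.1 0 0 * v (H.bar y) ∧
        ∀ i, i ≠ x → i ≠ y → i ≠ H.bar x → i ≠ H.bar y →
          ((ρ (φ A) : Matrix ι ι F) *ᵥ v) i = v i) ?_ ?_ ?_ A
  · intro v
    simp [Matrix.one_apply]
  · intro a b hab t v
    rw [← xt_eq hab]
    fin_cases a <;> fin_cases b <;> (try exact absurd rfl hab)
    all_goals
      simp only [Fin.zero_eta, Fin.mk_one, f1, f2, C.proj h, C.proj (lok_comm H h), opL_mulVec,
        lMap_apply]
    · rw [coe_xt (zero_ne_one (α := Fin 2))]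
      refine ⟨?_, ?_, ?_, ?_, fun i e1 e2 e3 e4 => ?_⟩ <;>
        simp [Matrix.transvection, Pi.single_apply, g1.symm, g2.symm, g3.symm, g4.symm, g5.symm,
          g6.symm, g1, g2, g3, g4, g5, g6, *]
      all_goals ring
    · rw [coe_xt (one_ne_zero (α := Fin 2))]
      refine ⟨?_, ?_, ?_, ?_, fun i e1 e2 e3 e4 => ?_⟩ <;>
        simp [Matrix.transvection, Pi.single_apply, g1.symm, g2.symm, g3.symm, g4.symm, g5.symm,
          g6.symm, g1, g2, g3, g4, g5, g6, *]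
      all_goals ring
  · intro A B hA hB v
    obtain ⟨a1, a2, a3, a4, a5⟩ := hA ((ρ (φ B) : Matrix ι ι F) *ᵥ v)
    obtain ⟨b1, b2, b3, b4, b5⟩ := hB v
    rw [show (A * B).1 = A.1 * B.1 from rfl]
    simp only [map_mul, mulVec_glMul, Matrix.mul_apply, Fin.sum_univ_two]
    refine ⟨?_, ?_, ?_, ?_, fun i e1 e2 e3 e4 => (a5 i e1 e2 e3 e4).trans (b5 i e1 e2 e3 e4)⟩
    · rw [a1, b1, b2]; ring
    · rw [a2, b1, b2]; ring
    · rw [a3, b3, b4]; ring
    · rw [a4, b3, b4]; ring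

/-- identities of rank one -/
theorem rank_one {x y : ι} (h : H.LOK x y) :
    (∀ t : F, t ≠ 0 → wl H ρ x y t = wl H ρ y x (-t⁻¹)) ∧
    (∀ t u : F, t ≠ 0 → u ≠ 0 → hh H ρ x y t * hh H ρ x y u = hh H ρ x y (t * u)) ∧
    (∀ t : F, t ≠ 0 → hh H ρ y x t = hh H ρ x y t⁻¹) ∧
    (∀ t u : F, 1 + t * u ≠ 0 → lift H ρ x y t * lift H ρ y x u =
      lift H ρ y x (u / (1 + t * u)) * hh H ρ x y (1 + t * u) *
        lift H ρ x y (t / (1 + t * u))) := by
  obtain ⟨φ, f1, f2, -⟩ := C.exists_sl2 h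
  have key : ∀ u : F, u ≠ 0 →
      (xt (0 : Fin 2) 1 u * xt 1 0 (-u⁻¹) * xt 0 1 u : Matrix.SpecialLinearGroup (Fin 2) F) =
        xt 1 0 (-u⁻¹) * xt 0 1 u * xt 1 0 (-u⁻¹) := by
    intro u hu
    apply Subtype.ext
    ext a b
    fin_cases a <;> fin_cases b <;>
      simp [xt_eq, Matrix.SpecialLinearGroup.transvection_coe, Matrix.SpecialLinearGroup.coe_mul,
        Matrix.mul_apply, Fin.sum_univ_two, Matrix.one_apply, Matrix.single] <;> field_simp <;> first | ring1 | simp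
  have hw : ∀ t : F, t ≠ 0 → wl H ρ x y t = wl H ρ y x (-t⁻¹) := by
    intro t ht
    rw [wl, wl, inv_neg, inv_inv, neg_neg, ← f1, ← f2, ← map_mul, ← map_mul, key t ht, map_mul,
      map_mul]
  let d : F → Matrix.SpecialLinearGroup (Fin 2) F := fun u =>
    (xt (0 : Fin 2) 1 u * xt 1 0 (-u⁻¹) * xt 0 1 u) *
      (xt 0 1 (-1) * xt 1 0 (-(-1 : F)⁻¹) * xt 0 1 (-1))
  have hd : ∀ u : F, hh H ρ x y u = φ (d u) := fun u => by
    simp only [d, map_mul, f1, f2, hh, wl]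
  have hd' : ∀ u : F, u ≠ 0 → (d u).1 = Matrix.diagonal ![u, u⁻¹] := fun u hu => xt_weyl_mul hu
  refine ⟨hw, fun t u ht hu => ?_, fun t ht => ?_, fun t u htu => ?_⟩
  · rw [hd, hd, hd, ← map_mul]
    congr 1
    apply Subtype.ext
    show (d t).1 * (d u).1 = _
    rw [hd' t ht, hd' u hu, hd' _ (mul_ne_zero ht hu), Matrix.diagonal_mul_diagonal]
    congr 1
    funext i
    fin_cases i <;> simp [mul_comm]
  · have e1 : hh H ρ y x t = φ ((xt 1 0 t * xt 0 1 (-t⁻¹) * xt 1 0 t) *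
        (xt 1 0 (-1) * xt 0 1 (-(-1 : F)⁻¹) * xt 1 0 (-1))) := by
      simp only [map_mul, f1, f2, hh, wl]
    rw [e1, hd]
    congr 1
    apply Subtype.ext
    rw [hd' _ (inv_ne_zero ht)]
    ext a b
    fin_cases a <;> fin_cases b <;>
      simp [xt_eq, Matrix.SpecialLinearGroup.transvection_coe, Matrix.SpecialLinearGroup.coe_mul,
        Matrix.mul_apply, Fin.sum_univ_two, Matrix.one_apply, Matrix.single, Matrix.diagonal] <;>
      field_simp <;> simp <;> ring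
  · rw [hd, ← f1, ← f2, ← f2, ← f1, ← map_mul, ← map_mul, ← map_mul]
    congr 1
    apply Subtype.ext
    show (xt (0 : Fin 2) 1 t).1 * (xt 1 0 u).1 =
      (xt (1 : Fin 2) 0 (u / (1 + t * u))).1 * (d (1 + t * u)).1 * (xt 0 1 (t / (1 + t * u))).1
    rw [hd' _ htu]
    have htu' : 1 + u * t ≠ 0 := by rwa [mul_comm u t]
    ext a b
    fin_cases a <;> fin_cases b <;>
      simp [xt_eq, Matrix.SpecialLinearGroup.transvection_coe, Matrix.mul_apply, Fin.sum_univ_two,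
        Matrix.one_apply, Matrix.single, Matrix.diagonal] <;>
      field_simp <;> ring

/-- torus elements in a triple of indices -/
theorem hh_triangle {a b c : ι} (hab : H.LOK a b) (hbc : H.LOK b c) (hac : H.LOK a c) {t : F}
    (ht : t ≠ 0) : hh H ρ a c t = hh H ρ a b t * hh H ρ b c t := by
  obtain ⟨P, hP, hsub, Ad⟩ := C.ext _ (ori_triple hac hab hbc)
  obtain ⟨s, hs⟩ := C.exists_sec hP Ad
  have ml : ∀ {x y : ι}, x ∈ P → y ∈ P → H.LOK x y → ∀ u : F, lift H ρ x y u ∈ s.range := by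
    intro x y hx hy h u
    exact ⟨xt ⟨x, hx⟩ ⟨y, hy⟩ u,
      C.sec_lift hs Ad (fun e => h.2.2.1 (congrArg Subtype.val e)) u⟩
  have mh : ∀ {x y : ι}, x ∈ P → y ∈ P → H.LOK x y → ∀ u : F, hh H ρ x y u ∈ s.range := by
    intro x y hx hy h u
    simp only [hh, wl]
    repeat' apply mul_mem
    all_goals first | exact ml hx hy h _ | exact ml hy hx (lok_comm H h) _
  have ma : a ∈ P := hsub (by simp)
  have mb : b ∈ P := hsub (by simp)
  have mc : c ∈ P := hsub (by simp)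
  obtain ⟨A, hA⟩ := mh ma mc hac t
  obtain ⟨B, hB⟩ := mul_mem (mh ma mb hab t) (mh mb mc hbc t)
  have e : ρ (hh H ρ a c t) = ρ (hh H ρ a b t * hh H ρ b c t) := by
    obtain ⟨γ, Mγ, u1, u2, u3, u4, u5⟩ := C.hh_mono hac ht
    obtain ⟨δ, Mδ, v1, v2, v3, v4, v5⟩ := C.hh_mono hab ht
    obtain ⟨ε, Mε, w1, w2, w3, w4, w5⟩ := C.hh_mono hbc ht
    rw [map_mul]
    refine Mγ.ext_single (Mδ.mul Mε) (fun _ => rfl) fun i => ?_
    obtain ⟨p1, p2, p3, p4, p5, p6⟩ := lok_ne hab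
    obtain ⟨q1, q2, q3, q4, q5, q6⟩ := lok_ne hbc
    obtain ⟨r1, r2, r3, r4, r5, r6⟩ := lok_ne hac
    simp only [id_eq]
    by_cases i1 : i = a
    · subst i1; rw [u1, v1, w5 _ p1 r1 p3 r3, mul_one]
    by_cases i2 : i = b
    · subst i2; rw [u5 _ p1.symm q1 p4 q3, v2, w1, inv_mul_cancel₀ ht]
    by_cases i3 : i = c
    · subst i3; rw [u2, v5 _ r1.symm q1.symm r4 q4, w2, one_mul]
    by_cases i4 : i = H.bar a
    · subst i4
      rw [u3, v3, w5 _ p4.symm r4.symm p6 r6, mul_one]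
    by_cases i5 : i = H.bar b
    · subst i5
      rw [u5 _ p3.symm q4.symm p6.symm q6, v4, w3, mul_inv_cancel₀ ht]
    by_cases i6 : i = H.bar c
    · subst i6
      rw [u4, v5 _ r3.symm q3.symm r6.symm q6.symm, w4, one_mul]
    rw [u5 i i1 i3 i4 i6, v5 i i1 i2 i4 i5, w5 i i2 i3 i5 i6, one_mul]
  rw [← hA, ← hB, hs, hs] at e
  rw [← hA, ← hB, blk_injective hP e]

end Cover

end CfsgLib.SpinCover
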